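import Cfsg.Agent.Blocks.Covering
import Cfsg.Agent.Clifford.RepBasic

/-!
# Transport of characters and blocks along isomorphisms
-/

set_option linter.unusedSectionVars false
set_option linter.style.haveILetI false

namespace CfsgLib.Blocks

open Cfsg CfsgLib.CharBasics
open scoped ComplexConjugate

variable {A B C : Type*} [Group A] [Group B] [Group C] {M : Ideal AlgInt}

/-- Transport of an irreducible character along an isomorphism. -/
noncomputable def pushChar (φ : A ≃* B) (χ : IrrCharacter A) : IrrCharacter B :=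
  ⟨fun b => (χ : A → ℂ) (φ.symm b),
    CfsgLib.Clifford.isIrrCharacter_comp χ.2 φ.symm.toMonoidHom φ.symm.surjective⟩

@[simp] theorem pushChar_apply (φ : A ≃* B) (χ : IrrCharacter A) (b : B) :
    (pushChar φ χ : B → ℂ) b = (χ : A → ℂ) (φ.symm b) := rfl

theorem pushChar_trans (φ : A ≃* B) (ψ : B ≃* C) (χ : IrrCharacter A) :
    pushChar (φ.trans ψ) χ = pushChar ψ (pushChar φ χ) := rfl

theorem pushChar_refl (χ : IrrCharacter A) : pushChar (MulEquiv.refl A) χ = χ := rfl

theorem pushChar_symm (φ : A ≃* B) (χ : IrrCharacter B) : pushChar φ (pushChar φ.symm χ) = χ :=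
  Subtype.ext (funext fun b => by simp)

theorem pushChar_symm' (φ : A ≃* B) (χ : IrrCharacter A) : pushChar φ.symm (pushChar φ χ) = χ :=
  Subtype.ext (funext fun a => by simp)

theorem pushChar_injective (φ : A ≃* B) : Function.Injective (pushChar φ) := fun χ ψ h => by
  rw [← pushChar_symm' φ χ, h, pushChar_symm']

theorem centralChar_pushChar (φ : A ≃* B) (χ : IrrCharacter A) (a : A) :
    centralChar (pushChar φ χ : B → ℂ) (φ a) = centralChar (χ : A → ℂ) a := by
  have e : (Subgroup.centralizer ({φ a} : Set B)).index = (Subgroup.centralizer ({a} : Set A)).index := by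
    rw [← Subgroup.index_comap_of_surjective _ (f := φ.toMonoidHom) φ.surjective]
    congr 1
    ext x
    rw [Subgroup.mem_comap, Subgroup.mem_centralizer_singleton_iff, Subgroup.mem_centralizer_singleton_iff,
      MulEquiv.coe_toMonoidHom, ← map_mul, ← map_mul, φ.injective.eq_iff]
  simp only [centralChar, pushChar_apply, MulEquiv.symm_apply_apply, e, map_one]

theorem sameBlock_pushChar (φ : A ≃* B) {χ ψ : IrrCharacter A} :
    SameBlock M (pushChar φ χ : B → ℂ) (pushChar φ ψ : B → ℂ) ↔ SameBlock M (χ : A → ℂ) (ψ : A → ℂ) := by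
  refine ⟨fun h a => ?_, fun h b => ?_⟩
  · have := h (φ a)
    rwa [centralChar_pushChar, centralChar_pushChar] at this
  · obtain ⟨a, rfl⟩ := φ.surjective b
    rw [centralChar_pushChar, centralChar_pushChar]
    exact h a

/-- Transport of a set of characters. -/
def pushBlock (φ : A ≃* B) (f : Set (IrrCharacter A)) : Set (IrrCharacter B) := pushChar φ '' f

theorem mem_pushBlock (φ : A ≃* B) {f : Set (IrrCharacter A)} {χ : IrrCharacter B} :
    χ ∈ pushBlock φ f ↔ pushChar φ.symm χ ∈ f := by
  constructor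
  · rintro ⟨ψ, hψ, rfl⟩; rwa [pushChar_symm']
  · exact fun h => ⟨_, h, pushChar_symm φ χ⟩

theorem pushBlock_trans (φ : A ≃* B) (ψ : B ≃* C) (f : Set (IrrCharacter A)) :
    pushBlock (φ.trans ψ) f = pushBlock ψ (pushBlock φ f) :=
  (Set.image_image (pushChar ψ) (pushChar φ) f).symm

theorem pushBlock_refl (f : Set (IrrCharacter A)) : pushBlock (MulEquiv.refl A) f = f := Set.image_id f

theorem isPBlock_pushBlock (φ : A ≃* B) {f : Set (IrrCharacter A)} (hf : IsPBlock M f) :
    IsPBlock M (pushBlock φ f) := by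
  obtain ⟨χ, rfl⟩ := hf
  refine ⟨pushChar φ χ, Set.ext fun ψ => ?_⟩
  rw [mem_pushBlock]
  show SameBlock M _ _ ↔ SameBlock M _ _
  conv_rhs => rw [← pushChar_symm φ ψ]
  exact (sameBlock_pushChar φ).symm

theorem blockCoeff_pushBlock (φ : A ≃* B) (f : Set (IrrCharacter A)) (a : A) :
    blockCoeff (pushBlock φ f) (φ a) = blockCoeff f a := by
  simp only [blockCoeff]
  rw [Nat.card_congr φ.toEquiv, pushBlock, finsum_mem_image (pushChar_injective φ).injOn]
  simp

end CfsgLib.Blocks
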