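import Cfsg.Agent.Blocks.Covered
import Cfsg.Agent.Blocks.Transport
import Cfsg.Agent.Clifford.ExtCriteria
import Cfsg.Agent.Clifford.Extend
import Cfsg.Agent.Clifford.Correspondence
import Cfsg.Agent.S0191

/-!
# Isomorphic principal blocks (Alperin, Dade)

If `N` is normal of index prime to `p` and `G = N C(P)`, restriction is a bijection of principal blocks.
The proof is elementary: members of the principal block do not vanish on `C(P)`, while a nonlinear
character of `G/N` vanishes somewhere.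
-/

set_option linter.unusedSectionVars false
set_option linter.style.haveILetI false

namespace CfsgLib.Blocks

open Cfsg CfsgLib.CharBasics CfsgLib.Clifford

universe u

variable {G : Type u} [Group G] [Fintype G] {p : ℕ} {M : Ideal AlgInt}

/-- Constituents on a normal subgroup of members of the principal block lie in the principal block. -/
theorem constituent_mem_principal (hM : IsPModular p M) {N : Subgroup G} [hN : N.Normal] [Fintype N]
    {χ : IrrCharacter G} (hχ : χ ∈ principalBlock M G) {θ : IrrCharacter N}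
    (hθ : classInner (fun n : N => (χ : G → ℂ) n) (θ : N → ℂ) ≠ 0) : θ ∈ principalBlock M N := by
  have h1 : classInner (fun n : N => ((oneChar : IrrCharacter G) : G → ℂ) n)
      ((oneChar : IrrCharacter N) : N → ℂ) ≠ 0 := by
    rw [show (fun n : N => ((oneChar : IrrCharacter G) : G → ℂ) n) = ((oneChar : IrrCharacter N) : N → ℂ) from rfl,
      classInner_self (oneChar : IrrCharacter N).2]
    exact one_ne_zero
  have hs : SameBlock M (χ : G → ℂ) ((oneChar : IrrCharacter G) : G → ℂ) :=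
    sameBlock_symm (ψ := (χ : G → ℂ)) (χ := fun _ => (1 : ℂ)) hχ
  obtain ⟨g, φ', hφ', he⟩ := exists_conj_mem_blockOf hM θ (oneChar : IrrCharacter N) fun z hz hzi hsupp => by
    rw [← omega_eq_res_constituent hz hsupp χ θ hθ, ← omega_eq_res_constituent hz hsupp oneChar oneChar h1]
    exact omega_sub_mem_of_sameBlock (φ := χ) (ψ := oneChar) hM hs hz hzi
  have e : φ' = (oneChar : IrrCharacter N) := Subtype.ext (he.trans rfl)
  rw [e] at hφ'
  exact sameBlock_symm (χ := (θ : N → ℂ)) (ψ := fun _ : N => (1 : ℂ)) hφ'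

/-- On `C(P)` the members of the principal block are congruent to their degree. -/
theorem principal_div_sub_one_mem (hM : IsPModular p M) (P : Sylow p G) {χ : IrrCharacter G}
    (hχ : χ ∈ principalBlock M G) {z : G} (hz : z ∈ Subgroup.centralizer ((P : Subgroup G) : Set G)) :
    MemLocalIdeal M ((χ : G → ℂ) z / (χ : G → ℂ) 1 - 1) := by
  haveI := Fact.mk hM.1
  set k := (Subgroup.centralizer ({z} : Set G)).index with hk
  have hle : (P : Subgroup G) ≤ Subgroup.centralizer ({z} : Set G) := fun x hx =>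
    Subgroup.mem_centralizer_singleton_iff.2 (Subgroup.mem_centralizer_iff.1 hz x hx)
  have hpk : ¬ p ∣ k := fun h => P.not_dvd_index (h.trans (Subgroup.index_dvd_of_le hle))
  have h := hχ z
  simp only [centralChar, mul_one, div_one] at h
  have h2 := memLocalIdeal_mul_left hM (memLocalRing_natCast_inv hM hpk) (memLocalIdeal_neg h)
  have hk0 : (k : ℂ) ≠ 0 := Nat.cast_ne_zero.2 fun h0 => hpk (h0 ▸ dvd_zero p)
  convert h2 using 1
  rw [← hk]
  field_simp
  ring

theorem principal_apply_ne_zero (hM : IsPModular p M) (P : Sylow p G) {χ : IrrCharacter G}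
    (hχ : χ ∈ principalBlock M G) {z : G} (hz : z ∈ Subgroup.centralizer ((P : Subgroup G) : Set G)) :
    (χ : G → ℂ) z ≠ 0 := fun h => by
  have h2 := principal_div_sub_one_mem hM P hχ hz
  rw [h, zero_div, zero_sub] at h2
  exact not_memLocalIdeal_one hM (by simpa using memLocalIdeal_neg h2)

/-- A root of unity of order prime to `p` congruent to one is one. -/
theorem root_eq_one_of_sub_mem (hM : IsPModular p M) {ζ : ℂ} {m : ℕ} (hm : ¬ p ∣ m) (h : ζ ^ m = 1)
    (hc : MemLocalIdeal M (ζ - 1)) : ζ = 1 := by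
  by_contra hne
  have hm0 : 0 < m := Nat.pos_of_ne_zero fun h0 => hm (h0 ▸ dvd_zero p)
  have hint : IsIntegral ℤ ζ := IsIntegral.of_pow hm0 (h ▸ isIntegral_one)
  have hζ : MemLocalRing M ζ := memLocalRing_of_isIntegral hM hint
  have hsum : ∑ i ∈ Finset.range m, ζ ^ i = 0 :=
    (mul_eq_zero.1 (by rw [geom_sum_mul, h, sub_self] : (∑ i ∈ Finset.range m, ζ ^ i) * (ζ - 1) = 0)).resolve_right
      (sub_ne_zero.2 hne)
  have h2 : MemLocalIdeal M (∑ i ∈ Finset.range m, (ζ ^ i - 1)) := by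
    refine memLocalIdeal_sum hM _ fun i _ => ?_
    rw [← geom_sum_mul]
    exact memLocalIdeal_mul_left hM (memLocalRing_sum hM _ fun j _ => memLocalRing_pow hM hζ j) hc
  rw [Finset.sum_sub_distrib, hsum, Finset.sum_const, Finset.card_range, nsmul_eq_mul, mul_one, zero_sub] at h2
  exact hm ((memLocalIdeal_natCast_iff hM m).1 (by simpa using memLocalIdeal_neg h2))

/-- A nonlinear irreducible character has a zero. -/
theorem apply_one_eq_one_of_ne_zero {β : G → ℂ} (hβ : Cfsg.IsIrrCharacter G β) (h : ∀ g, β g ≠ 0) :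
    β 1 = 1 := by
  obtain ⟨k, ρ, hρ, rfl⟩ := hβ
  have hk : k ≤ 1 := by
    by_contra hk
    haveI := hρ
    obtain ⟨g, hg⟩ := Cfsg.Agent.S0191.result ρ (by rw [Module.finrank_fin_fun]; omega)
    exact h g hg
  have hpos : ρ.character 1 ≠ 0 := h 1
  rw [Representation.char_one, Module.finrank_fin_fun] at hpos ⊢
  have : k ≠ 0 := fun h0 => hpos (by simp [h0])
  exact_mod_cast (show k = 1 by omega)

/-- With an extension at hand, members of the principal block restrict irreducibly. -/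
theorem restrict_eq_of_extension (hM : IsPModular p M) (P : Sylow p G) {N : Subgroup G} [hN : N.Normal]
    [Fintype N] (hsup : N ⊔ Subgroup.centralizer ((P : Subgroup G) : Set G) = ⊤) {θ : IrrCharacter N}
    {η : G → ℂ} (hη : Cfsg.IsIrrCharacter G η) (hext : ∀ n : N, η n = (θ : N → ℂ) n)
    {χ : IrrCharacter G} (hχ : χ ∈ principalBlock M G)
    (hθ : classInner (fun n : N => (χ : G → ℂ) n) (θ : N → ℂ) ≠ 0) (n : N) :
    (χ : G → ℂ) n = (θ : N → ℂ) n := by
  classical
  have h1θ : ((fun _ => 1) * (θ : N → ℂ) : N → ℂ) = (θ : N → ℂ) := funext fun n => one_mul _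
  have hgal := gallagher_bijOn (G := G) (φ := fun _ : N => (1 : ℂ)) CfsgLib.CharBasics.isIrrCharacter_one
    (fun g => rfl) (h1θ.symm ▸ θ.2) (isCharacter_of_irr hη) hext
  rw [h1θ] at hgal
  have hmem : (χ : G → ℂ) ∈ {ψ : G → ℂ | Cfsg.IsIrrCharacter G ψ ∧
      Cfsg.classInner (Cfsg.indFun N (θ : N → ℂ)) ψ ≠ 0} := by
    refine ⟨χ.2, ?_⟩
    rw [classInner_indFun N _ (isClassFunction (isCharacter_of_irr χ.2)), classInner_comm, Ne, map_eq_zero]
    exact hθ
  obtain ⟨β, ⟨hβ, hβ1⟩, hβχ⟩ := hgal.surjOn hmem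
  have hk := (mem_over_one_iff hβ).mp hβ1
  simp only at hβχ
  have hnz : ∀ g : G, β g ≠ 0 := by
    intro g h0
    have hg : g ∈ (↑(N ⊔ Subgroup.centralizer ((P : Subgroup G) : Set G)) : Set G) := by
      rw [hsup]; trivial
    rw [Subgroup.normal_mul] at hg
    obtain ⟨a, ha, c, hc, rfl⟩ := hg
    rw [apply_mul_of_apply_eq (isCharacter_of_irr hβ) (hk a ha) c] at h0
    refine principal_apply_ne_zero hM P hχ hc ?_
    rw [← hβχ, Pi.mul_apply, h0, zero_mul]
  have hb1 := apply_one_eq_one_of_ne_zero hβ hnz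
  rw [← hext n, ← hβχ, Pi.mul_apply, hk n n.2, hb1, one_mul]

/-- Invariance over a quotient generated by an element of `C(P)`. -/
theorem conjFun_eq_of_principal (hM : IsPModular p M) (P : Sylow p G) {N : Subgroup G} [hN : N.Normal]
    [Fintype N] {z : G} (hz : z ∈ Subgroup.centralizer ((P : Subgroup G) : Set G))
    (hgen : N ⊔ Subgroup.zpowers z = ⊤) {χ : IrrCharacter G} (hχ : χ ∈ principalBlock M G)
    {θ : IrrCharacter N} (hθ : classInner (fun n : N => (χ : G → ℂ) n) (θ : N → ℂ) ≠ 0) :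
    conjFun z (θ : N → ℂ) = (θ : N → ℂ) := by
  classical
  by_contra hne
  set T := inertia (G := G) (θ : N → ℂ) with hT
  have hNT : N ≤ T := le_inertia (isClassFunction (isCharacter_of_irr θ.2))
  obtain ⟨ψ, -, hind, -, -⟩ := exists_inertia_correspondent χ.2 θ.2 hθ T rfl hNT
  refine principal_apply_ne_zero hM P hχ hz ?_
  rw [← hind, Cfsg.indFun]
  refine mul_eq_zero_of_right _ (Finset.sum_eq_zero fun x _ => ?_)
  refine extendByZero_of_not_mem _ _ fun hx => hne ?_
  -- `x⁻¹ z x z⁻¹ ∈ N`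
  have hg : x ∈ (↑(N ⊔ Subgroup.zpowers z) : Set G) := by rw [hgen]; trivial
  rw [Subgroup.normal_mul] at hg
  obtain ⟨a, ha, w, ⟨i, rfl⟩, rfl⟩ := hg
  have hN1 : a⁻¹ * (z * a * z⁻¹) ∈ N := N.mul_mem (N.inv_mem ha) (hN.conj_mem a ha z)
  have hN2 := hN.conj_mem _ hN1 ((z ^ i)⁻¹)
  have hmem : z ∈ T := by
    have e : z = ((z ^ i)⁻¹ * (a⁻¹ * (z * a * z⁻¹)) * ((z ^ i)⁻¹)⁻¹)⁻¹ *
        ((a * z ^ i)⁻¹ * z * (a * z ^ i)) := by
      group
    rw [e]
    exact T.mul_mem (T.inv_mem (hNT hN2)) hx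
  exact mem_inertia.1 hmem

/-- The cyclic step. -/
theorem exists_extension_cyclic_step (hM : IsPModular p M) (P : Sylow p G) {N : Subgroup G} [hN : N.Normal]
    [Fintype N] {z : G} (hz : z ∈ Subgroup.centralizer ((P : Subgroup G) : Set G))
    (hgen : N ⊔ Subgroup.zpowers z = ⊤) {θ : IrrCharacter N} (hθ : θ ∈ principalBlock M N) :
    ∃ χ ∈ principalBlock M G, ∀ n : N, (χ : G → ℂ) n = (θ : N → ℂ) n := by
  classical
  obtain ⟨χ, hχ, hne⟩ := exists_constituent_of_mem (G := G) hM isPBlock_principal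
    (θ₀ := (oneChar : IrrCharacter N)) (θ := θ) hθ (oneChar_mem_principal hM) (by
      rw [show (fun n : N => ((oneChar : IrrCharacter G) : G → ℂ) n) = ((oneChar : IrrCharacter N) : N → ℂ) from rfl,
        classInner_self (oneChar : IrrCharacter N).2]
      exact one_ne_zero)
  have hzinv := conjFun_eq_of_principal hM P hz hgen hχ hne
  have hinv : ∀ g : G, conjFun g (θ : N → ℂ) = (θ : N → ℂ) := by
    intro g
    refine mem_inertia.1 ?_
    have : N ⊔ Subgroup.zpowers z ≤ inertia (G := G) (θ : N → ℂ) :=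
      sup_le (le_inertia (isClassFunction (isCharacter_of_irr θ.2))) (Subgroup.zpowers_le.2 hzinv)
    exact this (hgen ▸ Subgroup.mem_top g)
  obtain ⟨k, σ, hσ, hσθ⟩ := θ.2
  have hcyc : IsCyclic (G ⧸ N) := by
    refine ⟨⟨(z : G ⧸ N), fun q => ?_⟩⟩
    obtain ⟨g, rfl⟩ := QuotientGroup.mk_surjective q
    have hg : g ∈ (↑(N ⊔ Subgroup.zpowers z) : Set G) := by rw [hgen]; trivial
    rw [Subgroup.normal_mul] at hg
    obtain ⟨a, ha, w, ⟨i, rfl⟩, rfl⟩ := hg
    refine ⟨i, ?_⟩
    show ((z : G ⧸ N)) ^ i = _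
    rw [QuotientGroup.mk_mul, (QuotientGroup.eq_one_iff a).2 ha, one_mul, QuotientGroup.mk_zpow]
  obtain ⟨ρ, hρ, hres⟩ := exists_extension_of_cyclic hcyc hσ fun g n => by
    rw [hσθ]
    exact (congrArg _ (Subtype.ext (MulAut.conjNormal_apply g n))).trans (congrFun (hinv g) n)
  refine ⟨χ, hχ, restrict_eq_of_extension hM P ?_ ⟨k, ρ, hρ, rfl⟩ (fun n => ?_) hχ hne⟩
  · exact le_antisymm le_top (hgen ▸ sup_le_sup_left (Subgroup.zpowers_le.2 hz) N)
  · rw [← hσθ]
    exact congrArg (LinearMap.trace ℂ _) (hres n)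

/-- `θ` extends to a member of the principal block of `H`. -/
def ExtPrincipal (M : Ideal AlgInt) {N : Subgroup G} (θ : N → ℂ) (H : Subgroup G) : Prop :=
  ∃ hNH : N ≤ H, ∃ χ : IrrCharacter H, χ ∈ principalBlock M H ∧
    ∀ n : N, (χ : H → ℂ) ⟨(n : G), hNH n.2⟩ = θ n

theorem extPrincipal_self {N : Subgroup G} {θ : IrrCharacter N} (hθ : θ ∈ principalBlock M N) :
    ExtPrincipal M (θ : N → ℂ) N :=
  ⟨le_rfl, θ, hθ, fun _ => rfl⟩

/-- The step inside the group. -/
theorem extPrincipal_step (hM : IsPModular p M) (P : Sylow p G) {N K H : Subgroup G} {θ : N → ℂ}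
    (hKH : K ≤ H) (hnorm : (K.subgroupOf H).Normal) {z : G} (hzH : z ∈ H)
    (hz : z ∈ Subgroup.centralizer ((P : Subgroup G) : Set G)) (hgen : K ⊔ Subgroup.zpowers z = H)
    (hPK : (P : Subgroup G) ≤ K) (h : ExtPrincipal M θ K) : ExtPrincipal M θ H := by
  classical
  obtain ⟨hNK, φ, hφ, hres⟩ := h
  haveI := hnorm
  set e : K.subgroupOf H ≃* K := Subgroup.subgroupOfEquivOfLe hKH
  have hφ' : pushChar e.symm φ ∈ principalBlock M (K.subgroupOf H) :=
    (sameBlock_pushChar (χ := oneChar) (ψ := φ) e.symm).2 hφ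
  have hPH : (P : Subgroup G) ≤ H := hPK.trans hKH
  obtain ⟨χ, hχ, hχres⟩ := exists_extension_cyclic_step hM (P.subtype hPH) (N := K.subgroupOf H) (z := ⟨z, hzH⟩)
    (by
      rw [Subgroup.mem_centralizer_iff]
      intro x hx
      exact Subtype.ext (Subgroup.mem_centralizer_iff.1 hz (x : G) hx))
    (by
      have e1 : Subgroup.zpowers (⟨z, hzH⟩ : H) = (Subgroup.zpowers z).subgroupOf H := by
        refine Subgroup.map_injective H.subtype_injective ?_
        rw [Subgroup.subgroupOf_map_subtype, MonoidHom.map_zpowers,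
          inf_eq_left.2 (Subgroup.zpowers_le.2 hzH)]
        rfl
      rw [e1, ← Subgroup.subgroupOf_sup hKH (Subgroup.zpowers_le.2 hzH), hgen, Subgroup.subgroupOf_self]) hφ'
  refine ⟨hNK.trans hKH, χ, hχ, fun n => ?_⟩
  rw [← hres n]
  have := hχres (e.symm ⟨(n : G), hNK n.2⟩)
  rw [pushChar_apply, MulEquiv.symm_symm, MulEquiv.apply_symm_apply] at this
  exact this

/-- Members of the principal block of `N` are invariant under `N C(P)`. -/
theorem conjFun_eq_of_centralizer (hM : IsPModular p M) (P : Sylow p G) {N : Subgroup G} [hN : N.Normal]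
    (hPN : (P : Subgroup G) ≤ N) (hsup : N ⊔ Subgroup.centralizer ((P : Subgroup G) : Set G) = ⊤)
    {θ : IrrCharacter N} (hθ : θ ∈ principalBlock M N) (g : G) : conjFun g (θ : N → ℂ) = (θ : N → ℂ) := by
  refine mem_inertia.1 ?_
  have hle : N ⊔ Subgroup.centralizer ((P : Subgroup G) : Set G) ≤ inertia (G := G) (θ : N → ℂ) := by
    refine sup_le (le_inertia (isClassFunction (isCharacter_of_irr θ.2))) fun z hz => ?_
    obtain ⟨hNH, χ, -, hres⟩ := extPrincipal_step hM P (K := N) (H := N ⊔ Subgroup.zpowers z) le_sup_left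
      inferInstance (Subgroup.mem_sup_right (Subgroup.mem_zpowers z)) hz rfl hPN (extPrincipal_self hθ)
    refine mem_inertia.2 (funext fun n => ?_)
    rw [conjFun_apply, ← hres, ← hres]
    exact isClassFunction (isCharacter_of_irr χ.2) ⟨(n : G), hNH n.2⟩
      ⟨z, Subgroup.mem_sup_right (Subgroup.mem_zpowers z)⟩
  exact hle (hsup ▸ Subgroup.mem_top g)

/-- Extensions to the Sylow subgroups of the quotient. -/
theorem exists_extPrincipal_pow (hM : IsPModular p M) (P : Sylow p G) {N : Subgroup G} [hN : N.Normal]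
    (hPN : (P : Subgroup G) ≤ N) (hsup : N ⊔ Subgroup.centralizer ((P : Subgroup G) : Set G) = ⊤)
    {θ : IrrCharacter N} (hθ : θ ∈ principalBlock M N) (q : ℕ) [Fact q.Prime] (n : ℕ)
    (hn : q ^ n ∣ Nat.card (G ⧸ N)) :
    ∃ Q : Subgroup (G ⧸ N), Nat.card Q = q ^ n ∧
      ExtPrincipal M (θ : N → ℂ) (Q.comap (QuotientGroup.mk' N)) := by
  classical
  induction n with
  | zero =>
    refine ⟨⊥, by simp, ?_⟩
    rw [MonoidHom.comap_bot, QuotientGroup.ker_mk']
    exact extPrincipal_self hθ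
  | succ n ih =>
    obtain ⟨R, hR, hRext⟩ := ih ((pow_dvd_pow q n.le_succ).trans hn)
    obtain ⟨Q, hQ, hRQ⟩ := Sylow.exists_subgroup_card_pow_succ hn hR
    refine ⟨Q, hQ, ?_⟩
    have hq : Nat.Prime q := Fact.out
    have hidx : (R.subgroupOf Q).index = q := by
      have h1 := (R.subgroupOf Q).card_mul_index
      rw [Nat.card_congr (Subgroup.subgroupOfEquivOfLe hRQ).toEquiv, hR, hQ, pow_succ] at h1
      exact Nat.eq_of_mul_eq_mul_left (pow_pos hq.pos n) h1
    haveI : (R.subgroupOf Q).Normal := Subgroup.normal_of_index_eq_minFac_card (by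
      rw [hidx, hQ, Nat.pow_minFac n.succ_ne_zero, hq.minFac_eq])
    set π := QuotientGroup.mk' N with hπ
    obtain ⟨x, hxQ, hxR⟩ : ∃ x ∈ Q, x ∉ R := by
      by_contra hcon
      push Not at hcon
      have e : q ^ (n + 1) = q ^ n := by rw [← hQ, ← hR, le_antisymm (show Q ≤ R from hcon) hRQ]
      exact Nat.succ_ne_self n (Nat.pow_right_injective hq.two_le e)
    obtain ⟨g, rfl⟩ := QuotientGroup.mk'_surjective N x
    have hg : g ∈ (↑(N ⊔ Subgroup.centralizer ((P : Subgroup G) : Set G)) : Set G) := by rw [hsup]; trivial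
    rw [Subgroup.normal_mul] at hg
    obtain ⟨a, ha, c, hc, rfl⟩ := hg
    have hπa : π (a * c) = π c := by
      rw [map_mul, show π a = 1 from (QuotientGroup.eq_one_iff a).2 ha, one_mul]
    change π (a * c) ∈ Q at hxQ
    change ¬ π (a * c) ∈ R at hxR
    rw [hπa] at hxQ hxR
    have hgen : R.comap π ⊔ Subgroup.zpowers c = Q.comap π := by
      refine le_antisymm (sup_le (Subgroup.comap_mono hRQ) (Subgroup.zpowers_le.2 hxQ)) fun y hy => ?_
      -- `R < R ⊔ ⟨π c⟩ ≤ Q`, index `q`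
      have hS : R ⊔ Subgroup.zpowers (π c) = Q := by
        have hSQ : R ⊔ Subgroup.zpowers (π c) ≤ Q := sup_le hRQ (Subgroup.zpowers_le.2 hxQ)
        refine Subgroup.eq_of_le_of_card_ge hSQ ?_
        obtain ⟨j, hj, hcard⟩ := (Nat.dvd_prime_pow hq).1 (hQ ▸ Subgroup.card_dvd_of_le hSQ)
        rw [hQ, hcard]
        refine Nat.pow_le_pow_right hq.pos (Nat.succ_le_of_lt (lt_of_not_ge fun hle => hxR ?_))
        have he : R = R ⊔ Subgroup.zpowers (π c) := Subgroup.eq_of_le_of_card_ge le_sup_left (by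
          rw [hcard, hR]; exact Nat.pow_le_pow_right hq.pos hle)
        rw [he]
        exact Subgroup.mem_sup_right (Subgroup.mem_zpowers _)
      have hmap : (R.comap π ⊔ Subgroup.zpowers c).map π = Q := by
        rw [Subgroup.map_sup, Subgroup.map_comap_eq_self_of_surjective (QuotientGroup.mk'_surjective N),
          MonoidHom.map_zpowers, hS]
      have h3 : y ∈ ((R.comap π ⊔ Subgroup.zpowers c).map π).comap π := by rw [hmap]; exact hy
      rw [Subgroup.comap_map_eq, sup_eq_left.2 ((MonoidHom.ker_le_comap π R).trans le_sup_left)] at h3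
      exact h3
    refine extPrincipal_step hM P (Subgroup.comap_mono hRQ) ⟨fun k hk y => ?_⟩ hxQ hc hgen
      (hPN.trans ((QuotientGroup.ker_mk' N).symm.le.trans (MonoidHom.ker_le_comap π R))) hRext
    rw [Subgroup.mem_subgroupOf, Subgroup.mem_comap] at hk ⊢
    have := (inferInstance : (R.subgroupOf Q).Normal).conj_mem ⟨π k, k.2⟩ hk ⟨π y, y.2⟩
    rw [Subgroup.mem_subgroupOf] at this
    simpa using this

/-- Members of the principal block of `N` extend to `G`. -/
theorem exists_charExtension_principal (hM : IsPModular p M) (P : Sylow p G) {N : Subgroup G} [hN : N.Normal]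
    (hPN : (P : Subgroup G) ≤ N) (hsup : N ⊔ Subgroup.centralizer ((P : Subgroup G) : Set G) = ⊤)
    {θ : IrrCharacter N} (hθ : θ ∈ principalBlock M N) :
    ∃ η : G → ℂ, Cfsg.IsIrrCharacter G η ∧ ∀ n : N, η n = (θ : N → ℂ) n := by
  classical
  refine exists_charExtension_of_sylow θ.2 (fun g n => congrFun (conjFun_eq_of_centralizer hM P hPN hsup hθ g) n)
    fun q hq => ?_
  haveI := Fact.mk hq
  obtain ⟨Q, hQ, hNQ, χ, -, hres⟩ :=
    exists_extPrincipal_pow hM P hPN hsup hθ q ((Nat.card (G ⧸ N)).factorization q) (Nat.ordProj_dvd _ _)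
  refine ⟨Q.comap (QuotientGroup.mk' N), hNQ, (χ : _ → ℂ), ?_, isCharacter_of_irr χ.2, hres⟩
  rw [Subgroup.index_comap_of_surjective _ (QuotientGroup.mk'_surjective N)]
  refine (hq.coprime_iff_not_dvd.2 fun hd => ?_).symm
  refine Nat.pow_succ_factorization_not_dvd (Nat.card_pos (α := G ⧸ N)).ne' hq ?_
  have h1 := Q.card_mul_index
  rw [hQ] at h1
  conv_rhs => rw [← h1]
  rw [pow_succ]
  exact mul_dvd_mul_left _ hd

/-- Alperin, Dade: restriction is a bijection of principal blocks. -/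
theorem alperin_dade (hM : IsPModular p M) (P : Sylow p G) {N : Subgroup G} [hN : N.Normal]
    (hidx : ¬ p ∣ N.index) (hsup : N ⊔ Subgroup.centralizer ((P : Subgroup G) : Set G) = ⊤) :
    (∀ χ ∈ principalBlock M G, ∃ θ ∈ principalBlock M N, ∀ n : N, (χ : G → ℂ) n = (θ : N → ℂ) n) ∧
      ∀ θ ∈ principalBlock M N, ∃! χ : IrrCharacter G, χ ∈ principalBlock M G ∧
        ∀ n : N, (χ : G → ℂ) n = (θ : N → ℂ) n := by
  classical
  haveI := Fact.mk hM.1
  have hPN : (P : Subgroup G) ≤ N := by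
    intro x hx
    rw [← QuotientGroup.eq_one_iff]
    obtain ⟨k, hk⟩ := P.isPGroup' ⟨x, hx⟩
    have hk' : x ^ p ^ k = 1 := congrArg Subtype.val hk
    refine orderOf_eq_one_iff.1 (Nat.eq_one_of_dvd_coprimes (hM.1.coprime_iff_not_dvd.2 hidx |>.pow_left k)
      (orderOf_dvd_of_pow_eq_one ?_) (orderOf_dvd_natCard _))
    rw [← QuotientGroup.mk_pow, hk', QuotientGroup.mk_one]
  refine ⟨fun χ hχ => ?_, fun θ hθ => ?_⟩
  · obtain ⟨θ, hne⟩ := exists_constituent_restrict N χ
    have hθ := constituent_mem_principal hM hχ hne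
    obtain ⟨η, hη, hext⟩ := exists_charExtension_principal hM P hPN hsup hθ
    exact ⟨θ, hθ, restrict_eq_of_extension hM P hsup hη hext hχ hne⟩
  obtain ⟨η, hη, hext⟩ := exists_charExtension_principal hM P hPN hsup hθ
  obtain ⟨χ, hχ, hne⟩ := exists_constituent_of_mem (G := G) hM isPBlock_principal
    (θ₀ := (oneChar : IrrCharacter N)) (θ := θ) hθ (oneChar_mem_principal hM) (by
      rw [show (fun n : N => ((oneChar : IrrCharacter G) : G → ℂ) n) = ((oneChar : IrrCharacter N) : N → ℂ) from rfl,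
        classInner_self (oneChar : IrrCharacter N).2]
      exact one_ne_zero)
  have hres := restrict_eq_of_extension hM P hsup hη hext hχ hne
  refine ⟨χ, ⟨hχ, hres⟩, fun χ' hχ' => ?_⟩
  obtain ⟨hmem', hres'⟩ := hχ'
  obtain ⟨f, hf, heq⟩ := extension_eq_linear_mul θ.2 χ.2 hres χ'.2 hres'
  refine Subtype.ext ?_
  rw [heq]
  funext g
  have hg : g ∈ (↑(N ⊔ Subgroup.centralizer ((P : Subgroup G) : Set G)) : Set G) := by rw [hsup]; trivial
  rw [Subgroup.normal_mul] at hg
  obtain ⟨a, ha, c, hc, rfl⟩ := hg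
  suffices hfc : f c = 1 by
    show f (a * c) * _ = _
    rw [map_mul, hf ⟨a, ha⟩, hfc, one_mul, one_mul]
  refine root_eq_one_of_sub_mem hM hidx (hom_pow_index_eq_one f hf c) ?_
  have h1 := principal_div_sub_one_mem hM P hχ hc
  have h2 := principal_div_sub_one_mem hM P hmem' hc
  have e1 : (χ' : G → ℂ) c = f c * (χ : G → ℂ) c := congrFun heq c
  have e2 : (χ' : G → ℂ) 1 = (χ : G → ℂ) 1 := by
    rw [congrFun heq 1, map_one, one_mul]
  rw [e1, e2, mul_div_assoc] at h2
  have hfl : MemLocalRing M (f c) := memLocalRing_of_isIntegral hM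
    (IsIntegral.of_pow (Nat.pos_of_ne_zero Subgroup.index_ne_zero_of_finite)
      (hom_pow_index_eq_one f hf c ▸ isIntegral_one))
  have h3 := memLocalIdeal_sub hM h2 (memLocalIdeal_mul_left hM hfl h1)
  convert h3 using 1
  ring

end CfsgLib.Blocks
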