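import Cfsg.Agent.Blocks.Residue
import Cfsg.Agent.Blocks.Glauberman

/-!
# Central characters and normal `p`-subgroups
-/

namespace CfsgLib.Blocks

open Cfsg CfsgLib.CharBasics

variable {G : Type*} [Group G] [Fintype G] {p : ℕ} {M : Ideal AlgInt}

theorem omega_mem_of_cosetSums (hM : IsPModular p M) (Q : Subgroup G) [Q.Normal] [Fintype Q] (hQ : IsPGroup p Q)
    (χ : IrrCharacter G) {z : MonoidAlgebra ℂ G} (hzc : IsClassElt z) (hz : IsIntegralElt M z)
    (hsum : ∀ g : G, MemLocalIdeal M (∑ u : Q, z.coeff (g * (u : G)))) :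
    MemLocalIdeal M (omega (χ : G → ℂ) z) := by
  obtain ⟨N, hN⟩ := exists_pow_mem hM Q hQ hz hsum
  have h0 : IsClassElt (0 : MonoidAlgebra ℂ G) := fun g h => rfl
  have h := omega_congr hM χ (hzc.pow N) h0 fun g => by
    simpa using hN g
  rw [omega_pow χ.2 hzc, show omega (χ : G → ℂ) (0 : MonoidAlgebra ℂ G) = 0 by simp [omega], sub_zero] at h
  have hw : ∀ m, MemLocalIdeal M (omega (χ : G → ℂ) z ^ m) → MemLocalIdeal M (omega (χ : G → ℂ) z) := by
    intro m
    induction m with
    | zero => intro h0; exact absurd (by simpa using h0) (not_memLocalIdeal_one hM)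
    | succ m ihm =>
      intro hm
      rw [pow_succ] at hm
      exact (memLocalIdeal_of_mul hM (memLocalRing_pow hM (memLocalRing_omega hM χ hzc hz) _)
        (memLocalRing_omega hM χ hzc hz) hm).elim ihm id
  exact hw N h

/-- Off the centraliser of a normal `p`-subgroup the central characters vanish modulo `M`. -/
theorem centralChar_mem_of_notMem_centralizer (hM : IsPModular p M) (Q : Subgroup G) [Q.Normal] [Fintype Q]
    (hQ : IsPGroup p Q) (χ : IrrCharacter G) {g : G} (hg : g ∉ Subgroup.centralizer (Q : Set G)) :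
    MemLocalIdeal M (centralChar (χ : G → ℂ) g) := by
  classical
  rw [← omega_classElt χ.2]
  refine omega_mem_of_cosetSums hM Q hQ χ (isClassElt_classElt g) (isIntegralElt_classElt hM g) fun h => ?_
  -- `Q` permutes the coset `h Q` by conjugation
  let W := {x : G // h⁻¹ * x ∈ Q}
  letI : MulAction Q W :=
    { smul := fun v x => ⟨(v : G) * x.1 * (v : G)⁻¹, by
        have h1 : h⁻¹ * ((v : G) * x.1 * (v : G)⁻¹) = h⁻¹ * (v : G) * h⁻¹⁻¹ * (h⁻¹ * x.1) * (v : G)⁻¹ := by group
        rw [h1]
        exact Q.mul_mem (Q.mul_mem (Subgroup.Normal.conj_mem ‹Q.Normal› _ v.2 h⁻¹) x.2) (Q.inv_mem v.2)⟩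
      one_smul := fun x => Subtype.ext (by show ((1 : Q) : G) * x.1 * ((1 : Q) : G)⁻¹ = x.1; simp)
      mul_smul := fun v w x => Subtype.ext (by
        show ((v * w : Q) : G) * x.1 * ((v * w : Q) : G)⁻¹ = (v : G) * ((w : G) * x.1 * (w : G)⁻¹) * (v : G)⁻¹
        simp [mul_assoc]) }
  let e : Q ≃ W :=
    { toFun := fun u => ⟨h * u, by rw [inv_mul_cancel_left]; exact u.2⟩
      invFun := fun x => ⟨h⁻¹ * x.1, x.2⟩
      left_inv := fun u => Subtype.ext (inv_mul_cancel_left _ _)
      right_inv := fun x => Subtype.ext (mul_inv_cancel_left _ _) }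
  haveI : Fintype W := Fintype.ofEquiv _ e
  rw [show (∑ u : Q, (classElt g).coeff (h * u)) = ∑ x : W, (classElt g).coeff x.1 from
    e.sum_comp (fun x : W => (classElt g).coeff x.1)]
  have hs := sum_sub_fixed_mem hM hQ (fun x : W => (classElt g).coeff x.1)
    (fun v x => coeff_conj (isClassElt_classElt g) x.1 (v : G))
    (fun x => isIntegralElt_classElt hM g _)
  have hzero : ∑ x : W, (if (∀ v : Q, v • x = x) then (classElt g).coeff x.1 else 0) = 0 := by
    refine Finset.sum_eq_zero fun x _ => ?_
    split_ifs with hx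
    · rw [coeff_classElt, if_neg]
      intro hc
      apply hg
      obtain ⟨c, hc⟩ := isConj_iff.1 hc.symm
      rw [← hc]
      refine Subgroup.Normal.conj_mem (inferInstance : (Subgroup.centralizer (Q : Set G)).Normal) _ ?_ c
      rw [Subgroup.mem_centralizer_iff]
      intro v hv
      exact mul_inv_eq_iff_eq_mul.1 (congrArg Subtype.val (hx ⟨v, hv⟩))
    · rfl
  rwa [hzero, sub_zero] at hs

/-- A class inside a normal `p`-subgroup has central character congruent to its length. -/
theorem centralChar_sub_index_mem (hM : IsPModular p M) (Q : Subgroup G) [Q.Normal] [Fintype Q]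
    (hQ : IsPGroup p Q) (χ : IrrCharacter G) {g : G} (hg : g ∈ Q) :
    MemLocalIdeal M (centralChar (χ : G → ℂ) g - (Subgroup.centralizer ({g} : Set G)).index) := by
  classical
  set n : ℂ := ((Subgroup.centralizer ({g} : Set G)).index : ℂ) with hn
  have e : centralChar (χ : G → ℂ) g - n = omega (χ : G → ℂ) (classElt g - n • (1 : MonoidAlgebra ℂ G)) := by
    rw [omega_sub, omega_classElt χ.2, omega_smul, omega_one χ.2, mul_one]
  rw [e]
  refine omega_mem_of_cosetSums hM Q hQ χ ((isClassElt_classElt g).sub (isClassElt_one.smul n))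
    ((isIntegralElt_classElt hM g).sub hM (IsIntegralElt.smul hM (memLocalRing_natCast hM _) (isIntegralElt_one hM)))
    fun h => ?_
  have hsub : ∀ x, IsConj g x → x ∈ Q := by
    intro x hx
    obtain ⟨c, rfl⟩ := isConj_iff.1 hx
    exact Subgroup.Normal.conj_mem ‹Q.Normal› _ hg c
  have hcoe : ∀ x : G, (classElt g - n • (1 : MonoidAlgebra ℂ G)).coeff x
      = (if IsConj g x then 1 else 0) - (if x = 1 then n else 0) := by
    intro x
    rw [MonoidAlgebra.coeff_sub, Finsupp.sub_apply, MonoidAlgebra.coeff_smul, Finsupp.smul_apply, coeff_classElt,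
      MonoidAlgebra.one_def, MonoidAlgebra.coeff_single, Finsupp.single_apply, smul_eq_mul]
    congr 1
    by_cases hx : x = 1 <;> simp [hx, Ne.symm]
  simp only [hcoe, Finset.sum_sub_distrib]
  by_cases hh : h ∈ Q
  · have e1 : ∑ u : Q, (if IsConj g (h * (u : G)) then (1 : ℂ) else 0) = n := by
      rw [hn, ← card_conjClass, Finset.sum_boole, Nat.cast_inj, ← Fintype.card_subtype, ← Nat.card_eq_fintype_card]
      exact Nat.card_congr
        { toFun := fun u => ⟨h * (u.1 : G), u.2⟩
          invFun := fun x => ⟨⟨h⁻¹ * x.1, Q.mul_mem (Q.inv_mem hh) (hsub _ x.2)⟩, by simpa using x.2⟩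
          left_inv := fun u => Subtype.ext (Subtype.ext (by simp))
          right_inv := fun x => Subtype.ext (by simp) }
    have e2 : ∑ u : Q, (if h * (u : G) = 1 then n else 0) = n := by
      rw [Finset.sum_eq_single (⟨h⁻¹, Q.inv_mem hh⟩ : Q)]
      · simp
      · intro u _ hu
        rw [if_neg]
        intro he
        exact hu (Subtype.ext (eq_inv_of_mul_eq_one_right he))
      · simp
    rw [e1, e2, sub_self]
    exact memLocalIdeal_zero hM
  · rw [Finset.sum_eq_zero, Finset.sum_eq_zero, sub_self]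
    · exact memLocalIdeal_zero hM
    · intro u _
      rw [if_neg]
      intro he
      exact hh ((Q.mul_mem_cancel_right u.2).1 (he ▸ Q.one_mem))
    · intro u _
      rw [if_neg]
      intro he
      exact hh ((Q.mul_mem_cancel_right u.2).1 (hsub _ he))

end CfsgLib.Blocks
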