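import Cfsg.Agent.Blocks.Contribution

/-!
# Values on `p`-sections: the nonvanishing criterion and block orthogonality
-/

set_option linter.unusedSectionVars false
set_option linter.style.haveILetI false

namespace CfsgLib.Blocks

open Cfsg CfsgLib.CharBasics
open scoped ComplexConjugate

variable {G : Type*} [Group G] [Fintype G] {p : ℕ} {M : Ideal AlgInt}

/-- If the truncated central character is a unit somewhere, a coefficient on the centralizer is a unit. -/
theorem exists_unit_coeff (hM : IsPModular p M) {x : G} (hx : ∃ k : ℕ, orderOf x = p ^ k)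
    [Fintype (Subgroup.centralizer ({x} : Set G))] {B : Set (IrrCharacter G)} (hB : IsPBlock M B)
    {χ : IrrCharacter G} (hχ : χ ∈ B) {y : Subgroup.centralizer ({x} : Set G)} (hy : ¬ p ∣ orderOf y)
    (hne : (χ : G → ℂ) (x * y) ≠ 0) :
    ∃ g : G, g * x = x * g ∧ ¬ MemLocalIdeal M (blockCoeff B g) := by
  classical
  haveI : Fintype (IrrCharacter (Subgroup.centralizer ({x} : Set G))) := @Fintype.ofFinite _ finite_irrCharacter
  have h := apply_eq_sum_secVal hM hx hB χ hy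
  rw [if_pos hχ] at h
  rw [← h] at hne
  obtain ⟨b, hb, -⟩ := Finset.exists_ne_zero_of_sum_ne_zero hne
  obtain ⟨-, hind⟩ := Finset.mem_filter.1 hb
  obtain ⟨ξ, hξ⟩ := IsPBlock.nonempty hM hind.1
  by_contra hcon
  push Not at hcon
  have h1 := ZStar.omega_res_induced hM hind hξ hχ (isClassElt_blockElt B) (isIntegralElt_blockElt hM hB)
  rw [omega_blockElt, if_pos hχ] at h1
  have h2 : MemLocalIdeal M (omega (ξ : Subgroup.centralizer ({x} : Set G) → ℂ)
      (ZStar.res (Subgroup.centralizer ({x} : Set G)) (blockElt B))) :=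
    ZStar.memLocalIdeal_omega hM ξ (ZStar.isClassElt_res (isClassElt_blockElt B) _) fun c => by
      rw [ZStar.coeff_res, coeff_blockElt]
      exact hcon _ (Subgroup.mem_centralizer_singleton_iff.1 c.2)
  exact not_memLocalIdeal_one hM (by simpa using memLocalIdeal_sub hM h2 h1)

/-- A `p`-element of a defect group lies in a subsection of the block. -/
theorem exists_induced_block (hM : IsPModular p M) {x : G} (hx : ∃ k : ℕ, orderOf x = p ^ k)
    [Fintype (Subgroup.centralizer ({x} : Set G))] {B : Set (IrrCharacter G)} (hB : IsPBlock M B) {g : G}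
    (hg : g * x = x * g) (hunit : ¬ MemLocalIdeal M (blockCoeff B g)) :
    ∃ b, IsInducedBlock M (Subgroup.centralizer ({x} : Set G)) b B := by
  classical
  by_contra hcon
  push Not at hcon
  have hQ := ZStar.isPGroup_zpowers hM.1 hx
  have hec := isClassElt_blockElt B
  have hei := isIntegralElt_blockElt hM hB
  have hall : ∀ ξ : IrrCharacter (Subgroup.centralizer ({x} : Set G)), MemLocalIdeal M
      (omega (ξ : Subgroup.centralizer ({x} : Set G) → ℂ) (ZStar.res (Subgroup.centralizer ({x} : Set G)) (blockElt B))) :=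
    fun ξ => by
      by_contra hns
      exact hcon _ (ZStar.isInducedBlock_of_not_small hM hQ (ZStar.mem_centralizer_zpowers x) (isPBlock_blockOf M ξ)
        hB (mem_blockOf_self hM ξ) hns)
  obtain ⟨N, hN0, hN⟩ := ZStar.exists_pow_isSmall hM (ZStar.isClassElt_res hec _) hall
  obtain ⟨n, rfl⟩ : ∃ n, N = n + 1 := ⟨N - 1, by omega⟩
  have hidem : blockElt B ^ (n + 1) = blockElt B := (isIdempotentElem_blockElt B).pow_succ_eq n
  have hgH : g ∈ Subgroup.centralizer ({x} : Set G) := Subgroup.mem_centralizer_singleton_iff.2 hg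
  have h := ZStar.res_pow_congr hM hQ (ZStar.mem_centralizer_zpowers x) hei
    (ZStar.IsClassElt.conjInv hec _) (n + 1) ⟨g, hgH⟩
  rw [hidem, ZStar.coeff_res, coeff_blockElt] at h
  exact hunit (by simpa using memLocalIdeal_add hM h (hN ⟨g, hgH⟩))

/-- The `p`-part and `p'`-part of a decomposition. -/
theorem isPPart_mem (p : ℕ) {u x : G} (h : IsPPart p u x) :
    ∃ y : Subgroup.centralizer ({x} : Set G), ¬ p ∣ orderOf y ∧ x * (y : G) = u := by
  obtain ⟨y, hxy, hc, -, hy⟩ := h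
  exact ⟨⟨y, Subgroup.mem_centralizer_singleton_iff.2 hc.eq.symm⟩, by rwa [← Subgroup.orderOf_coe], hxy⟩

/-- A nonzero value forces the `p`-part into a defect group. -/
theorem exists_defectGroup_of_apply_ne_zero (hM : IsPModular p M) {B : Set (IrrCharacter G)} (hB : IsPBlock M B)
    {χ : IrrCharacter G} (hχ : χ ∈ B) {u x : G} (hux : IsPPart p u x) (hne : (χ : G → ℂ) u ≠ 0) :
    (∃ D : Subgroup G, IsDefectGroup p M B D ∧ x ∈ D) ∧
      ∀ D : Subgroup G, IsDefectGroup p M B D → ∃ e : G, e * x * e⁻¹ ∈ D := by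
  haveI := Fintype.ofFinite (Subgroup.centralizer ({x} : Set G))
  obtain ⟨y, hy, rfl⟩ := isPPart_mem p hux
  obtain ⟨-, -, -, hx, -⟩ := hux
  obtain ⟨g, hg, hunit⟩ := exists_unit_coeff hM hx hB hχ hy hne
  have hQp := ZStar.isPGroup_zpowers hM.1 hx
  have hQg : ∀ q ∈ Subgroup.zpowers x, q * g = g * q := by
    rintro q ⟨i, rfl⟩
    exact (show Commute x g from hg.symm).zpow_left i
  obtain ⟨D, hD, hle⟩ := exists_defectGroup_ge hM hB hunit hQp hQg
  refine ⟨⟨D, hD, hle (Subgroup.mem_zpowers x)⟩, fun D' hD' => ?_⟩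
  obtain ⟨e, he⟩ := exists_conj_mem_defectGroup hM hB hunit hQp hQg hD'
  exact ⟨e, he x (Subgroup.mem_zpowers x)⟩

/-- A member of height zero is nonzero somewhere on the section of every element of a defect group. -/
theorem exists_apply_ne_zero_of_mem (hM : IsPModular p M) {B : Set (IrrCharacter G)} (hB : IsPBlock M B)
    {χ : IrrCharacter G} (hχ : χ ∈ B) (hmin : ∀ ρ ∈ B, degExp p χ ≤ degExp p ρ) {D : Subgroup G}
    (hD : IsDefectGroup p M B D) {x : G} (hxD : x ∈ D) :
    ∃ u : G, IsPPart p u x ∧ (χ : G → ℂ) u ≠ 0 := by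
  classical
  haveI := Fintype.ofFinite (Subgroup.centralizer ({x} : Set G))
  obtain ⟨g, hg, P, rfl⟩ := hD
  obtain ⟨⟨x', hx'g⟩, hx'P, rfl⟩ := hxD
  have hx : ∃ k : ℕ, orderOf x' = p ^ k := by
    haveI := Fact.mk hM.1
    obtain ⟨k, hk⟩ := IsPGroup.iff_orderOf.1 P.2 ⟨⟨x', hx'g⟩, hx'P⟩
    exact ⟨k, by simpa [Subgroup.orderOf_mk] using hk⟩
  obtain ⟨b, hind⟩ := exists_induced_block hM hx hB
    (show g * x' = x' * g from (Subgroup.mem_centralizer_singleton_iff.1 hx'g).symm) hg.2.1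
  by_contra hcon
  push Not at hcon
  refine secVal_one_ne_zero hM hx hind hχ hmin ?_
  rw [secVal_eq_kernel hM hind.1 _ (by rw [orderOf_one, Nat.dvd_one]; exact hM.1.ne_one), Finset.sum_eq_zero,
    mul_zero]
  intro z _
  split_ifs with hz
  · rw [zero_mul]
  · have hzero : (χ : G → ℂ) (x' * z) = 0 :=
      hcon _ ⟨z, rfl, (Subgroup.mem_centralizer_singleton_iff.1 z.2).symm, hx, by rwa [Subgroup.orderOf_coe]⟩
    rw [shiftFun, hzero, zero_mul]

theorem eq_one_of_isPPart {u x : G} (h : IsPPart p u x) (hp : p.Prime) :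
    ∃ y : G, x * y = u ∧ Commute x y ∧ ¬ p ∣ orderOf y ∧ x ∈ Subgroup.zpowers u := by
  obtain ⟨y, hxy, hc, ⟨k, hk⟩, hy⟩ := h
  refine ⟨y, hxy, hc, hy, ?_⟩
  obtain ⟨a, b, hab⟩ := (((hp.coprime_iff_not_dvd.2 hy).pow_left k).isCoprime :
    IsCoprime ((p ^ k : ℕ) : ℤ) (orderOf y : ℤ))
  refine ⟨b * (orderOf y : ℤ), ?_⟩
  show u ^ (b * (orderOf y : ℤ)) = x
  rw [← hxy, hc.mul_zpow, mul_comm b, zpow_mul y, zpow_natCast, pow_orderOf_eq_one, one_zpow, mul_one,
    mul_comm _ b, show b * (orderOf y : ℤ) = 1 - a * ((p ^ k : ℕ) : ℤ) by linarith, zpow_sub, zpow_one, mul_comm a,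
    zpow_mul, zpow_natCast, ← hk, pow_orderOf_eq_one, one_zpow, inv_one, mul_one]

/-- Block orthogonality. -/
theorem block_orth (hM : IsPModular p M) {B : Set (IrrCharacter G)} (hB : IsPBlock M B) {g h x : G}
    (hg : IsPPart p g x) (hh : ∀ u, IsPPart p u x → ¬ IsConj u h) :
    ∑ᶠ χ ∈ B, (χ : G → ℂ) g * conj ((χ : G → ℂ) h) = 0 := by
  classical
  haveI := Fintype.ofFinite (Subgroup.centralizer ({x} : Set G))
  haveI : Fintype (IrrCharacter G) := @Fintype.ofFinite _ finite_irrCharacter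
  haveI : Fintype (IrrCharacter (Subgroup.centralizer ({x} : Set G))) := @Fintype.ofFinite _ finite_irrCharacter
  obtain ⟨y, hy, rfl⟩ := isPPart_mem p hg
  obtain ⟨-, -, -, hx, -⟩ := hg
  rw [finsum_mem_def, finsum_eq_sum_of_fintype]
  have e : ∀ χ : IrrCharacter G,
      Set.indicator B (fun χ : IrrCharacter G => (χ : G → ℂ) (x * y) * conj ((χ : G → ℂ) h)) χ =
        ∑ b ∈ (blockFinset M (Subgroup.centralizer ({x} : Set G))).filter
          (fun b => IsInducedBlock M (Subgroup.centralizer ({x} : Set G)) b B),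
          secVal p x b (χ : G → ℂ) y * conj ((χ : G → ℂ) h) := by
    intro χ
    rw [← Finset.sum_mul, apply_eq_sum_secVal hM hx hB χ hy, Set.indicator_apply, ite_mul, zero_mul]
  rw [Finset.sum_congr rfl (fun χ _ => e χ), Finset.sum_comm]
  refine Finset.sum_eq_zero fun b hb => ?_
  have hb' := (mem_blockFinset.1 (Finset.mem_filter.1 hb).1)
  simp only [secVal_eq_kernel hM hb' _ hy, mul_assoc, Finset.sum_mul, ← Finset.mul_sum]
  rw [Finset.sum_comm, Finset.sum_eq_zero, mul_zero]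
  intro z _
  by_cases hz : p ∣ orderOf z
  · simp [hz]
  · have hnc : ¬ IsConj (x * (z : G)) h :=
      hh _ ⟨z, rfl, (Subgroup.mem_centralizer_singleton_iff.1 z.2).symm, hx, by rwa [Subgroup.orderOf_coe]⟩
    simp only [hz, if_false, shiftFun]
    rw [show ∑ χ : IrrCharacter G, (χ : G → ℂ) (x * z) *
        (blockKernel b y z * conj ((χ : G → ℂ) h)) =
      blockKernel b y z * ∑ χ : IrrCharacter G, (χ : G → ℂ) (x * z) * conj ((χ : G → ℂ) h) by
      rw [Finset.mul_sum]; exact Finset.sum_congr rfl fun χ _ => by ring, sum_col, if_neg hnc, mul_zero]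

/-- The `p`-part is unique. -/
theorem isPPart_unique (hp : p.Prime) {u x x' : G} (h : IsPPart p u x) (h' : IsPPart p u x') : x = x' := by
  obtain ⟨y, hxy, hc, hy, hxz⟩ := eq_one_of_isPPart h hp
  obtain ⟨y', hxy', hc', hy', hxz'⟩ := eq_one_of_isPPart h' hp
  obtain ⟨-, -, -, ⟨k, hk⟩, -⟩ := h
  obtain ⟨-, -, -, ⟨k', hk'⟩, -⟩ := h'
  have hcxx : Commute x'⁻¹ x := by
    obtain ⟨i, rfl⟩ := hxz
    obtain ⟨j, rfl⟩ := hxz'
    exact (Commute.zpow_zpow_self u j i).inv_left
  have hcyy : Commute y' y⁻¹ := by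
    have hyz : ∀ w v : G, w * v = u → w ∈ Subgroup.zpowers u → v ∈ Subgroup.zpowers u := fun w v hwv hw => by
      rw [show v = w⁻¹ * u by rw [← hwv, inv_mul_cancel_left]]
      exact Subgroup.mul_mem _ (Subgroup.inv_mem _ hw) (Subgroup.mem_zpowers u)
    obtain ⟨i, rfl⟩ := hyz x y hxy hxz
    obtain ⟨j, rfl⟩ := hyz x' y' hxy' hxz'
    exact (Commute.zpow_zpow_self u j i).inv_right
  have hd : x'⁻¹ * x = y' * y⁻¹ := by
    rw [eq_mul_inv_iff_mul_eq, mul_assoc, hxy, ← hxy', inv_mul_cancel_left]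
  have h1 : orderOf (x'⁻¹ * x) ∣ p ^ (k' + k) := by
    refine (hcxx.orderOf_mul_dvd_mul_orderOf).trans ?_
    rw [orderOf_inv, hk, hk', pow_add]
  have h2 : orderOf (x'⁻¹ * x) ∣ orderOf y' * orderOf y := by
    rw [hd]
    refine (hcyy.orderOf_mul_dvd_mul_orderOf).trans ?_
    rw [orderOf_inv]
  have hcop : Nat.Coprime (p ^ (k' + k)) (orderOf y' * orderOf y) :=
    ((hp.coprime_iff_not_dvd.2 fun hd' => (hp.dvd_mul.1 hd').elim hy' hy)).pow_left _
  have h3 : x'⁻¹ * x = 1 := orderOf_eq_one_iff.1 (Nat.eq_one_of_dvd_coprimes hcop h1 h2)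
  exact (inv_mul_eq_one.1 h3).symm

theorem isPPart_conj {u x : G} (h : IsPPart p u x) (c : G) : IsPPart p (c * u * c⁻¹) (c * x * c⁻¹) := by
  obtain ⟨y, rfl, hc, ⟨k, hk⟩, hy⟩ := h
  have ho : ∀ w : G, orderOf (c * w * c⁻¹) = orderOf w := fun w =>
    orderOf_injective (MulAut.conj c).toMonoidHom (MulAut.conj c).injective w
  refine ⟨c * y * c⁻¹, by group, ?_, ⟨k, by rw [ho, hk]⟩, by rwa [ho]⟩
  exact (hc.map (MulAut.conj c).toMonoidHom)

theorem block_orth_of_not_isConj (hM : IsPModular p M) {B : Set (IrrCharacter G)} (hB : IsPBlock M B)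
    {g h x y : G} (hg : IsPPart p g x) (hh : IsPPart p h y) (hxy : ¬ IsConj x y) :
    ∑ᶠ χ ∈ B, (χ : G → ℂ) g * conj ((χ : G → ℂ) h) = 0 := by
  refine block_orth hM hB hg fun u hu huh => hxy ?_
  obtain ⟨c, rfl⟩ := isConj_iff.1 huh
  exact isConj_iff.2 ⟨c, isPPart_unique hM.1 (isPPart_conj hu c) hh⟩

/-- Class functions vanishing on a section have block parts vanishing there. -/
theorem blockPart_eq_zero (hM : IsPModular p M) {θ : G → ℂ} {x : G}
    (hθ : ∀ u z : G, IsPPart p u z → IsConj x z → θ u = 0) {B : Set (IrrCharacter G)} (hB : IsPBlock M B)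
    {u z : G} (hu : IsPPart p u z) (hxz : IsConj x z) : blockPart B θ u = 0 := by
  rw [blockPart_eq_kernel, Finset.sum_eq_zero, mul_zero]
  intro w _
  obtain ⟨a, b, hab, hc, ha, hb, -, -⟩ := ZStar.exists_pPart hM.1 w
  by_cases hxa : IsConj x a
  · rw [hθ w a ⟨b, hab, hc, ha, hb⟩ hxa, zero_mul]
  · rw [blockKernel, block_orth_of_not_isConj hM hB hu (h := w) ⟨b, hab, hc, ha, hb⟩
      (fun hza => hxa (hxz.trans hza)), mul_zero]

end CfsgLib.Blocks
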