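import Cfsg.Prelude.Def_BlockRank
import Cfsg.Agent.Blocks.Section
import Cfsg.Agent.ZStar.Principal
import Mathlib.LinearAlgebra.Trace

/-!
# The `p`-regular rank of a block

* `blockRank_eq_trace` : the rank is the sum of `⟨χ°, χ⟩` over the members of the block;
* `blockRank_le`, `apply_eq_zero_of_rank_eq` ;
* `apply_eq_zero_of_defect_zero`, `subsingleton_of_defect_zero`, `defect_zero_of_vanish`.
-/

set_option linter.unusedSectionVars false
set_option linter.style.haveILetI false

namespace CfsgLib.Blocks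

open Cfsg CfsgLib.CharBasics
open scoped ComplexConjugate

universe u

variable {G : Type u} [Group G] [Fintype G] {p : ℕ} {M : Ideal AlgInt}

theorem pRegularPart_eq (f : G → ℂ) :
    pRegularPart p f = fun x => if p ∣ orderOf x then 0 else f x := by
  classical
  funext x
  simp only [pRegularPart, IsPRegular]
  split_ifs <;> simp_all

theorem isClassFunction_regularPart (χ : IrrCharacter G) : IsClassFunction G (pRegularPart p (χ : G → ℂ)) := by
  intro g h
  have e : orderOf (h * g * h⁻¹) = orderOf g :=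
    orderOf_injective (MulAut.conj h).toMonoidHom (MulAut.conj h).injective g
  simp only [pRegularPart_eq, e, isClassFunction (isCharacter_of_irr χ.2) g h]

/-- The regular part of a member lies in the span of the block. -/
theorem regularPart_expand (hM : IsPModular p M) {B : Set (IrrCharacter G)} (hB : IsPBlock M B)
    [Fintype B] {χ : IrrCharacter G} (hχ : χ ∈ B) :
    pRegularPart p (χ : G → ℂ) =
      ∑ ψ : B, classInner (pRegularPart p (χ : G → ℂ)) ((ψ : IrrCharacter G) : G → ℂ) •
        ((ψ : IrrCharacter G) : G → ℂ) := by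
  classical
  haveI : Fintype (IrrCharacter G) := @Fintype.ofFinite _ finite_irrCharacter
  have h1 : blockPart B (χ : G → ℂ) = (χ : G → ℂ) := by
    funext g
    rw [ZStar.blockPart_apply, Finset.sum_eq_single χ]
    · rw [if_pos hχ, classInner_self χ.2, one_mul]
    · intro ψ _ hne
      split_ifs
      · rw [classInner_ne χ.2 ψ.2 (fun e => hne (Subtype.ext e).symm), zero_mul]
      · rfl
    · simp
  funext g
  have h2 := blockPart_cut hM hB (χ : G → ℂ) g
  rw [h1, ← pRegularPart_eq] at h2
  rw [show pRegularPart p (χ : G → ℂ) g = if p ∣ orderOf g then 0 else (χ : G → ℂ) g by rw [pRegularPart_eq],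
    ← h2, ZStar.blockPart_apply, Finset.sum_apply]
  simp only [Pi.smul_apply, smul_eq_mul]
  rw [← Finset.sum_filter]
  exact Finset.sum_subtype (Finset.univ.filter (· ∈ B)) (fun x => by simp)
    (fun ψ : IrrCharacter G => classInner (pRegularPart p (χ : G → ℂ)) (ψ : G → ℂ) * (ψ : G → ℂ) g)

/-- The matrix of the regular-part projection on a block. -/
noncomputable def regMatrix (p : ℕ) (B : Set (IrrCharacter G)) : Matrix B B ℂ :=
  Matrix.of fun ψ χ => classInner (pRegularPart p ((χ : IrrCharacter G) : G → ℂ)) ((ψ : IrrCharacter G) : G → ℂ)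

/-- Linear combinations of the members of a set of characters. -/
noncomputable def combine (B : Set (IrrCharacter G)) [Fintype B] : (B → ℂ) →ₗ[ℂ] (G → ℂ) :=
  Fintype.linearCombination ℂ fun ψ : B => ((ψ : IrrCharacter G) : G → ℂ)

theorem classInner_combine (B : Set (IrrCharacter G)) [Fintype B] (c : B → ℂ) (φ : B) :
    classInner (combine B c) ((φ : IrrCharacter G) : G → ℂ) = c φ := by
  classical
  rw [combine, Fintype.linearCombination_apply, classInner_sum_left, Finset.sum_eq_single φ]
  · rw [classInner_smul_left, classInner_self φ.1.2, mul_one]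
  · intro ψ _ hne
    rw [classInner_smul_left, classInner_ne ψ.1.2 φ.1.2 (fun e => hne (Subtype.ext (Subtype.ext e))), mul_zero]
  · simp

theorem combine_injective (B : Set (IrrCharacter G)) [Fintype B] : Function.Injective (combine B) := fun c d h => by
  funext φ
  rw [← classInner_combine B c φ, h, classInner_combine B d φ]

theorem combine_regMatrix (hM : IsPModular p M) {B : Set (IrrCharacter G)} (hB : IsPBlock M B) [Fintype B]
    [DecidableEq B] (c : B → ℂ) :
    combine B ((regMatrix p B).toLin' c) = ∑ χ : B, c χ • pRegularPart p ((χ : IrrCharacter G) : G → ℂ) := by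
  rw [combine, Fintype.linearCombination_apply]
  simp only [Matrix.toLin'_apply, Matrix.mulVec, dotProduct, regMatrix, Matrix.of_apply, Finset.sum_smul]
  rw [Finset.sum_comm]
  refine Finset.sum_congr rfl fun χ _ => ?_
  conv_rhs => rw [regularPart_expand hM hB χ.2, Finset.smul_sum]
  refine Finset.sum_congr rfl fun ψ _ => ?_
  rw [smul_smul, mul_comm]

theorem map_range_eq_span (hM : IsPModular p M) {B : Set (IrrCharacter G)} (hB : IsPBlock M B) [Fintype B]
    [DecidableEq B] :
    (LinearMap.range (regMatrix p B).toLin').map (combine B) =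
      Submodule.span ℂ ((fun χ : IrrCharacter G => pRegularPart p (χ : G → ℂ)) '' B) := by
  apply le_antisymm
  · rintro _ ⟨_, ⟨c, rfl⟩, rfl⟩
    rw [combine_regMatrix hM hB]
    exact Submodule.sum_mem _ fun χ _ => Submodule.smul_mem _ _ (Submodule.subset_span ⟨χ.1, χ.2, rfl⟩)
  · rw [Submodule.span_le]
    rintro _ ⟨χ, hχ, rfl⟩
    refine ⟨_, ⟨Pi.single ⟨χ, hχ⟩ 1, rfl⟩, ?_⟩
    rw [combine_regMatrix hM hB, Finset.sum_eq_single ⟨χ, hχ⟩]
    · simp
    · intro ψ _ hne; simp [Pi.single_eq_of_ne hne]
    · simp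

theorem regMatrix_idem (hM : IsPModular p M) {B : Set (IrrCharacter G)} (hB : IsPBlock M B) [Fintype B]
    [DecidableEq B] (c : B → ℂ) :
    (regMatrix p B).toLin' ((regMatrix p B).toLin' c) = (regMatrix p B).toLin' c := by
  apply combine_injective B
  rw [combine_regMatrix hM hB]
  have e : ∀ d : B → ℂ, ∑ χ : B, d χ • pRegularPart p ((χ : IrrCharacter G) : G → ℂ)
      = pRegularPart p (combine B d) := by
    intro d
    rw [combine, Fintype.linearCombination_apply]
    funext x
    simp only [pRegularPart_eq, Finset.sum_apply, Pi.smul_apply, smul_eq_mul]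
    split_ifs <;> simp
  rw [e, combine_regMatrix hM hB, e]
  funext x
  simp only [pRegularPart_eq]
  split_ifs <;> rfl

theorem blockRank_eq_finrank_range (hM : IsPModular p M) {B : Set (IrrCharacter G)} (hB : IsPBlock M B) [Fintype B]
    [DecidableEq B] : blockRank p B = Module.finrank ℂ (LinearMap.range (regMatrix p B).toLin') := by
  rw [blockRank, ← map_range_eq_span hM hB]
  exact ((Submodule.equivMapOfInjective _ (combine_injective B) _).finrank_eq).symm

/-- The rank is the trace of the projection. -/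
theorem blockRank_eq_trace (hM : IsPModular p M) {B : Set (IrrCharacter G)} (hB : IsPBlock M B) [Fintype B] :
    (blockRank p B : ℂ) =
      ∑ χ : B, classInner (pRegularPart p ((χ : IrrCharacter G) : G → ℂ)) ((χ : IrrCharacter G) : G → ℂ) := by
  classical
  have hproj : LinearMap.IsProj (LinearMap.range (regMatrix p B).toLin') (regMatrix p B).toLin' :=
    ⟨fun c => ⟨c, rfl⟩, by rintro _ ⟨c, rfl⟩; exact regMatrix_idem hM hB c⟩
  rw [blockRank_eq_finrank_range hM hB, ← hproj.trace, Matrix.trace_toLin'_eq]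
  rfl

theorem blockRank_le (hM : IsPModular p M) {B : Set (IrrCharacter G)} (hB : IsPBlock M B) [Fintype B] :
    blockRank p B ≤ Fintype.card B := by
  classical
  rw [blockRank_eq_finrank_range hM hB]
  exact (LinearMap.finrank_range_le _).trans_eq (Module.finrank_pi ℂ)

theorem apply_eq_zero_of_rank_eq (hM : IsPModular p M) {B : Set (IrrCharacter G)} (hB : IsPBlock M B) [Fintype B]
    (h : blockRank p B = Fintype.card B) {χ : IrrCharacter G} (hχ : χ ∈ B) {g : G} (hg : p ∣ orderOf g) :
    (χ : G → ℂ) g = 0 := by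
  classical
  rw [blockRank_eq_finrank_range hM hB, ← Module.finrank_pi ℂ] at h
  have htop := Submodule.eq_top_of_finrank_eq h
  have hid : (regMatrix p B).toLin' (Pi.single ⟨χ, hχ⟩ 1) = Pi.single ⟨χ, hχ⟩ 1 := by
    obtain ⟨c, hc⟩ : Pi.single (⟨χ, hχ⟩ : B) (1 : ℂ) ∈ LinearMap.range (regMatrix p B).toLin' :=
      htop ▸ Submodule.mem_top
    rw [← hc, regMatrix_idem hM hB]
  have h2 := congrArg (combine B) hid
  rw [combine_regMatrix hM hB, Finset.sum_eq_single ⟨χ, hχ⟩, Pi.single_eq_same, one_smul, combine,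
    Fintype.linearCombination_apply, Finset.sum_eq_single (⟨χ, hχ⟩ : B), Pi.single_eq_same, one_smul] at h2
  · have h3 := congrFun h2 g
    rw [pRegularPart_eq] at h3
    simp only [if_pos hg] at h3
    exact h3.symm
  all_goals first
    | (intro ψ _ hne; simp [Pi.single_eq_of_ne hne])
    | simp

/-- In a block of defect zero every member vanishes on the `p`-singular elements. -/
theorem apply_eq_zero_of_defect_zero (hM : IsPModular p M) {B : Set (IrrCharacter G)} (hB : IsPBlock M B)
    (h0 : blockDefect p B = 0) {χ : IrrCharacter G} (hχ : χ ∈ B) {g : G} (hg : p ∣ orderOf g) :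
    (χ : G → ℂ) g = 0 := by
  by_contra hne
  obtain ⟨x, y, hxy, hc, hx, hy, -, -⟩ := ZStar.exists_pPart hM.1 g
  obtain ⟨⟨D, hD, hxD⟩, -⟩ := exists_defectGroup_of_apply_ne_zero hM hB hχ ⟨y, hxy, hc, hx, hy⟩ hne
  have hcard := card_defectGroup hM hB hD
  rw [h0, pow_zero] at hcard
  have hx1 : x = 1 := by
    rw [Subgroup.card_eq_one.1 hcard] at hxD
    exact hxD
  exact hy (by rwa [← show x * y = y by rw [hx1, one_mul], hxy])

/-- A set of characters all vanishing on singular elements has defect zero. -/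
theorem defect_zero_of_vanish (hp : p.Prime) {B : Set (IrrCharacter G)} (hne : B.Nonempty)
    (hv : ∀ χ ∈ B, ∀ g : G, p ∣ orderOf g → (χ : G → ℂ) g = 0) :
    blockDefect p B = 0 := by
  classical
  haveI := Fact.mk hp
  have key : ∀ χ ∈ B, (Nat.card G).factorization p ≤ (charDegree (χ : G → ℂ)).factorization p := by
    intro χ hχ
    obtain ⟨P⟩ : Nonempty (Sylow p G) := inferInstance
    haveI : Fintype (P : Subgroup G) := Fintype.ofFinite _
    obtain ⟨k, hk⟩ := classInner_character_nat (isCharacter_restrict (isCharacter_of_irr χ.2) (P : Subgroup G)) oneChar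
    rw [show ((oneChar : IrrCharacter ↥(P : Subgroup G)) : ↥(P : Subgroup G) → ℂ) = fun _ => 1 from rfl, classInner_one,
      Finset.sum_eq_single (1 : (P : Subgroup G)) (fun x _ hx => hv χ hχ _ (by
        obtain ⟨j, hj⟩ := IsPGroup.iff_orderOf.1 P.2 x
        rw [Subgroup.orderOf_coe, hj]
        refine dvd_pow_self p fun hj0 => hx ?_
        exact orderOf_eq_one_iff.1 (by rw [hj, hj0, pow_zero]))) (fun h => absurd (Finset.mem_univ _) h)] at hk
    rw [inv_mul_eq_iff_eq_mul₀ (Nat.cast_ne_zero.2 Nat.card_pos.ne'), Subgroup.coe_one,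
      apply_one (isCharacter_of_irr χ.2), ← Nat.cast_mul, Nat.cast_inj, P.card_eq_multiplicity] at hk
    exact (hp.pow_dvd_iff_le_factorization (charDegree_pos χ.2).ne').1 ⟨k, hk⟩
  rw [blockDefect, Nat.sub_eq_zero_iff_le]
  obtain ⟨χ, hχ, he⟩ := Nat.sInf_mem (hne.image fun χ : IrrCharacter G => (charDegree (χ : G → ℂ)).factorization p)
  exact (key χ hχ).trans he.le

/-- A block of defect zero has a single member. -/
theorem subsingleton_of_defect_zero (hM : IsPModular p M) {B : Set (IrrCharacter G)} (hB : IsPBlock M B)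
    (h0 : blockDefect p B = 0) {χ ψ : IrrCharacter G} (hχ : χ ∈ B) (hψ : ψ ∈ B) : χ = ψ := by
  classical
  by_contra hne
  set a := (Nat.card G).factorization p with ha
  obtain ⟨c, c', hc, hdeg, hm, hc'⟩ := exists_degree_eq hM.1 χ
  have hde : degExp p χ = a := by
    refine le_antisymm (degExp_le hM.1 χ) ?_
    rw [blockDefect, Nat.sub_eq_zero_iff_le] at h0
    exact h0.trans (Nat.sInf_le ⟨χ, hχ, rfl⟩)
  have hint : IsIntegralElt M (blockElt ({χ} : Set (IrrCharacter G))) := fun g => by
    rw [coeff_blockElt, blockCoeff_singleton]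
    have e : (Nat.card G : ℂ)⁻¹ * ((χ : G → ℂ) 1 * conj ((χ : G → ℂ) g)) = (c' : ℂ)⁻¹ * conj ((χ : G → ℂ) g) := by
      have hcard : (Nat.card G : ℂ) = (p : ℂ) ^ a * ((c : ℂ) * c') := by
        rw [← Nat.cast_pow, ← Nat.cast_mul c, ← hm, ← Nat.cast_mul, Nat.ordProj_mul_ordCompl_eq_self]
      rw [hdeg, hde, hcard]
      have h1 : (p : ℂ) ≠ 0 := Nat.cast_ne_zero.2 hM.1.ne_zero
      have h2 : (c : ℂ) ≠ 0 := Nat.cast_ne_zero.2 fun h => hc (h ▸ dvd_zero p)
      have h3 : (c' : ℂ) ≠ 0 := Nat.cast_ne_zero.2 fun h => hc' (h ▸ dvd_zero p)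
      field_simp
    rw [e]
    exact memLocalRing_mul hM (memLocalRing_natCast_inv hM hc') (memLocalRing_conj hM χ g)
  have h1 := omega_sub_mem_of_sameBlock hM ((IsPBlock.mem_iff hM hB hχ).1 hψ)
    (isClassElt_blockElt ({χ} : Set (IrrCharacter G))) hint
  rw [omega_blockElt, omega_blockElt, if_pos (Set.mem_singleton _),
    if_neg (fun h => hne (Set.mem_singleton_iff.1 h).symm), sub_zero] at h1
  exact not_memLocalIdeal_one hM h1

theorem blockRank_pos (hM : IsPModular p M) {B : Set (IrrCharacter G)} (hB : IsPBlock M B) :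
    1 ≤ blockRank p B := by
  obtain ⟨χ, hχ⟩ := IsPBlock.nonempty hM hB
  by_contra h
  have h0 : blockRank p B = 0 := by omega
  rw [blockRank, Submodule.finrank_eq_zero, Submodule.span_eq_bot] at h0
  have h1 : pRegularPart p (χ : G → ℂ) 1 = 0 := congrFun (h0 _ ⟨χ, hχ, rfl⟩) 1
  rw [pRegularPart_eq] at h1
  simp only [orderOf_one, Nat.dvd_one, hM.1.ne_one, if_false, Pi.zero_apply] at h1
  exact apply_one_ne_zero χ.2 h1

end CfsgLib.Blocks
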