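import Cfsg.Agent.Blocks.RegularRank
import Cfsg.Agent.Blocks.NormalPSub
import Cfsg.Agent.Blocks.Section
import Cfsg.Agent.ZStar.Second
import Cfsg.Agent.BrauerInd.RegularSep
import Cfsg.Agent.S0914

/-!
# Where central characters of a block are units

* `isIntegral_ordCompl_mul_blockCoeff` : Osima, uniformly in the modular ideal;
* `exists_trivial_of_central` : every block has a member trivial on a central `p`-subgroup;
* `centralChar_mul_center` : at `x * y`, `y` a defect element, `x` central in the defect group;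
* `exists_conj_ppart_center` : a unit class has a conjugate centralizing the defect group with `p`-part central in it.
-/

set_option linter.unusedSectionVars false
set_option linter.style.haveILetI false

namespace CfsgLib.Blocks

open Cfsg CfsgLib.CharBasics
open scoped ComplexConjugate

universe u

variable {G : Type u} [Group G] [Fintype G] {p : ℕ} {M : Ideal AlgInt}

/-- `|G|_{p'}` times a block coefficient is an algebraic integer. -/
theorem isIntegral_ordCompl_mul_blockCoeff (hM : IsPModular p M) {B : Set (IrrCharacter G)} (hB : IsPBlock M B)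
    (g : G) : IsIntegral ℤ
      (((Nat.card G / p ^ (Nat.card G).factorization p : ℕ) : ℂ) * blockCoeff B g) := by
  classical
  haveI := Fact.mk hM.1
  haveI : Fintype (IrrCharacter G) := @Fintype.ofFinite _ finite_irrCharacter
  by_cases hg : p ∣ orderOf g
  · rw [blockCoeff_eq_zero hM hB hg, mul_zero]; exact isIntegral_zero
  set m := Nat.card G / p ^ (Nat.card G).factorization p with hm
  have hθ := BrauerInd.section_mem_intSpan (G := G) (p := p) (1 : G)
  set θ : G → ℂ := fun x : G => if IsConj 1 (ZStar.prest p x) then (m : ℂ) else 0 with hθdef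
  obtain ⟨-, hint⟩ := BrauerInd.intSpan_spec (f := θ) hθ
  have hg' : ¬ p ∣ orderOf g⁻¹ := by rwa [orderOf_inv]
  have h := blockPart_cut hM hB θ g⁻¹
  rw [if_neg hg'] at h
  have hcut : ∀ x : G, (if p ∣ orderOf x then 0 else θ x) = if x = 1 then (m : ℂ) else 0 := by
    intro x
    by_cases hx : p ∣ orderOf x
    · rw [if_pos hx, if_neg]
      rintro rfl
      rw [orderOf_one] at hx
      exact hM.1.not_dvd_one hx
    · rw [if_neg hx, hθdef]
      simp only [(ZStar.part_of_regular (p := p) hx).2]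
      exact if_congr isConj_one_right rfl rfl
  have e : blockPart B (fun x => if p ∣ orderOf x then 0 else θ x) g⁻¹ = (m : ℂ) * blockCoeff B g := by
    rw [ZStar.blockPart_apply, blockCoeff_eq, Finset.mul_sum, Finset.mul_sum]
    refine Finset.sum_congr rfl fun ψ _ => ?_
    split_ifs with hψ
    · rw [classInner_eq, Finset.sum_eq_single (1 : G)]
      · rw [hcut, if_pos rfl, apply_inv (isCharacter_of_irr ψ.2), apply_one (isCharacter_of_irr ψ.2),
          Complex.conj_natCast]
        ring
      · intro x _ hx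
        rw [hcut, if_neg hx, zero_mul]
      · simp
    · rw [mul_zero, mul_zero]
  rw [← e, h, ZStar.blockPart_apply]
  refine IsIntegral.sum _ fun ψ _ => ?_
  split_ifs
  · exact (hint ψ).mul (isIntegral_apply (isCharacter_of_irr ψ.2) _)
  · exact isIntegral_zero

theorem memLocalRing_blockCoeff' {M' : Ideal AlgInt} (hM : IsPModular p M) (hM' : IsPModular p M')
    {B : Set (IrrCharacter G)} (hB : IsPBlock M B) (g : G) : MemLocalRing M' (blockCoeff B g) := by
  have hm : ¬ p ∣ Nat.card G / p ^ (Nat.card G).factorization p := Nat.not_dvd_ordCompl hM.1 Nat.card_pos.ne'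
  have h := memLocalRing_mul hM' (memLocalRing_natCast_inv hM' hm)
    (memLocalRing_of_isIntegral hM' (isIntegral_ordCompl_mul_blockCoeff hM hB g))
  rwa [← mul_assoc, inv_mul_cancel₀ (Nat.cast_ne_zero.2 fun h0 => hm (by rw [h0]; exact dvd_zero p)), one_mul] at h

/-- A character whose degree has the full `p`-part vanishes on the `p`-singular elements. -/
theorem apply_eq_zero_of_full (hM : IsPModular p M) {χ : IrrCharacter G}
    (h : (Nat.card G).factorization p ≤ degExp p χ) {g : G} (hg : p ∣ orderOf g) : (χ : G → ℂ) g = 0 := by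
  classical
  haveI := Fact.mk hM.1
  have hB := isPBlock_blockOf M χ
  have hnd : ¬ p ∣ Nat.card G / charDegree (χ : G → ℂ) := by
    intro hd
    have hq0 : Nat.card G / charDegree (χ : G → ℂ) ≠ 0 :=
      (Nat.div_pos (Nat.le_of_dvd Nat.card_pos (degree_dvd χ)) (charDegree_pos χ.2)).ne'
    have h1 := hM.1.factorization_pos_of_dvd hq0 hd
    rw [degExp] at h
    rw [← Nat.mul_div_cancel' (degree_dvd χ), Nat.factorization_mul (charDegree_pos χ.2).ne' hq0,
      Finsupp.add_apply] at h
    omega
  have hs := (Cfsg.Agent.S0914.result p M hM χ).1 hnd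
  refine apply_eq_zero_of_defect_zero hM hB ?_ (mem_blockOf_self hM χ) hg
  rw [blockDefect, hs, Set.image_singleton, csInf_singleton, Nat.sub_eq_zero_iff_le]
  exact h

/-- Every block has a member trivial on a central `p`-subgroup. -/
theorem exists_trivial_of_central (hM : IsPModular p M) (Z : Subgroup G) (hZ : IsPGroup p Z)
    (hZc : Z ≤ Subgroup.center G) {B : Set (IrrCharacter G)} (hB : IsPBlock M B) :
    ∃ ψ ∈ B, ∀ z ∈ Z, (ψ : G → ℂ) z = (ψ : G → ℂ) 1 := by
  classical
  haveI : Z.Normal := ⟨fun z hz g => by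
    rwa [Subgroup.mem_center_iff.1 (hZc hz) g, mul_inv_cancel_right]⟩
  haveI := Fintype.ofFinite Z
  haveI : Fintype (IrrCharacter G) := @Fintype.ofFinite _ finite_irrCharacter
  by_contra hcon
  push Not at hcon
  obtain ⟨χ, hχ⟩ := IsPBlock.nonempty hM hB
  have h := omega_mem_of_cosetSums hM Z hZ χ (isClassElt_blockElt B) (isIntegralElt_blockElt hM hB) fun g => ?_
  · rw [omega_blockElt, if_pos hχ] at h
    exact not_memLocalIdeal_one hM h
  have hsum : ∑ u : Z, (blockElt B).coeff (g * (u : G)) = 0 := by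
    simp only [coeff_blockElt, blockCoeff_eq, ← Finset.mul_sum]
    rw [Finset.sum_comm, Finset.sum_eq_zero, mul_zero]
    intro φ _
    by_cases hφ : φ ∈ B
    · simp only [if_pos hφ, ← Finset.mul_sum, ← map_sum]
      obtain ⟨z₀, hz₀, hne⟩ := hcon φ hφ
      have hS : ∑ u : Z, (φ : G → ℂ) (u : G) = 0 := by
        have h1 : ∑ u : Z, (φ : G → ℂ) (z₀ * (u : G)) = ∑ u : Z, (φ : G → ℂ) (u : G) :=
          Fintype.sum_equiv (Equiv.mulLeft (⟨z₀, hz₀⟩ : Z)) _ _ fun u => rfl
        have h2 : (φ : G → ℂ) 1 * ∑ u : Z, (φ : G → ℂ) (z₀ * (u : G)) = (φ : G → ℂ) z₀ * ∑ u : Z, (φ : G → ℂ) (u : G) := by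
          rw [Finset.mul_sum, Finset.mul_sum]
          exact Finset.sum_congr rfl fun u _ => center_mul φ.2 (hZc hz₀) _
        rw [h1] at h2
        have h3 : ((φ : G → ℂ) 1 - (φ : G → ℂ) z₀) * ∑ u : Z, (φ : G → ℂ) (u : G) = 0 := by linear_combination h2
        exact (mul_eq_zero.1 h3).resolve_left (sub_ne_zero.2 (Ne.symm hne))
      have h4 : (φ : G → ℂ) 1 * ∑ u : Z, (φ : G → ℂ) (g * (u : G)) = 0 := by
        rw [Finset.mul_sum, Finset.sum_congr rfl (g := fun u : Z => (φ : G → ℂ) (u : G) * (φ : G → ℂ) g)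
          (fun u _ => by rw [Subgroup.mem_center_iff.1 (hZc u.2) g, center_mul φ.2 (hZc u.2)]),
          ← Finset.sum_mul, hS, zero_mul]
      rw [(mul_eq_zero.1 h4).resolve_left (apply_one_ne_zero φ.2), map_zero, mul_zero]
    · simp only [if_neg hφ, Finset.sum_const_zero]
  rw [hsum]
  exact memLocalIdeal_zero hM

/-- The index of a centralizer with known `p`-exponent, against the degree of a member of least height. -/
theorem index_eq_mul (hM : IsPModular p M) {B : Set (IrrCharacter G)} {χ : IrrCharacter G}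
    (hs : sInf ((fun φ : IrrCharacter G => (charDegree (φ : G → ℂ)).factorization p) '' B) = degExp p χ)
    {g : G} (hg : centExp p g = blockDefect p B) :
    ∃ u : ℂ, MemLocalRing M u ∧ MemLocalRing M u⁻¹ ∧ u ≠ 0 ∧
      centralChar (χ : G → ℂ) g = u * (χ : G → ℂ) g := by
  haveI := Fact.mk hM.1
  obtain ⟨c, c', hc, hdeg, -, -⟩ := exists_degree_eq hM.1 χ
  set C := Subgroup.centralizer ({g} : Set G) with hC
  have hv : C.index.factorization p = degExp p χ := by
    have h1 : (Nat.card G).factorization p = centExp p g + C.index.factorization p := by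
      rw [← Subgroup.card_mul_index C, Nat.factorization_mul Nat.card_pos.ne' Subgroup.index_ne_zero_of_finite]
      rfl
    rw [hg, blockDefect_eq hs] at h1
    have := degExp_le hM.1 χ
    omega
  set u' := C.index / p ^ C.index.factorization p with hu'
  have hu : ¬ p ∣ u' := Nat.not_dvd_ordCompl hM.1 Subgroup.index_ne_zero_of_finite
  have hidx : (C.index : ℂ) = (p : ℂ) ^ degExp p χ * u' := by
    rw [← hv, ← Nat.cast_pow, ← Nat.cast_mul, Nat.ordProj_mul_ordCompl_eq_self]
  refine ⟨(u' : ℂ) * (c : ℂ)⁻¹, memLocalRing_mul hM (memLocalRing_natCast hM _) (memLocalRing_natCast_inv hM hc),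
    ?_, ?_, ?_⟩
  · rw [mul_inv, inv_inv, mul_comm]
    exact memLocalRing_mul hM (memLocalRing_natCast hM _) (memLocalRing_natCast_inv hM hu)
  · exact mul_ne_zero (Nat.cast_ne_zero.2 fun h => hu (h ▸ dvd_zero p))
      (inv_ne_zero (Nat.cast_ne_zero.2 fun h => hc (h ▸ dvd_zero p)))
  · have h1 : (p : ℂ) ^ degExp p χ ≠ 0 := pow_ne_zero _ (Nat.cast_ne_zero.2 hM.1.ne_zero)
    have h2 : (c : ℂ) ≠ 0 := Nat.cast_ne_zero.2 fun h => hc (h ▸ dvd_zero p)
    rw [centralChar, ← hC, hidx, hdeg]
    field_simp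

/-- A member of height zero is a unit at `x * y`, `x` in the defect group of the defect element `y`. -/
theorem apply_mul_notMem (hM : IsPModular p M) {B : Set (IrrCharacter G)} (hB : IsPBlock M B) {y : G}
    (hy : IsDefectClass M B y) {x : G} (hxy : Commute x y) (hx : ∃ k : ℕ, orderOf x = p ^ k)
    {χ : IrrCharacter G} (hχ : χ ∈ B)
    (hs : sInf ((fun φ : IrrCharacter G => (charDegree (φ : G → ℂ)).factorization p) '' B) = degExp p χ) :
    ¬ MemLocalIdeal M ((χ : G → ℂ) (x * y)) := by
  intro h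
  obtain ⟨u, hu, -, -, he⟩ := index_eq_mul hM hs (centExp_eq_blockDefect hM hB hy)
  refine hy.2.2 χ hχ ?_
  rw [he]
  refine memLocalIdeal_mul_left hM hu ?_
  simpa using memLocalIdeal_sub hM h (BrauerInd.apply_mul_sub_mem hM (isCharacter_of_irr χ.2) hxy hx)

/-- The central characters at `x * y`, for `x` central in the defect group of the defect element `y`, are units. -/
theorem centralChar_mul_center (hM : IsPModular p M) {B : Set (IrrCharacter G)} (hB : IsPBlock M B) {y : G}
    (hy : IsDefectClass M B y) (P : Sylow p (Subgroup.centralizer ({y} : Set G)))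
    {x : Subgroup.centralizer ({y} : Set G)} (hx : x ∈ (P : Subgroup (Subgroup.centralizer ({y} : Set G))))
    (hc : ∀ w ∈ (P : Subgroup (Subgroup.centralizer ({y} : Set G))), x * w = w * x)
    {χ : IrrCharacter G} (hχ : χ ∈ B) : ¬ MemLocalIdeal M (centralChar (χ : G → ℂ) ((x : G) * y)) := by
  classical
  haveI := Fact.mk hM.1
  obtain ⟨χ₀, hχ₀, -, hs⟩ := exists_min_degExp hM hB
  have hxy : Commute (x : G) y := Subgroup.mem_centralizer_singleton_iff.1 x.2
  have hxo : ∃ k : ℕ, orderOf (x : G) = p ^ k := by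
    obtain ⟨k, hk⟩ := IsPGroup.iff_orderOf.1 P.2 ⟨x, hx⟩
    exact ⟨k, by simpa [Subgroup.orderOf_mk] using hk⟩
  have hyreg : ¬ p ∣ orderOf y := fun h => hy.2.1 (by rw [blockCoeff_eq_zero hM hB h]; exact memLocalIdeal_zero hM)
  have hpp : IsPPart p ((x : G) * y) (x : G) := ⟨y, rfl, hxy, hxo, hyreg⟩
  -- the centralizer of `x * y`
  have hle : Subgroup.centralizer ({(x : G) * y} : Set G) ≤ Subgroup.centralizer ({y} : Set G) := by
    obtain ⟨y', hxy', -, -, hxz⟩ := eq_one_of_isPPart hpp hM.1
    obtain ⟨i, hi⟩ := hxz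
    intro g hg
    rw [Subgroup.mem_centralizer_singleton_iff] at hg ⊢
    have h1 : Commute g (x : G) := hi ▸ (show Commute g ((x : G) * y) from hg).zpow_right i
    have h2 : Commute g ((x : G)⁻¹ * ((x : G) * y)) := h1.inv_right.mul_right hg
    rwa [inv_mul_cancel_left] at h2
  have hexp : centExp p ((x : G) * y) = blockDefect p B := by
    rw [← centExp_eq_blockDefect hM hB hy]
    refine le_antisymm ?_ ?_
    · exact ((hM.1.pow_dvd_iff_le_factorization Nat.card_pos.ne').1
        ((Nat.ordProj_dvd _ p).trans (Subgroup.card_dvd_of_le hle)))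
    · have hQ : (P : Subgroup (Subgroup.centralizer ({y} : Set G))).map (Subgroup.centralizer ({y} : Set G)).subtype ≤
          Subgroup.centralizer ({(x : G) * y} : Set G) := by
        rintro _ ⟨w, hw, rfl⟩
        refine Subgroup.mem_centralizer_singleton_iff.2 ?_
        have h1 : Commute (w : G) (x : G) := (congrArg Subtype.val (hc w hw)).symm
        have h2 : Commute (w : G) y := Subgroup.mem_centralizer_singleton_iff.1 w.2
        exact (h1.mul_right h2).eq
      have h1 := Subgroup.card_dvd_of_le hQ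
      rw [Subgroup.card_map_of_injective (Subgroup.centralizer ({y} : Set G)).subtype_injective,
        P.card_eq_multiplicity] at h1
      exact (hM.1.pow_dvd_iff_le_factorization Nat.card_pos.ne').1 h1
  obtain ⟨u, hu, huinv, hu0, he⟩ := index_eq_mul hM hs hexp
  intro h
  refine apply_mul_notMem hM hB hy hxy hxo hχ₀ hs ?_
  have h0 : MemLocalIdeal M (centralChar (χ₀ : G → ℂ) ((x : G) * y)) := by
    simpa using memLocalIdeal_add hM ((IsPBlock.mem_iff hM hB hχ₀).1 hχ ((x : G) * y)) h
  rw [he] at h0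
  have h1 := memLocalIdeal_mul_left hM huinv h0
  rwa [← mul_assoc, inv_mul_cancel₀ hu0, one_mul] at h1

/-- A unit class has a conjugate centralizing the defect group whose `p`-part is central in it. -/
theorem exists_conj_ppart_center (hM : IsPModular p M) {B : Set (IrrCharacter G)} (hB : IsPBlock M B)
    {P : Subgroup G} (hP : IsDefectGroup p M B P) {g : G} {χ : IrrCharacter G} (hχ : χ ∈ B)
    (hg : ¬ MemLocalIdeal M (centralChar (χ : G → ℂ) g)) :
    ∃ x : G, IsConj g x ∧ x ∈ Subgroup.centralizer (P : Set G) ∧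
      ∀ z : G, IsPPart p x z → z ∈ P ∧ ∀ w ∈ P, z * w = w * z := by
  classical
  haveI := Fact.mk hM.1
  have hPcard := card_defectGroup hM hB hP
  obtain ⟨y, hy, S, rfl⟩ := hP
  set P := (S : Subgroup (Subgroup.centralizer ({y} : Set G))).map (Subgroup.centralizer ({y} : Set G)).subtype with hPdef
  have hPp : IsPGroup p P := S.2.map _
  set C := Subgroup.centralizer (P : Set G) with hCdef
  haveI := Fintype.ofFinite C
  haveI : Fintype (ConjClasses C) := Fintype.ofFinite _
  have hCmem : ∀ a, a ∈ C ↔ ∀ q ∈ P, q * a = a * q := fun a => Subgroup.mem_centralizer_iff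
  have hyC : y ∈ C := (hCmem y).2 fun q hq => Subgroup.mem_centralizer_singleton_iff.1 (Subgroup.map_subtype_le _ hq)
  have hec := isClassElt_blockElt B
  have hei := isIntegralElt_blockElt hM hB
  obtain ⟨ξ, hns⟩ : ∃ ξ : IrrCharacter C, ¬ MemLocalIdeal M (omega (ξ : C → ℂ) (ZStar.res C (blockElt B))) := by
    by_contra hcon
    push Not at hcon
    obtain ⟨N, hN0, hN⟩ := ZStar.exists_pow_isSmall hM (ZStar.isClassElt_res hec _) hcon
    obtain ⟨n, rfl⟩ : ∃ n, N = n + 1 := ⟨N - 1, by omega⟩
    have hidem : blockElt B ^ (n + 1) = blockElt B := (isIdempotentElem_blockElt B).pow_succ_eq n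
    have h := ZStar.res_pow_congr hM hPp hCmem hei (ZStar.IsClassElt.conjInv hec _) (n + 1) ⟨y, hyC⟩
    rw [hidem, ZStar.coeff_res, coeff_blockElt] at h
    exact hy.2.1 (by simpa using memLocalIdeal_add hM h (hN ⟨y, hyC⟩))
  have hb := isPBlock_blockOf M ξ
  set b := blockOf M (ξ : C → ℂ) with hbdef
  have hξb : ξ ∈ b := mem_blockOf_self hM ξ
  have hind := ZStar.isInducedBlock_of_not_small hM hPp hCmem hb hB hξb hns
  -- a class of `C` inside the class of `g`
  have hgi := ZStar.omega_res_induced hM hind hξb hχ (isClassElt_classElt g) (isIntegralElt_classElt hM g)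
  rw [omega_classElt χ.2, omega_eq_sum_classes ξ (ZStar.isClassElt_res (isClassElt_classElt g) C)] at hgi
  obtain ⟨K, hK1, hK2⟩ : ∃ K : ConjClasses C, IsConj g ((K.out : C) : G) ∧
      ¬ MemLocalIdeal M (centralChar (ξ : C → ℂ) K.out) := by
    by_contra hcon
    push Not at hcon
    refine hg ?_
    have h2 := memLocalIdeal_sub hM (memLocalIdeal_sum hM Finset.univ (f := fun K : ConjClasses C =>
      (ZStar.res C (classElt g)).coeff K.out * centralChar (ξ : C → ℂ) K.out) fun K _ => ?_) hgi
    · rwa [sub_sub_cancel] at h2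
    rw [ZStar.coeff_res, coeff_classElt]
    split_ifs with hc
    · rw [one_mul]; exact hcon K hc
    · rw [zero_mul]; exact memLocalIdeal_zero hM
  generalize (K.out : C) = h at hK1 hK2
  refine ⟨h, hK1, h.2, fun z hz => ?_⟩
  obtain ⟨w, hzw, hzwc, hzo, hw, hzmem⟩ : ∃ w : G, z * w = h ∧ Commute z w ∧ (∃ k : ℕ, orderOf z = p ^ k) ∧
      ¬ p ∣ orderOf w ∧ z ∈ Subgroup.zpowers (h : G) := by
    obtain ⟨w, h1, h2, h3, h4⟩ := hz
    obtain ⟨-, -, -, -, h5⟩ := eq_one_of_isPPart ⟨w, h1, h2, h3, h4⟩ hM.1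
    exact ⟨w, h1, h2, h3, h4, h5⟩
  have hzC : z ∈ C := (Subgroup.zpowers_le.2 h.2) hzmem
  refine ⟨?_, fun q hq => ((hCmem z).1 hzC q hq).symm⟩
  by_contra hzP
  -- the part of `P` in `C` is central
  set Z := P.subgroupOf C with hZdef
  have hZc : Z ≤ Subgroup.center C := by
    intro u hu
    rw [Subgroup.mem_center_iff]
    intro v
    exact Subtype.ext ((hCmem (v : G)).1 v.2 (u : G) hu).symm
  have hZp : IsPGroup p Z := by
    have : Function.Injective (fun u : Z => (⟨((u : C) : G), u.2⟩ : P)) := fun a b hab =>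
      Subtype.ext (Subtype.ext (congrArg Subtype.val hab :))
    exact hPp.of_injective
      { toFun := fun u : Z => (⟨((u : C) : G), u.2⟩ : P), map_one' := rfl, map_mul' := fun _ _ => rfl } this
  -- the defect group of `b` lies in `Z`
  obtain ⟨gb, hgb⟩ := exists_defectClass hM hb
  obtain ⟨R⟩ : Nonempty (Sylow p (Subgroup.centralizer ({gb} : Set C))) := inferInstance
  set R' := (R : Subgroup (Subgroup.centralizer ({gb} : Set C))).map (Subgroup.centralizer ({gb} : Set C)).subtype with hR'
  have hRdef : IsDefectGroup p M b R' := ⟨gb, hgb, R, rfl⟩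
  have hRZ : R' ≤ Z := by
    have h1 := ZStar.omega_res_induced hM hind hξb hχ hec hei
    rw [omega_blockElt, if_pos hχ, omega_eq_sum_classes ξ (ZStar.isClassElt_res hec C)] at h1
    obtain ⟨L, hL1, hL2⟩ : ∃ L : ConjClasses C, ¬ MemLocalIdeal M (blockCoeff B ((L.out : C) : G)) ∧
        ¬ MemLocalIdeal M (centralChar (ξ : C → ℂ) L.out) := by
      by_contra hcon
      push Not at hcon
      refine not_memLocalIdeal_one hM ?_
      have h2 := memLocalIdeal_sub hM (memLocalIdeal_sum hM Finset.univ (f := fun L : ConjClasses C =>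
        (ZStar.res C (blockElt B)).coeff L.out * centralChar (ξ : C → ℂ) L.out) fun L _ => ?_) h1
      · rwa [sub_sub_cancel] at h2
      rw [ZStar.coeff_res, coeff_blockElt]
      by_cases h3 : MemLocalIdeal M (blockCoeff B ((L.out : C) : G))
      · exact memLocalIdeal_mul_right hM h3 (memLocalRing_centralChar hM ξ _)
      · exact memLocalIdeal_mul_left hM (memLocalRing_blockCoeff hM hB _) (hcon _ h3)
    obtain ⟨l, hl, hlR⟩ := exists_conj_centralizing hM hb hξb hgb.2.1 hL2 (Q := R') (R.2.map _)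
      (fun q hq => Subgroup.mem_centralizer_singleton_iff.1 (Subgroup.map_subtype_le _ hq))
    obtain ⟨c, hc⟩ := isConj_iff.1 hl
    have hlu : ¬ MemLocalIdeal M (blockCoeff B (l : G)) := by
      rw [← hc, Subgroup.coe_mul, Subgroup.coe_mul, Subgroup.coe_inv, ← coeff_blockElt, coeff_conj hec, coeff_blockElt]
      exact hL1
    have hRn : R'.map C.subtype ≤ Subgroup.normalizer (P : Set G) := by
      rintro _ ⟨r, -, rfl⟩
      refine Subgroup.mem_normalizer_iff.2 fun q => ⟨fun hq => ?_, fun hq => ?_⟩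
      · show (r : G) * q * (r : G)⁻¹ ∈ P
        rw [← (hCmem (r : G)).1 r.2 q hq, mul_inv_cancel_right]; exact hq
      · have h3 : (r : G) * q * (r : G)⁻¹ ∈ P := hq
        have h4 := (hCmem (r : G)).1 r.2 _ h3
        rw [inv_mul_cancel_right] at h4
        rw [← mul_left_cancel h4] at h3; exact h3
    have hQp : IsPGroup p ↥(R'.map C.subtype ⊔ P) :=
      IsPGroup.to_sup_of_normal_right' ((R.2.map _).map _) hPp hRn
    have hQl : ∀ q ∈ R'.map C.subtype ⊔ P, q * (l : G) = (l : G) * q := by
      have hle : R'.map C.subtype ⊔ P ≤ Subgroup.centralizer ({(l : G)} : Set G) := by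
        refine sup_le ?_ fun q hq => Subgroup.mem_centralizer_singleton_iff.2 ((hCmem (l : G)).1 l.2 q hq)
        rintro _ ⟨r, hr, rfl⟩
        exact Subgroup.mem_centralizer_singleton_iff.2 (congrArg Subtype.val (hlR r hr))
      exact fun q hq => Subgroup.mem_centralizer_singleton_iff.1 (hle hq)
    obtain ⟨E, hE, hle⟩ := exists_defectGroup_ge hM hB hlu hQp hQl
    have hEP : P = E := Subgroup.eq_of_le_of_card_ge (le_sup_right.trans hle)
      (by rw [card_defectGroup hM hB hE, hPcard])
    intro r hr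
    have : (r : G) ∈ E := hle (Subgroup.mem_sup_left ⟨r, hr, rfl⟩)
    rw [← hEP] at this
    exact this
  -- a member trivial on `Z` vanishes at `h`
  haveI : Z.Normal := ⟨fun u hu v => by
    rwa [Subgroup.mem_center_iff.1 (hZc hu) v, mul_inv_cancel_right]⟩
  obtain ⟨ψ, hψb, hψ⟩ := exists_trivial_of_central hM Z hZp hZc hb
  obtain ⟨ψ', hψ'⟩ := exists_quotient_irr ψ Z hψ
  haveI : Fintype (C ⧸ Z) := Fintype.ofFinite _
  have hcardR := card_defectGroup hM hb hRdef
  have hfull : (Nat.card (C ⧸ Z)).factorization p ≤ degExp p ψ' := by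
    have hdd : degExp p ψ' = degExp p ψ := by
      simp only [degExp, charDegree]
      rw [← QuotientGroup.mk_one, hψ']
    rw [hdd]
    obtain ⟨ψ₀, hψ₀, hmin, hs⟩ := exists_min_degExp hM hb
    have h1 := hmin ψ hψb
    have h2 : p ^ blockDefect p b ∣ Nat.card Z := hcardR ▸ Subgroup.card_dvd_of_le hRZ
    have h3 := (hM.1.pow_dvd_iff_le_factorization Nat.card_pos.ne').1 h2
    have h4 : (Nat.card C).factorization p = (Nat.card (C ⧸ Z)).factorization p + (Nat.card Z).factorization p := by
      rw [Subgroup.card_eq_card_quotient_mul_card_subgroup Z, Nat.factorization_mul Nat.card_pos.ne' Nat.card_pos.ne']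
      rfl
    rw [blockDefect_eq hs] at h3
    omega
  have hsing : p ∣ orderOf ((h : C) : C ⧸ Z) := by
    by_contra hns'
    obtain ⟨i, hi⟩ := hzmem
    have hzi : (h : C) ^ i = ⟨z, hzC⟩ := Subtype.ext (by simpa using hi)
    have hd : orderOf ((⟨z, hzC⟩ : C) : C ⧸ Z) ∣ orderOf ((h : C) : C ⧸ Z) := by
      rw [← hzi, QuotientGroup.mk_zpow]
      exact orderOf_dvd_of_mem_zpowers ⟨i, rfl⟩
    obtain ⟨k, hk⟩ := hzo
    have hd2 : orderOf ((⟨z, hzC⟩ : C) : C ⧸ Z) ∣ p ^ k := by
      refine (orderOf_map_dvd (QuotientGroup.mk' Z) (⟨z, hzC⟩ : C)).trans ?_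
      rw [Subgroup.orderOf_mk, hk]
    obtain ⟨j, -, hj⟩ := (Nat.dvd_prime_pow hM.1).1 hd2
    rcases Nat.eq_zero_or_pos j with rfl | hj0
    · rw [pow_zero, orderOf_eq_one_iff] at hj
      exact hzP (Subgroup.mem_subgroupOf.1 ((QuotientGroup.eq_one_iff (⟨z, hzC⟩ : C)).1 hj))
    · exact hns' ((dvd_pow_self p hj0.ne').trans (hj ▸ hd))
  have h0 : centralChar (ψ : C → ℂ) h = 0 := by
    rw [centralChar, ← hψ' h, apply_eq_zero_of_full hM hfull hsing, mul_zero, zero_div]
  refine hK2 ?_
  have := (IsPBlock.mem_iff hM hb hξb).1 hψb h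
  rwa [h0, sub_zero] at this

end CfsgLib.Blocks
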