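import Cfsg.Agent.Blocks.Covering
import Cfsg.Agent.Blocks.CentralSupport
import Cfsg.Agent.Blocks.Glauberman
import Cfsg.Agent.Clifford.RepBasic

/-!
# Sylow intersections from characters of defect zero
-/

set_option linter.unusedSectionVars false
set_option linter.style.haveILetI false

namespace CfsgLib.Blocks

open Cfsg CfsgLib.CharBasics
open scoped ComplexConjugate

universe u

variable {G : Type u} [Group G] [Fintype G] {p : ℕ} {M : Ideal AlgInt}

/-- A class of defect zero with unit central character at a defect zero character meets every Sylow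
subgroup `S` in an element `x` with `S ∩ S^x = 1`. -/
theorem exists_conj_inter_eq_bot (hM : IsPModular p M) {χ : IrrCharacter G}
    (hfull : (Nat.card G).factorization p ≤ degExp p χ) {w : G}
    (hC : ¬ p ∣ Nat.card (Subgroup.centralizer ({w} : Set G)))
    (hcc : ¬ MemLocalIdeal M (centralChar (χ : G → ℂ) w)) (S : Sylow p G) :
    ∃ g : G, ∀ u ∈ (S : Subgroup G), (g * w * g⁻¹)⁻¹ * u * (g * w * g⁻¹) ∈ (S : Subgroup G) → u = 1 := by
  classical
  haveI := Fact.mk hM.1
  have hp : p.Prime := hM.1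
  by_contra hcon
  push Not at hcon
  haveI : Fintype (S : Subgroup G) := Fintype.ofFinite _
  set a := (Nat.card G).factorization p with ha
  have hSc : Nat.card (S : Subgroup G) = p ^ a := S.card_eq_multiplicity
  have hcl := isClassFunction (isCharacter_of_irr χ.2)
  have hχ1 := apply_one_ne_zero χ.2
  let T : G → ℂ := fun x => ∑ u : (S : Subgroup G), (χ : G → ℂ) (x * (u : G))
  have hTinv : ∀ (s : (S : Subgroup G)) (x : G), T ((s : G) * x * (s : G)⁻¹) = T x := by
    intro s x
    refine Fintype.sum_equiv ((MulAut.conj s⁻¹).toEquiv) _ _ fun u => ?_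
    simp only [MulEquiv.toEquiv_eq_coe, EquivLike.coe_coe, MulAut.conj_apply, inv_inv, Subgroup.coe_mul, Subgroup.coe_inv]
    rw [← hcl (x * ((s : G)⁻¹ * u * s)) (s : G)]
    congr 1
    group
  have hT : ∀ g : G, MemLocalIdeal M (T (g * w * g⁻¹)) := by
    intro g
    set x := g * w * g⁻¹ with hx
    obtain ⟨u₀, hu₀, hu₀', hne⟩ := hcon g
    let U : Subgroup G := (S : Subgroup G) ⊓ (S : Subgroup G).comap (MulAut.conj x⁻¹).toMonoidHom
    have hmemU : ∀ u, u ∈ U ↔ u ∈ (S : Subgroup G) ∧ x⁻¹ * u * x ∈ (S : Subgroup G) := fun u => by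
      simp [U, Subgroup.mem_inf]
    have hU : IsPGroup p U := S.isPGroup'.to_le inf_le_left
    let W := {z : G // x⁻¹ * z ∈ (S : Subgroup G)}
    letI : MulAction U W :=
      { smul := fun v z => ⟨(v : G) * z.1 * (v : G)⁻¹, by
          have h1 : x⁻¹ * ((v : G) * z.1 * (v : G)⁻¹) = (x⁻¹ * (v : G) * x) * (x⁻¹ * z.1) * (v : G)⁻¹ := by group
          rw [h1]
          exact Subgroup.mul_mem _ (Subgroup.mul_mem _ ((hmemU _).1 v.2).2 z.2) (Subgroup.inv_mem _ ((hmemU _).1 v.2).1)⟩
        one_smul := fun z => Subtype.ext (by show ((1 : U) : G) * z.1 * ((1 : U) : G)⁻¹ = z.1; simp)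
        mul_smul := fun v v' z => Subtype.ext (by
          show ((v * v' : U) : G) * z.1 * ((v * v' : U) : G)⁻¹ = (v : G) * ((v' : G) * z.1 * (v' : G)⁻¹) * (v : G)⁻¹
          simp [mul_assoc]) }
    let e : (S : Subgroup G) ≃ W :=
      { toFun := fun u => ⟨x * u, by rw [inv_mul_cancel_left]; exact u.2⟩
        invFun := fun z => ⟨x⁻¹ * z.1, z.2⟩
        left_inv := fun u => Subtype.ext (inv_mul_cancel_left _ _)
        right_inv := fun z => Subtype.ext (mul_inv_cancel_left _ _) }
    haveI : Fintype W := Fintype.ofEquiv _ e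
    show MemLocalIdeal M (∑ u : (S : Subgroup G), (χ : G → ℂ) (x * u))
    rw [show (∑ u : (S : Subgroup G), (χ : G → ℂ) (x * u)) = ∑ z : W, (χ : G → ℂ) z.1 from
      e.sum_comp (fun z : W => (χ : G → ℂ) z.1)]
    have hs := sum_sub_fixed_mem hM hU (fun z : W => (χ : G → ℂ) z.1)
      (fun v z => hcl z.1 (v : G)) (fun z => memLocalRing_apply hM χ _)
    have h2 : MemLocalIdeal M (∑ z : W, if (∀ v : U, v • z = z) then (χ : G → ℂ) z.1 else 0) := by
      refine memLocalIdeal_sum hM _ fun z _ => ?_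
      split_ifs with hz
      · refine apply_mem_of_lt hM χ z.1 ?_
        have h1 : u₀ ∈ Subgroup.centralizer ({z.1} : Set G) := by
          rw [Subgroup.mem_centralizer_singleton_iff]
          exact mul_inv_eq_iff_eq_mul.1 (congrArg Subtype.val (hz ⟨u₀, (hmemU _).2 ⟨hu₀, hu₀'⟩⟩))
        have h2 : 1 ≤ centExp p z.1 := by
          refine (hp.dvd_iff_one_le_factorization Nat.card_pos.ne').1 ?_
          have h3 : p ∣ orderOf u₀ := by
            obtain ⟨k, hk⟩ := IsPGroup.iff_orderOf.1 S.isPGroup' ⟨u₀, hu₀⟩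
            rw [← Subgroup.orderOf_coe] at hk
            rw [hk]
            exact dvd_pow_self p fun h0 => hne (orderOf_eq_one_iff.1 (by rw [hk, h0, pow_zero]))
          exact h3.trans (Subgroup.orderOf_coe (⟨u₀, h1⟩ : Subgroup.centralizer ({z.1} : Set G)) ▸ orderOf_dvd_natCard _)
        omega
      · exact memLocalIdeal_zero hM
    have h3 := memLocalIdeal_add hM hs h2
    rwa [sub_add_cancel] at h3
  -- the sum over all conjugates
  have hsum : ∑ g : G, T (g * w * g⁻¹) = (Nat.card G : ℂ) * (χ : G → ℂ) w := by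
    let z : MonoidAlgebra ℂ G := ∑ h : G, MonoidAlgebra.single (h * w * h⁻¹) (1 : ℂ)
    have hz : IsClassElt z := by
      intro g r
      simp only [z, MonoidAlgebra.coeff_sum, Finset.sum_apply', MonoidAlgebra.coeff_single, Finsupp.single_apply]
      refine (Fintype.sum_equiv (Equiv.mulLeft r) _ _ fun h => ?_).symm
      rw [Equiv.coe_mulLeft]
      refine if_congr ?_ rfl rfl
      constructor
      · intro e; rw [← e]; group
      · intro e
        have e' := congrArg (fun t => r⁻¹ * t * r) e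
        simpa [mul_assoc] using e'
    have h := omega_mul χ.2 hz (∑ u : (S : Subgroup G), MonoidAlgebra.single (u : G) (1 : ℂ))
    simp only [z, Finset.sum_mul, Finset.mul_sum, MonoidAlgebra.single_mul_single, ZStar.omega_sum, omega_single,
      one_mul] at h
    rw [Finset.sum_comm] at h
    simp only [hcl w, ← Finset.sum_div, Finset.sum_const, Finset.card_univ, nsmul_eq_mul] at h
    have hS1 : ∑ u : (S : Subgroup G), (χ : G → ℂ) (u : G) = (χ : G → ℂ) 1 := by
      rw [Finset.sum_eq_single (1 : (S : Subgroup G))]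
      · rfl
      · intro u _ hu
        refine apply_eq_zero_of_full hM hfull ?_
        obtain ⟨k, hk⟩ := IsPGroup.iff_orderOf.1 S.isPGroup' u
        rw [Subgroup.orderOf_coe, hk]
        exact dvd_pow_self p fun h0 => hu (orderOf_eq_one_iff.1 (by rw [hk, h0, pow_zero]))
      · simp
    field_simp at h
    rw [← Nat.card_eq_fintype_card] at h
    show ∑ g : G, ∑ u : (S : Subgroup G), (χ : G → ℂ) (g * w * g⁻¹ * (u : G)) = _
    rw [← Finset.sum_div, ← Finset.mul_sum, hS1] at h
    rw [h]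
    field_simp
  -- the sum over all conjugates is divisible by `|S| M`
  haveI : Fintype (G ⧸ (S : Subgroup G)) := Fintype.ofFinite _
  have hdiv : ∃ μ : ℂ, MemLocalIdeal M μ ∧ ∑ g : G, T (g * w * g⁻¹) = (p : ℂ) ^ a * μ := by
    refine ⟨∑ q : G ⧸ (S : Subgroup G), T (q.out⁻¹ * w * q.out⁻¹⁻¹), memLocalIdeal_sum hM _ fun q _ => hT _, ?_⟩
    rw [show ∑ g : G, T (g * w * g⁻¹) = ∑ g : G, T (g⁻¹ * w * g⁻¹⁻¹) from
      (Fintype.sum_equiv (Equiv.inv G) (fun g => T (g⁻¹ * w * g⁻¹⁻¹)) (fun g => T (g * w * g⁻¹)) fun g => rfl).symm,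
      ← Finset.sum_fiberwise Finset.univ (fun g : G => (g : G ⧸ (S : Subgroup G))), Finset.mul_sum]
    refine Finset.sum_congr rfl fun q _ => ?_
    have hc : ((Finset.univ.filter fun g : G => (g : G ⧸ (S : Subgroup G)) = q)).card = p ^ a := by
      rw [← hSc, Nat.card_eq_fintype_card, ← Finset.card_univ]
      symm
      refine Finset.card_bij (fun u _ => q.out * (u : G)) ?_ ?_ ?_
      · intro u _
        refine Finset.mem_filter.2 ⟨Finset.mem_univ _, ?_⟩
        conv_rhs => rw [← Quotient.out_eq q]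
        exact (QuotientGroup.eq.2 (by simp)).symm
      · intro u _ u' _ h; exact Subtype.ext (mul_left_cancel h)
      · intro g hg
        refine ⟨⟨q.out⁻¹ * g, QuotientGroup.eq.1 ?_⟩, Finset.mem_univ _, by simp⟩
        rw [(Finset.mem_filter.1 hg).2]
        exact Quotient.out_eq q
    rw [Finset.sum_congr rfl (g := fun _ => T (q.out⁻¹ * w * q.out⁻¹⁻¹)), Finset.sum_const, hc, nsmul_eq_mul,
      Nat.cast_pow]
    intro g hg
    have hu : q.out⁻¹ * g ∈ (S : Subgroup G) := QuotientGroup.eq.1 (by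
      rw [(Finset.mem_filter.1 hg).2]; exact Quotient.out_eq q)
    rw [← hTinv ⟨(q.out⁻¹ * g)⁻¹, Subgroup.inv_mem _ hu⟩ (q.out⁻¹ * w * q.out⁻¹⁻¹)]
    congr 1
    show g⁻¹ * w * g⁻¹⁻¹ = _
    simp [mul_assoc]
  obtain ⟨μ, hμ, hμe⟩ := hdiv
  obtain ⟨c, c', hc, hχe, -, -⟩ := exists_degree_eq (p := p) hp χ
  have hde : degExp p χ = a := le_antisymm (degExp_le hp χ) hfull
  rw [hsum, centralChar_eq_smul χ w, mul_div_cancel₀ _ (Nat.cast_ne_zero.2 Nat.card_pos.ne'), hχe, hde] at hμe
  have h : centralChar (χ : G → ℂ) w * ((c * Nat.card (Subgroup.centralizer ({w} : Set G)) : ℕ) : ℂ) = μ := by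
    refine mul_left_cancel₀ (pow_ne_zero a (Nat.cast_ne_zero.2 hp.ne_zero : (p : ℂ) ≠ 0)) ?_
    rw [← hμe]
    push_cast
    ring
  rw [← h] at hμ
  rcases memLocalIdeal_of_mul hM (memLocalRing_centralChar hM χ w) (memLocalRing_natCast hM _) hμ with h1 | h1
  · exact hcc h1
  · exact (hp.dvd_mul.1 ((memLocalIdeal_natCast_iff hM _).1 h1)).elim hc hC

/-- Every block contains a character trivial on a given normal `p`-subgroup. -/
theorem exists_inflated_mem (hM : IsPModular p M) (Q : Subgroup G) [Q.Normal] (hQ : IsPGroup p Q)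
    {B : Set (IrrCharacter G)} (hB : IsPBlock M B) :
    ∃ χ : IrrCharacter (G ⧸ Q), ∃ θ ∈ B, (θ : G → ℂ) = (χ : G ⧸ Q → ℂ) ∘ QuotientGroup.mk := by
  classical
  haveI := Fintype.ofFinite Q
  haveI : Fintype (G ⧸ Q) := Fintype.ofFinite _
  obtain ⟨χ₀, hχ₀⟩ := IsPBlock.nonempty hM hB
  by_contra hcon
  push Not at hcon
  let v : G ⧸ Q → ℂ := fun q => ∑ g : G, if (g : G ⧸ Q) = q then blockCoeff B g else 0
  have hvc : IsClassElt (ofFun v) := by
    intro q r
    obtain ⟨y, rfl⟩ := QuotientGroup.mk_surjective r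
    simp only [coeff_ofFun, v]
    refine Fintype.sum_equiv (MulAut.conj y⁻¹).toEquiv _ _ fun g => ?_
    have hcl := isClassElt_blockElt B g y⁻¹
    simp only [coeff_blockElt] at hcl
    simp only [MulEquiv.toEquiv_eq_coe, EquivLike.coe_coe, MulAut.conj_apply, inv_inv] at hcl ⊢
    refine if_congr ?_ hcl.symm rfl
    rw [QuotientGroup.mk_mul, QuotientGroup.mk_mul, QuotientGroup.mk_inv]
    constructor
    · intro h; rw [h]; group
    · intro h; rw [← h]; group
  have hv : ofFun v = 0 := by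
    refine eq_of_omega_eq hvc (fun _ _ => rfl) fun φ => ?_
    have hirr := CfsgLib.Clifford.isIrrCharacter_comp φ.2 (QuotientGroup.mk' Q) (QuotientGroup.mk'_surjective Q)
    let θ : IrrCharacter G := ⟨_, hirr⟩
    have h0 : omega (θ : G → ℂ) (blockElt B) = 0 := by
      rw [omega_blockElt, if_neg]
      exact fun hθ => hcon φ θ hθ rfl
    have e : omega (φ : G ⧸ Q → ℂ) (ofFun v) = omega (θ : G → ℂ) (blockElt B) := by
      simp only [omega, coeff_ofFun, v, coeff_blockElt, Finset.sum_mul]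
      rw [Finset.sum_comm]
      congr 1
      refine Finset.sum_congr rfl fun g _ => ?_
      rw [Finset.sum_eq_single (g : G ⧸ Q) (fun q _ hq => by rw [if_neg (Ne.symm hq), zero_mul]) (by simp), if_pos rfl]
      rfl
    rw [e, h0, omega]
    simp
  have hcoset : ∀ g : G, MemLocalIdeal M (∑ u : Q, (blockElt B).coeff (g * (u : G))) := by
    intro g
    have h1 : (ofFun v).coeff (g : G ⧸ Q) = 0 := by rw [hv]; simp
    rw [coeff_ofFun] at h1
    have h2 : ∑ u : Q, (blockElt B).coeff (g * (u : G)) = v (g : G ⧸ Q) := by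
      simp only [v, ← Finset.sum_filter, coeff_blockElt]
      refine Finset.sum_bij (fun u _ => g * (u : G)) ?_ ?_ ?_ fun u _ => rfl
      · intro u _
        exact Finset.mem_filter.2 ⟨Finset.mem_univ _, (QuotientGroup.eq.2 (by simp)).symm⟩
      · intro u _ u' _ h; exact Subtype.ext (mul_left_cancel h)
      · intro h hh
        exact ⟨⟨g⁻¹ * h, QuotientGroup.eq.1 (Finset.mem_filter.1 hh).2.symm⟩, Finset.mem_univ _, by simp⟩
    rw [h2, h1]
    exact memLocalIdeal_zero hM
  have h := omega_mem_of_cosetSums hM Q hQ χ₀ (isClassElt_blockElt B) (isIntegralElt_blockElt hM hB) hcoset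
  rw [omega_blockElt, if_pos hχ₀] at h
  exact not_memLocalIdeal_one hM h

end CfsgLib.Blocks
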