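import Cfsg.Agent.Blocks.Covering
import Cfsg.Agent.Blocks.NormalPSub
import Cfsg.Agent.Blocks.Green
import Cfsg.Agent.CoprimeAction.Basic
import Cfsg.Agent.PGroup.Basic
import Cfsg.Agent.OddChar.DadeBasic

/-!
# Blocks of the quotient by the derived subgroup of a normal `p`-subgroup
-/

set_option autoImplicit false
set_option linter.style.haveILetI false
set_option linter.unusedSectionVars false

namespace CfsgLib.Blocks

open Cfsg CfsgLib.CharBasics

universe u

variable {p : ℕ} {M : Ideal AlgInt} {G : Type u} [Group G]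

/-- Central characters on `p`-regular classes determine the block. -/
theorem sameBlock_of_regular [Finite G] (hM : IsPModular p M) {φ ψ : IrrCharacter G}
    (h : ∀ g : G, ¬ p ∣ orderOf g → MemLocalIdeal M (centralChar (φ : G → ℂ) g - centralChar (ψ : G → ℂ) g)) :
    SameBlock M (φ : G → ℂ) (ψ : G → ℂ) := by
  classical
  haveI := Fintype.ofFinite G
  haveI := Fintype.ofFinite (ConjClasses G)
  have hB : IsPBlock M (blockOf M (φ : G → ℂ)) := isPBlock_blockOf M φ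
  have h1 : MemLocalIdeal M (omega (φ : G → ℂ) (blockElt (blockOf M (φ : G → ℂ))) -
      omega (ψ : G → ℂ) (blockElt (blockOf M (φ : G → ℂ)))) := by
    rw [omega_eq_sum_classes φ (isClassElt_blockElt _), omega_eq_sum_classes ψ (isClassElt_blockElt _),
      ← Finset.sum_sub_distrib]
    refine memLocalIdeal_sum hM _ fun C _ => ?_
    rw [← mul_sub, coeff_blockElt]
    by_cases hC : p ∣ orderOf (Quotient.out C : G)
    · rw [blockCoeff_eq_zero hM hB hC, zero_mul]; exact memLocalIdeal_zero hM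
    · exact memLocalIdeal_mul_left hM (memLocalRing_blockCoeff hM hB _) (h _ hC)
  rw [omega_blockElt, omega_blockElt, if_pos (mem_blockOf_self hM φ)] at h1
  by_cases hψ : ψ ∈ blockOf M (φ : G → ℂ)
  · exact (IsPBlock.mem_iff hM hB (mem_blockOf_self hM φ)).1 hψ
  · rw [if_neg hψ, sub_zero] at h1
    exact absurd h1 (not_memLocalIdeal_one hM)

/-- A `p`-regular element of a quotient lifts to one. -/
theorem exists_regular_lift [Finite G] (hp : p.Prime) {N : Subgroup G} [N.Normal] {q : G ⧸ N}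
    (hq : ¬ p ∣ orderOf q) : ∃ g : G, ¬ p ∣ orderOf g ∧ (g : G ⧸ N) = q := by
  obtain ⟨y, rfl⟩ := QuotientGroup.mk_surjective q
  obtain ⟨a, m, hm, hy⟩ := Nat.exists_eq_pow_mul_and_not_dvd (orderOf_pos y).ne' p hp.ne_one
  have hcop : m.Coprime (p ^ a) := (((Nat.Prime.coprime_iff_not_dvd hp).2 hm).symm).pow_right a
  obtain ⟨e, he1, he2⟩ := CfsgLib.OddChar.exists_strip_exponent hcop
  refine ⟨y ^ e, fun h => hm ?_, ?_⟩
  · refine h.trans (orderOf_dvd_of_pow_eq_one ?_)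
    rw [← pow_mul, ← orderOf_dvd_iff_pow_eq_one, hy]
    exact Nat.mul_dvd_mul he2 dvd_rfl
  · rw [QuotientGroup.mk_pow]
    refine CfsgLib.OddChar.pow_eq_self_of_modEq he1 ?_
    have h1 : orderOf (y : G ⧸ N) ∣ p ^ a * m := hy ▸ orderOf_map_dvd (QuotientGroup.mk' N) y
    exact (Nat.Coprime.dvd_of_dvd_mul_left (Nat.Coprime.pow_right a ((Nat.Prime.coprime_iff_not_dvd hp).2 hq).symm) h1)

theorem mem_centralizer_of_quot [Finite G] [Fact p.Prime] (D : Subgroup G) [D.Normal] (hD : IsPGroup p D) {g : G}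
    (hg : ¬ p ∣ orderOf g)
    (hc : (g : G ⧸ ⁅D, D⁆) ∈ Subgroup.centralizer ((D.map (QuotientGroup.mk' ⁅D, D⁆) : Subgroup (G ⧸ ⁅D, D⁆)) : Set (G ⧸ ⁅D, D⁆))) :
    g ∈ Subgroup.centralizer (D : Set G) := by
  have hle : Subgroup.zpowers g ≤ Subgroup.centralizer (D : Set G) := by
    refine CfsgLib.CoprimeAction.le_centralizer_of_frattini ?_ ?_
    · rw [Nat.card_zpowers]
      obtain ⟨k, hk⟩ := IsPGroup.iff_card.1 (hD.to_subgroup (frattini D))
      rw [hk]
      exact ((Nat.Prime.coprime_iff_not_dvd Fact.out).2 hg).symm.pow_right k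
    · intro a ha d hd
      have h1 : (a : G ⧸ ⁅D, D⁆) ∈ Subgroup.centralizer ((D.map (QuotientGroup.mk' ⁅D, D⁆) : Subgroup (G ⧸ ⁅D, D⁆)) : Set (G ⧸ ⁅D, D⁆)) := by
        obtain ⟨i, rfl⟩ := ha
        show ((g ^ i : G) : G ⧸ ⁅D, D⁆) ∈ _
        rw [QuotientGroup.mk_zpow]
        exact Subgroup.zpow_mem _ hc i
      have h2 := Subgroup.mem_centralizer_iff.1 h1 (d : G ⧸ ⁅D, D⁆) ⟨d, hd, rfl⟩
      have h3 : a * d * a⁻¹ * d⁻¹ ∈ ⁅D, D⁆ := by
        rw [← QuotientGroup.eq_one_iff, QuotientGroup.mk_mul, QuotientGroup.mk_mul, QuotientGroup.mk_mul,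
          QuotientGroup.mk_inv, QuotientGroup.mk_inv, ← h2]
        simp [mul_assoc]
      rw [← Subgroup.map_subtype_commutator] at h3
      exact Subgroup.map_mono (CfsgLib.PGroup.commutator_le_frattini hD) h3
  exact hle (Subgroup.mem_zpowers g)

theorem sameBlock_of_inflate_commQuot [Finite G] (hM : IsPModular p M) (D : Subgroup G) [D.Normal] (hD : IsPGroup p D)
    {χ ψ : IrrCharacter (G ⧸ ⁅D, D⁆)}
    (h : SameBlock M ((χ : G ⧸ ⁅D, D⁆ → ℂ) ∘ QuotientGroup.mk) ((ψ : G ⧸ ⁅D, D⁆ → ℂ) ∘ QuotientGroup.mk)) :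
    SameBlock M (χ : G ⧸ ⁅D, D⁆ → ℂ) (ψ : G ⧸ ⁅D, D⁆ → ℂ) := by
  classical
  haveI := Fact.mk hM.1
  haveI := Fintype.ofFinite (G ⧸ ⁅D, D⁆)
  refine sameBlock_of_regular hM fun q hq => ?_
  set Dq := D.map (QuotientGroup.mk' ⁅D, D⁆)
  haveI : Fintype Dq := Fintype.ofFinite _
  haveI : Dq.Normal := Subgroup.Normal.map inferInstance _ (QuotientGroup.mk'_surjective _)
  by_cases hc : q ∈ Subgroup.centralizer (Dq : Set (G ⧸ ⁅D, D⁆))
  swap
  · exact memLocalIdeal_sub hM (centralChar_mem_of_notMem_centralizer hM Dq (hD.map _) χ hc)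
      (centralChar_mem_of_notMem_centralizer hM Dq (hD.map _) ψ hc)
  obtain ⟨g, hg, rfl⟩ := exists_regular_lift hM.1 hq
  have hgC := mem_centralizer_of_quot D hD hg hc
  have hidx : (Subgroup.centralizer ({(g : G ⧸ ⁅D, D⁆)} : Set (G ⧸ ⁅D, D⁆))).index =
      (Subgroup.centralizer ({g} : Set G)).index := by
    rw [← Subgroup.index_comap_of_surjective _ (QuotientGroup.mk'_surjective ⁅D, D⁆)]
    congr 1
    ext x
    rw [Subgroup.mem_comap, Subgroup.mem_centralizer_singleton_iff, Subgroup.mem_centralizer_singleton_iff]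
    refine ⟨fun hx => ?_, fun hx => congrArg (QuotientGroup.mk' ⁅D, D⁆) hx⟩
    have hd : g⁻¹ * (x⁻¹ * g * x) ∈ ⁅D, D⁆ := by
      rw [← QuotientGroup.eq]
      show (g : G ⧸ ⁅D, D⁆) = _
      have hx' : (x : G ⧸ ⁅D, D⁆) * g = g * x := hx
      rw [QuotientGroup.mk_mul, QuotientGroup.mk_mul, QuotientGroup.mk_inv, mul_assoc, ← hx', inv_mul_cancel_left]
    set d := g⁻¹ * (x⁻¹ * g * x) with hd_def
    have hdD : d ∈ D := Subgroup.commutator_le_self D hd
    have hcomm : Commute g d := ((Subgroup.mem_centralizer_iff.1 hgC) d hdD).symm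
    have hgd : g * d = x⁻¹ * g * x := by rw [hd_def, mul_inv_cancel_left]
    have hord : d ^ orderOf g = 1 := by
      have h1 : (g * d) ^ orderOf g = 1 := by
        rw [hgd, show x⁻¹ * g * x = x⁻¹ * g * (x⁻¹)⁻¹ by rw [inv_inv], conj_pow, pow_orderOf_eq_one]; simp
      rwa [hcomm.mul_pow, pow_orderOf_eq_one, one_mul] at h1
    obtain ⟨k, hk⟩ := IsPGroup.iff_orderOf.1 hD ⟨d, hdD⟩
    rw [← Subgroup.orderOf_coe] at hk
    have hd1 : d = 1 := orderOf_eq_one_iff.1 (Nat.eq_one_of_dvd_coprimes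
      (((Nat.Prime.coprime_iff_not_dvd hM.1).2 hg).symm.pow_right k) (orderOf_dvd_of_pow_eq_one hord) (hk ▸ dvd_rfl))
    rw [hd1, mul_one] at hgd
    calc x * g = x * (x⁻¹ * g * x) := by rw [← hgd]
      _ = g * x := by simp [mul_assoc]
  have e : ∀ φ : G ⧸ ⁅D, D⁆ → ℂ, centralChar (φ ∘ QuotientGroup.mk) g = centralChar φ (g : G ⧸ ⁅D, D⁆) := by
    intro φ
    simp only [centralChar, Function.comp_apply, hidx, QuotientGroup.mk_one]
  rw [← e, ← e]
  exact h g

end CfsgLib.Blocks
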