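import Cfsg.Agent.Blocks.DefectGroup

/-!
# Bounds on heights
-/

set_option linter.unusedSectionVars false
set_option linter.style.haveILetI false

namespace CfsgLib.Blocks

open Cfsg CfsgLib.CharBasics

variable {G : Type*} [Group G] [Fintype G] {p : ℕ} {M : Ideal AlgInt}

/-- A member of a block not of least degree exponent has defect at least two. -/
theorem degExp_add_two_le (hM : IsPModular p M) {B : Set (IrrCharacter G)} (hB : IsPBlock M B)
    {χ ρ : IrrCharacter G} (hχ : χ ∈ B) (hmin : ∀ ρ ∈ B, degExp p χ ≤ degExp p ρ) (hρ : ρ ∈ B)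
    (hlt : degExp p χ < degExp p ρ) : degExp p ρ + 2 ≤ (Nat.card G).factorization p := by
  classical
  haveI : Fintype (IrrCharacter G) := @Fintype.ofFinite _ finite_irrCharacter
  set a := (Nat.card G).factorization p with ha
  have hle := degExp_le hM.1 ρ
  have hp := hM.1
  by_contra hcon
  push Not at hcon
  have hcases : degExp p ρ = a ∨ degExp p ρ + 1 = a := by omega
  rcases hcases with h | h
  · obtain ⟨x, hx⟩ := pow_dvd_regInt hM ρ ρ
    obtain ⟨hpos, hub, -⟩ := regInt_self_bounds (p := p) hp ρ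
    rw [← ha] at hub
    rw [h] at hx
    rw [hx] at hpos hub
    have hpa : (0 : ℤ) < (p : ℤ) ^ a := pow_pos (Int.natCast_pos.2 hp.pos) _
    have hx1 : x = 1 := by
      have h1 : 0 < x := pos_of_mul_pos_right hpos hpa.le
      have h2 : x ≤ 1 := le_of_mul_le_mul_left (by rwa [mul_one]) hpa
      omega
    have hsq := sum_regInt_sq (p := p) hp ρ
    rw [hx, hx1, mul_one, ← ha, ← Finset.add_sum_erase _ _ (Finset.mem_univ ρ), hx, hx1, mul_one, ← pow_two,
      add_eq_left] at hsq
    have hne : χ ≠ ρ := fun e => by rw [e] at hlt; exact lt_irrefl _ hlt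
    have := (Finset.sum_eq_zero_iff_of_nonneg fun i _ => sq_nonneg _).1 hsq χ
      (Finset.mem_erase.2 ⟨hne, Finset.mem_univ _⟩)
    rw [pow_eq_zero_iff two_ne_zero, regInt_comm hp] at this
    exact regInt_not_dvd hM hB hχ hmin hρ (this ▸ dvd_zero _)
  · have hd : p ^ (a - 1) ∣ charDegree (ρ : G → ℂ) :=
      (hp.pow_dvd_iff_le_factorization (charDegree_pos ρ.2).ne').2 (by
        show a - 1 ≤ degExp p ρ; omega)
    have h2 := pow_dvd_degree_of_sameBlock hM (sameBlock_symm ((IsPBlock.mem_iff hM hB hχ).1 hρ)) hd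
    have h3 : a - 1 ≤ degExp p χ := (hp.pow_dvd_iff_le_factorization (charDegree_pos χ.2).ne').1 h2
    omega

/-- A member of positive height bounds the number of members of height zero. -/
theorem four_mul_card_heightZero_le (hM : IsPModular p M) {B : Set (IrrCharacter G)} (hB : IsPBlock M B)
    {χ ρ : IrrCharacter G} (hmin : ∀ ρ ∈ B, degExp p χ ≤ degExp p ρ) (hρ : ρ ∈ B)
    (hlt : degExp p χ < degExp p ρ) [Fintype (IrrCharacter G)] [DecidablePred (· ∈ B)] :
    4 * (Finset.univ.filter fun ψ : IrrCharacter G => ψ ∈ B ∧ degExp p ψ = degExp p χ).card ≤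
      p ^ (2 * ((Nat.card G).factorization p - degExp p ρ)) := by
  classical
  set a := (Nat.card G).factorization p with ha
  set S := Finset.univ.filter fun ψ : IrrCharacter G => ψ ∈ B ∧ degExp p ψ = degExp p χ with hS
  have hp := hM.1
  have hle := degExp_le hp ρ
  obtain ⟨j, hj⟩ : ∃ j, a = degExp p ρ + j := ⟨a - degExp p ρ, by omega⟩
  obtain ⟨x, hx⟩ := pow_dvd_regInt hM ρ ρ
  choose u hu using fun ψ : IrrCharacter G => pow_dvd_regInt hM ρ ψ
  have hsq := sum_regInt_sq (p := p) hp ρ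
  have hppos : (0 : ℤ) < (p : ℤ) ^ degExp p ρ := pow_pos (Int.natCast_pos.2 hp.pos) _
  have hsum : ∑ ψ : IrrCharacter G, u ψ ^ 2 = (p : ℤ) ^ j * u ρ := by
    simp only [hu, mul_pow, ← Finset.mul_sum] at hsq
    rw [← ha, hj, pow_add] at hsq
    refine mul_left_cancel₀ (pow_ne_zero 2 hppos.ne') ?_
    linear_combination hsq
  have hnotin : ρ ∉ S := fun h => hlt.ne (Finset.mem_filter.1 h).2.2.symm
  have hone : ∀ ψ ∈ S, (1 : ℤ) ≤ u ψ ^ 2 := by
    intro ψ hψ
    obtain ⟨hψB, hψe⟩ := (Finset.mem_filter.1 hψ).2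
    have h := regInt_not_dvd hM hB hψB (fun φ hφ => hψe ▸ hmin φ hφ) hρ
    rw [regInt_comm hp, hu] at h
    have hu0 : u ψ ≠ 0 := fun h0 => h (by rw [h0, mul_zero]; exact dvd_zero _)
    nlinarith [mul_self_pos.2 hu0]
  have hbound : (S.card : ℤ) + u ρ ^ 2 ≤ (p : ℤ) ^ j * u ρ := by
    rw [← hsum]
    calc (S.card : ℤ) + u ρ ^ 2 ≤ ∑ ψ ∈ S, u ψ ^ 2 + u ρ ^ 2 := by
          gcongr
          rw [Finset.card_eq_sum_ones]
          push_cast
          exact Finset.sum_le_sum hone
      _ = ∑ ψ ∈ insert ρ S, u ψ ^ 2 := by rw [Finset.sum_insert hnotin, add_comm]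
      _ ≤ _ := Finset.sum_le_sum_of_subset_of_nonneg (Finset.subset_univ _) fun i _ _ => sq_nonneg _
  have key : ((4 * S.card : ℕ) : ℤ) ≤ ((p ^ (2 * (a - degExp p ρ)) : ℕ) : ℤ) := by
    rw [show a - degExp p ρ = j by omega]
    push_cast
    rw [mul_comm 2 j, pow_mul]
    nlinarith [sq_nonneg ((p : ℤ) ^ j - 2 * u ρ)]
  exact_mod_cast key

/-- Heights are at most the defect less two, and a positive height bounds the size of the block. -/
theorem height_bounds (hM : IsPModular p M) {B : Set (IrrCharacter G)} (hB : IsPBlock M B) :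
    ((∃ χ ∈ B, 0 < blockHeight p B (χ : G → ℂ)) → 2 * Nat.card B ≤ p ^ (2 * blockDefect p B - 2)) ∧
      ∀ χ ∈ B, (blockDefect p B ≤ 1 → blockHeight p B (χ : G → ℂ) = 0) ∧
        (2 ≤ blockDefect p B → blockHeight p B (χ : G → ℂ) ≤ blockDefect p B - 2) := by
  classical
  haveI : Fintype (IrrCharacter G) := @Fintype.ofFinite _ finite_irrCharacter
  obtain ⟨χ, hχ, hmin, hs⟩ := exists_min_degExp hM hB
  set a := (Nat.card G).factorization p with ha
  have hbh := blockHeight_eq (B := B) hs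
  rw [blockDefect_eq hs]
  have key : ∀ ρ ∈ B, degExp p χ < degExp p ρ → degExp p ρ + 2 ≤ a := fun ρ hρ h =>
    degExp_add_two_le hM hB hχ hmin hρ h
  refine ⟨?_, fun ρ hρ => ⟨fun hd => ?_, fun hd => ?_⟩⟩
  · rintro ⟨ρ, hρ, hh⟩
    rw [hbh] at hh
    have hlt : degExp p χ < degExp p ρ := by omega
    have h2 := key ρ hρ hlt
    set S := Finset.univ.filter fun ψ : IrrCharacter G => ψ ∈ B ∧ degExp p ψ = degExp p χ with hS
    set T := Finset.univ.filter fun ψ : IrrCharacter G => ψ ∈ B ∧ degExp p ψ ≠ degExp p χ with hT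
    obtain ⟨e, he⟩ : ∃ e, a - degExp p χ = e + 1 := ⟨a - degExp p χ - 1, by omega⟩
    have h4 : 4 * S.card ≤ p ^ (2 * (a - degExp p χ) - 2) :=
      (four_mul_card_heightZero_le hM hB hmin hρ hlt).trans (Nat.pow_le_pow_right hM.1.pos (by omega))
    have hbf := brauer_feit hM hB
    have hB' : Nat.card B = S.card + T.card := by
      rw [Nat.card_eq_fintype_card, Fintype.card_subtype, ← Finset.card_union_of_disjoint]
      · congr 1
        ext ψ
        simp only [hS, hT, Finset.mem_filter, Finset.mem_univ, true_and, Finset.mem_union]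
        tauto
      · exact Finset.disjoint_filter.2 fun ψ _ h h' => h'.2 h.2
    have hw : S.card + p ^ 2 * T.card ≤
        ∑ ψ : IrrCharacter G, (if ψ ∈ B then p ^ (2 * blockHeight p B (ψ : G → ℂ)) else 0) := by
      rw [hS, hT, Finset.card_filter, Finset.card_filter, Finset.mul_sum, ← Finset.sum_add_distrib]
      refine Finset.sum_le_sum fun ψ _ => ?_
      by_cases hψ : ψ ∈ B
      · by_cases he : degExp p ψ = degExp p χ
        · simp [hψ, he, hbh]
        · simp only [hψ, he, true_and, ne_eq, not_false_eq_true, if_true, if_false, zero_add, mul_one]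
          refine Nat.pow_le_pow_right hM.1.pos ?_
          have := hmin ψ hψ
          rw [hbh]
          omega
      · simp [hψ]
    have hS1 : 1 ≤ S.card := Finset.card_pos.2 ⟨χ, Finset.mem_filter.2 ⟨Finset.mem_univ _, hχ, rfl⟩⟩
    rw [blockDefect_eq hs, he, show 2 * (e + 1) = 2 * e + 2 by ring, pow_add] at hbf
    rw [he, show 2 * (e + 1) - 2 = 2 * e by omega] at h4 ⊢
    have hT4 : 4 * T.card ≤ p ^ (2 * e) := by
      refine Nat.le_of_mul_le_mul_left ?_ (pow_pos hM.1.pos 2)
      nlinarith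
    omega
  · rw [hbh]
    by_contra hne
    have := key ρ hρ (by omega)
    omega
  · rw [hbh]
    rcases Nat.lt_or_ge (degExp p χ) (degExp p ρ) with h | h
    · have := key ρ hρ h
      omega
    · omega

end CfsgLib.Blocks
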