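import Cfsg.Agent.Blocks.Idempotent

/-!
# Congruences modulo `M`: roots of unity of `p`-power order are `1`
-/

namespace CfsgLib.Blocks

open Cfsg CfsgLib.CharBasics

variable {p : ℕ} {M : Ideal AlgInt}

/-- Congruence modulo the local ideal. -/
def EqMod (M : Ideal AlgInt) (x y : ℂ) : Prop := MemLocalIdeal M (x - y)

theorem eqMod_refl (hM : IsPModular p M) (x : ℂ) : EqMod M x x := by
  rw [EqMod, sub_self]; exact memLocalIdeal_zero hM

theorem eqMod_one_of_pow_eq_one (hM : IsPModular p M) {ζ : ℂ} (j : ℕ) (h : ζ ^ p ^ j = 1) : EqMod M ζ 1 := by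
  haveI := Fact.mk hM.1
  have hint : IsIntegral ℤ ζ := IsIntegral.of_pow (pow_pos hM.1.pos j) (by rw [h]; exact isIntegral_one)
  let a : AlgInt := ⟨ζ, hint⟩ - 1
  -- `a ^ (p ^ j)` is divisible by `p`
  obtain ⟨r, hr⟩ := exists_add_pow_prime_pow_eq hM.1 (⟨ζ, hint⟩ : AlgInt) (-1) j
  have hzero : (⟨ζ, hint⟩ : AlgInt) ^ p ^ j + (-1) ^ p ^ j ∈ M := by
    have h1 : (⟨ζ, hint⟩ : AlgInt) ^ p ^ j = 1 := Subtype.ext (by simpa using h)
    rw [h1]
    rcases hM.1.eq_two_or_odd' with h2 | hodd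
    · rcases Nat.eq_zero_or_pos j with rfl | hj
      · simp [M.zero_mem]
      · rw [((Nat.even_pow).2 ⟨h2 ▸ even_two, hj.ne'⟩).neg_one_pow]
        have := hM.2.2
        rw [h2] at this
        convert this using 1
        norm_num
    · rw [(hodd.pow).neg_one_pow]
      simp [M.zero_mem]
  have hmem : ((⟨ζ, hint⟩ : AlgInt) + -1) ^ p ^ j ∈ M := by
    rw [hr]
    exact M.add_mem hzero (M.mul_mem_right _ (M.mul_mem_right _ (M.mul_mem_right _ hM.2.2)))
  have := (memLocalIdeal_coe_iff hM _).2 ((isPrime_of_modular hM).mem_of_pow_mem _ hmem)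
  simpa [EqMod, sub_eq_add_neg] using this

end CfsgLib.Blocks
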