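import Cfsg.Agent.Blocks.Subsection
import Cfsg.Agent.Blocks.Heights
import Cfsg.Agent.Blocks.RootsMod
import Cfsg.Agent.CharBasics.Avg

/-!
# The contributions of the members of height zero to a subsection

`exists_poly_shift` writes the multiplicities of `c ↦ χ (x c)` as integer polynomials in a root of unity;
`contribPoly` is the resulting matrix, whose entries at members of height zero are units modulo `M`.
-/

set_option linter.unusedSectionVars false
set_option linter.style.haveILetI false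

namespace CfsgLib.Blocks

open Cfsg CfsgLib.CharBasics Polynomial
open scoped ComplexConjugate

theorem aeval_sub_eval_one_mem {p : ℕ} {M : Ideal AlgInt} (hM : IsPModular p M) {ζ : ℂ} {k : ℕ}
    (h : ζ ^ p ^ k = 1) (P : ℤ[X]) : MemLocalIdeal M (aeval ζ P - ((P.eval 1 : ℤ) : ℂ)) := by
  induction P using Polynomial.induction_on' with
  | add f g hf hg =>
    simpa [add_sub_add_comm] using memLocalIdeal_add hM hf hg
  | monomial n c =>
    have h1 : (ζ ^ n) ^ p ^ k = 1 := by rw [← pow_mul, mul_comm, pow_mul, h, one_pow]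
    have h2 := memLocalIdeal_mul_left hM (memLocalRing_intCast hM c) (eqMod_one_of_pow_eq_one hM k h1)
    simpa [mul_sub] using h2

variable {G : Type*} [Group G] [Fintype G] {p : ℕ} {M : Ideal AlgInt} {x : G}
  [Fintype (Subgroup.centralizer ({x} : Set G))]

/-- The multiplicities of `c ↦ χ (x c)` are integer polynomials in a root of unity of order dividing `orderOf x`. -/
theorem exists_poly_shift (χ : IrrCharacter G) (ξ : IrrCharacter (Subgroup.centralizer ({x} : Set G))) :
    ∃ A : ℤ[X], aeval (zetaRoot (orderOf x)) A = classInner (shiftFun x (χ : G → ℂ)) (ξ : Subgroup.centralizer ({x} : Set G) → ℂ) ∧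
      ((A.eval 1 : ℤ) : ℂ) = classInner (fun c : Subgroup.centralizer ({x} : Set G) => (χ : G → ℂ) c) (ξ : Subgroup.centralizer ({x} : Set G) → ℂ) := by
  classical
  have hN : orderOf x ≠ 0 := (orderOf_pos x).ne'
  haveI : NeZero (orderOf x) := ⟨hN⟩
  obtain ⟨r, f, hf, hs⟩ := exists_decomp (isCharacter_restrict (isCharacter_of_irr χ.2)
    (Subgroup.centralizer ({x} : Set G)))
  set x' : Subgroup.centralizer ({x} : Set G) := ⟨x, Subgroup.mem_centralizer_singleton_iff.2 rfl⟩ with hx'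
  have hxz : x' ∈ Subgroup.center (Subgroup.centralizer ({x} : Set G)) :=
    Subgroup.mem_center_iff.2 fun c => Subtype.ext (Subgroup.mem_centralizer_singleton_iff.1 c.2)
  set ε := fun i => f i x' / f i 1 with hε
  have hmul : ∀ i c, f i (x' * c) = ε i * f i c := fun i c => by
    have h := center_mul (hf i) hxz c
    rw [hε]
    field_simp [apply_one_ne_zero (hf i)]
    linear_combination h
  have hroot : ∀ i, ∃ e < orderOf x, zetaRoot (orderOf x) ^ e = ε i := fun i => by
    refine (zetaRoot_prim hN).eq_pow_of_pow_eq_one ?_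
    have hn : ∀ n : ℕ, f i (x' ^ n) = ε i ^ n * f i 1 := by
      intro n
      induction n with
      | zero => simp
      | succ n ih => rw [pow_succ', hmul, ih, pow_succ']; ring
    have h1 := hn (orderOf x)
    rw [show x' ^ orderOf x = 1 from Subtype.ext (by simp [hx', pow_orderOf_eq_one])] at h1
    exact (mul_eq_right₀ (apply_one_ne_zero (hf i))).1 h1.symm
  choose e he hee using hroot
  have hshift : shiftFun x (χ : G → ℂ) = ∑ i, ε i • f i := by
    funext c
    have h := congrFun hs (x' * c)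
    simp only [Finset.sum_apply] at h ⊢
    simp only [Pi.smul_apply, smul_eq_mul, shiftFun]
    rw [← Finset.sum_congr rfl (fun i _ => hmul i c)]
    exact h
  have hres : (fun c : Subgroup.centralizer ({x} : Set G) => (χ : G → ℂ) c) = ∑ i, f i := hs
  refine ⟨∑ i, if (⟨f i, hf i⟩ : IrrCharacter (Subgroup.centralizer ({x} : Set G))) = ξ then X ^ e i else 0, ?_, ?_⟩
  · rw [map_sum, hshift, classInner_sum_left]
    refine Finset.sum_congr rfl fun i _ => ?_
    rw [classInner_smul_left, classInner_irr ⟨f i, hf i⟩ ξ]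
    split_ifs <;> simp [hee i]
  · rw [hres, classInner_sum_left, Polynomial.eval_finsetSum, Int.cast_sum]
    refine Finset.sum_congr rfl fun i _ => ?_
    rw [classInner_irr ⟨f i, hf i⟩ ξ]
    split_ifs <;> simp

/-- The integer polynomial of a multiplicity. -/
noncomputable def shiftPoly (x : G) [Fintype (Subgroup.centralizer ({x} : Set G))] (χ : IrrCharacter G)
    (ξ : IrrCharacter (Subgroup.centralizer ({x} : Set G))) : ℤ[X] :=
  (exists_poly_shift χ ξ).choose

theorem aeval_shiftPoly (χ : IrrCharacter G) (ξ : IrrCharacter (Subgroup.centralizer ({x} : Set G))) :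
    aeval (zetaRoot (orderOf x)) (shiftPoly x χ ξ) = classInner (shiftFun x (χ : G → ℂ)) (ξ : Subgroup.centralizer ({x} : Set G) → ℂ) :=
  (exists_poly_shift χ ξ).choose_spec.1

theorem eval_one_shiftPoly (χ : IrrCharacter G) (ξ : IrrCharacter (Subgroup.centralizer ({x} : Set G))) :
    (((shiftPoly x χ ξ).eval 1 : ℤ) : ℂ) =
      classInner (fun c : Subgroup.centralizer ({x} : Set G) => (χ : G → ℂ) c) (ξ : Subgroup.centralizer ({x} : Set G) → ℂ) :=
  (exists_poly_shift χ ξ).choose_spec.2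

section Local

variable {H : Type*} [Group H] [Fintype H]

/-- The degree ratio against a member of least degree exponent is a local integer. -/
theorem memLocalRing_degree_ratio (hM : IsPModular p M) {b : Set (IrrCharacter H)}
    {ξ₀ : IrrCharacter H} (hmin : ∀ ρ ∈ b, degExp p ξ₀ ≤ degExp p ρ) {η : IrrCharacter H} (hη : η ∈ b) :
    MemLocalRing M ((η : H → ℂ) 1 / (ξ₀ : H → ℂ) 1) := by
  obtain ⟨c, -, hc, h1, -, -⟩ := exists_degree_eq hM.1 η
  obtain ⟨c₀, -, hc₀, h0, -, -⟩ := exists_degree_eq hM.1 ξ₀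
  obtain ⟨k, hk⟩ := Nat.exists_eq_add_of_le (hmin η hη)
  have hp0 : (p : ℂ) ≠ 0 := Nat.cast_ne_zero.2 hM.1.ne_zero
  have hc0' : (c₀ : ℂ) ≠ 0 := Nat.cast_ne_zero.2 fun h => hc₀ (h ▸ dvd_zero p)
  have e : (η : H → ℂ) 1 / (ξ₀ : H → ℂ) 1 = (p : ℂ) ^ k * c * (c₀ : ℂ)⁻¹ := by
    rw [h1, h0, hk, pow_add]
    field_simp
  rw [e]
  exact memLocalRing_mul hM (memLocalRing_mul hM (memLocalRing_pow hM (memLocalRing_natCast hM p) k)
    (memLocalRing_natCast hM c)) (memLocalRing_natCast_inv hM hc₀)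

/-- The scaled regular products of a block have rank one modulo `M`. -/
theorem regSum_congr (hM : IsPModular p M) {b : Set (IrrCharacter H)} (hb : IsPBlock M b)
    {ξ₀ : IrrCharacter H} (h₀ : ξ₀ ∈ b) (hmin : ∀ ρ ∈ b, degExp p ξ₀ ≤ degExp p ρ) {ξ η : IrrCharacter H}
    (hξ : ξ ∈ b) (hη : η ∈ b) :
    MemLocalIdeal M (regSum p (ξ : H → ℂ) (η : H → ℂ) / (ξ₀ : H → ℂ) 1 -
      ((ξ : H → ℂ) 1 / (ξ₀ : H → ℂ) 1) * ((η : H → ℂ) 1 / (ξ₀ : H → ℂ) 1) *
        omega (ξ₀ : H → ℂ) (regElt p (ξ₀ : H → ℂ))) := by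
  have hsym : ∀ φ ρ : IrrCharacter H, regSum p (φ : H → ℂ) (ρ : H → ℂ) = regSum p (ρ : H → ℂ) (φ : H → ℂ) := by
    intro φ ρ
    rw [regSum_eq_regInt hM.1 (isCharacter_of_irr φ.2) (isCharacter_of_irr ρ.2),
      regSum_eq_regInt hM.1 (isCharacter_of_irr ρ.2) (isCharacter_of_irr φ.2), regInt_comm hM.1]
  have hcong : ∀ φ : IrrCharacter H, φ ∈ b → ∀ ρ : IrrCharacter H,
      MemLocalIdeal M (omega (φ : H → ℂ) (regElt p (ρ : H → ℂ)) - omega (ξ₀ : H → ℂ) (regElt p (ρ : H → ℂ))) :=
    fun φ hφ ρ => omega_sub_mem_of_sameBlock hM (sameBlock_symm ((IsPBlock.mem_iff hM hb h₀).1 hφ))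
      (isClassElt_regElt (p := p) (isCharacter_of_irr ρ.2)) (isIntegralElt_regElt hM (isCharacter_of_irr ρ.2))
  set r := fun φ : IrrCharacter H => (φ : H → ℂ) 1 / (ξ₀ : H → ℂ) 1 with hr
  have e1 : regSum p (ξ : H → ℂ) (η : H → ℂ) / (ξ₀ : H → ℂ) 1 = r ξ * omega (ξ : H → ℂ) (regElt p (η : H → ℂ)) := by
    rw [omega_regElt, hr]
    field_simp [apply_one_ne_zero ξ.2, apply_one_ne_zero ξ₀.2]
  have e2 : omega (ξ₀ : H → ℂ) (regElt p (η : H → ℂ)) = r η * omega (η : H → ℂ) (regElt p (ξ₀ : H → ℂ)) := by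
    rw [omega_regElt, omega_regElt, hr, hsym η ξ₀]
    field_simp [apply_one_ne_zero η.2, apply_one_ne_zero ξ₀.2]
  have hrξ := memLocalRing_degree_ratio hM hmin hξ
  have hrη := memLocalRing_degree_ratio hM hmin hη
  have h1 := memLocalIdeal_mul_left hM hrξ (hcong ξ hξ η)
  have h2 := memLocalIdeal_mul_left hM (memLocalRing_mul hM hrξ hrη) (hcong η hη ξ₀)
  have h3 := memLocalIdeal_add hM h1 h2
  convert h3 using 1
  simp only [hr] at e1 e2
  rw [e1, e2]
  ring

end Local

variable {B : Set (IrrCharacter G)} {b : Set (IrrCharacter (Subgroup.centralizer ({x} : Set G)))}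

/-- The `b`-part of the restriction of a member of height zero has degree exponent that of `b`. -/
theorem sum_mult_not_mem (hM : IsPModular p M) (hind : IsInducedBlock M (Subgroup.centralizer ({x} : Set G)) b B)
    {χ : IrrCharacter G} (hχ : χ ∈ B) (hmin : ∀ ρ ∈ B, degExp p χ ≤ degExp p ρ)
    {ξ₀ : IrrCharacter (Subgroup.centralizer ({x} : Set G))} (h₀ : ξ₀ ∈ b) (hmin₀ : ∀ ρ ∈ b, degExp p ξ₀ ≤ degExp p ρ)
    [Fintype (IrrCharacter (Subgroup.centralizer ({x} : Set G)))] [DecidablePred (· ∈ b)] :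
    ¬ MemLocalIdeal M (∑ η ∈ Finset.univ.filter (· ∈ b),
      (((shiftPoly x χ η).eval 1 : ℤ) : ℂ) * ((η : Subgroup.centralizer ({x} : Set G) → ℂ) 1 / (ξ₀ : Subgroup.centralizer ({x} : Set G) → ℂ) 1)) := by
  classical
  set W := omega (ξ₀ : (Subgroup.centralizer ({x} : Set G)) → ℂ) (regElt p (ξ₀ : (Subgroup.centralizer ({x} : Set G)) → ℂ)) with hW
  have hres : ZStar.res (Subgroup.centralizer ({x} : Set G)) (regElt p (χ : G → ℂ)) = regElt p (fun c : (Subgroup.centralizer ({x} : Set G)) => (χ : G → ℂ) c) := by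
    ext c
    rw [ZStar.coeff_res, regElt, regElt, coeff_ofFun, coeff_ofFun, Subgroup.orderOf_coe]
  have hU := ZStar.omega_res_induced hM hind h₀ hχ (isClassElt_regElt (p := p) (isCharacter_of_irr χ.2))
    (isIntegralElt_regElt hM (isCharacter_of_irr χ.2))
  have hunit := regInt_self_not_dvd hM hind.2.1 hχ hmin
  rw [← omega_regElt_mem_iff hM] at hunit
  have hexp : omega (ξ₀ : (Subgroup.centralizer ({x} : Set G)) → ℂ) (ZStar.res (Subgroup.centralizer ({x} : Set G)) (regElt p (χ : G → ℂ))) =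
      ∑ η ∈ Finset.univ.filter (· ∈ b),
        (((shiftPoly x χ η).eval 1 : ℤ) : ℂ) * (regSum p (ξ₀ : (Subgroup.centralizer ({x} : Set G)) → ℂ) (η : (Subgroup.centralizer ({x} : Set G)) → ℂ) / (ξ₀ : (Subgroup.centralizer ({x} : Set G)) → ℂ) 1) := by
    have e : regSum p (ξ₀ : (Subgroup.centralizer ({x} : Set G)) → ℂ) (fun c : (Subgroup.centralizer ({x} : Set G)) => (χ : G → ℂ) c) =
        ∑ η : IrrCharacter (Subgroup.centralizer ({x} : Set G)), (((shiftPoly x χ η).eval 1 : ℤ) : ℂ) * regSum p (ξ₀ : (Subgroup.centralizer ({x} : Set G)) → ℂ) (η : (Subgroup.centralizer ({x} : Set G)) → ℂ) := by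
      conv_lhs => rw [classFun_expand (isClassFunction (isCharacter_restrict (isCharacter_of_irr χ.2) (Subgroup.centralizer ({x} : Set G))))]
      simp only [regSum, Finset.sum_apply, Pi.smul_apply, smul_eq_mul, map_sum, Finset.mul_sum]
      rw [Finset.sum_comm]
      refine Finset.sum_congr rfl fun g _ => ?_
      by_cases hg : p ∣ orderOf g
      · simp [hg]
      · simp only [hg, if_false, map_mul]
        refine Finset.sum_congr rfl fun η _ => ?_
        rw [← eval_one_shiftPoly, map_intCast]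
        ring
    rw [hres, omega_regElt, e, Finset.sum_div]
    refine (Finset.sum_subset (Finset.subset_univ _) fun η _ hη => ?_).symm.trans
      (Finset.sum_congr rfl fun η _ => by rw [mul_div_assoc])
    have hηb : η ∉ b := fun h => hη (Finset.mem_filter.2 ⟨Finset.mem_univ _, h⟩)
    rw [regSum_eq_regInt hM.1 (isCharacter_of_irr ξ₀.2) (isCharacter_of_irr η.2),
      regInt_eq_zero_of_notMem hM hind.1 h₀ hηb]
    simp
  intro hR
  refine hunit ?_
  have h1 : MemLocalIdeal M (omega (ξ₀ : (Subgroup.centralizer ({x} : Set G)) → ℂ) (ZStar.res (Subgroup.centralizer ({x} : Set G)) (regElt p (χ : G → ℂ))) -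
      W * ∑ η ∈ Finset.univ.filter (· ∈ b),
        (((shiftPoly x χ η).eval 1 : ℤ) : ℂ) * ((η : (Subgroup.centralizer ({x} : Set G)) → ℂ) 1 / (ξ₀ : (Subgroup.centralizer ({x} : Set G)) → ℂ) 1)) := by
    rw [hexp, Finset.mul_sum, ← Finset.sum_sub_distrib]
    refine memLocalIdeal_sum hM _ fun η hη => ?_
    have h2 := memLocalIdeal_mul_left hM (memLocalRing_intCast hM ((shiftPoly x χ η).eval 1))
      (regSum_congr hM hind.1 h₀ hmin₀ h₀ (Finset.mem_filter.1 hη).2)
    rw [div_self (apply_one_ne_zero ξ₀.2), one_mul] at h2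
    convert h2 using 1
    rw [hW]
    ring
  have hWR : MemLocalRing M W := memLocalRing_omega hM ξ₀ (isClassElt_regElt (isCharacter_of_irr ξ₀.2))
    (isIntegralElt_regElt hM (isCharacter_of_irr ξ₀.2))
  have h3 := memLocalIdeal_add hM h1 (memLocalIdeal_mul_left hM hWR hR)
  rw [sub_add_cancel] at h3
  simpa using memLocalIdeal_sub hM h3 hU

/-- The twisted multiplicity sum of a member of height zero is a unit. -/
theorem sum_twist_not_mem (hM : IsPModular p M) (hind : IsInducedBlock M (Subgroup.centralizer ({x} : Set G)) b B)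
    {χ : IrrCharacter G} (hχ : χ ∈ B) (hmin : ∀ ρ ∈ B, degExp p χ ≤ degExp p ρ)
    {ξ₀ : IrrCharacter (Subgroup.centralizer ({x} : Set G))} (h₀ : ξ₀ ∈ b) (hmin₀ : ∀ ρ ∈ b, degExp p ξ₀ ≤ degExp p ρ)
    [Fintype (IrrCharacter (Subgroup.centralizer ({x} : Set G)))] [DecidablePred (· ∈ b)]
    {z : ℂ} {k : ℕ} (hz : z ^ p ^ k = 1) :
    ¬ MemLocalIdeal M (∑ η ∈ Finset.univ.filter (· ∈ b),
      aeval z (shiftPoly x χ η) * ((η : Subgroup.centralizer ({x} : Set G) → ℂ) 1 / (ξ₀ : Subgroup.centralizer ({x} : Set G) → ℂ) 1)) := by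
  intro h
  refine sum_mult_not_mem hM hind hχ hmin h₀ hmin₀ ?_
  have h1 : MemLocalIdeal M (∑ η ∈ Finset.univ.filter (· ∈ b),
      aeval z (shiftPoly x χ η) * ((η : Subgroup.centralizer ({x} : Set G) → ℂ) 1 / (ξ₀ : Subgroup.centralizer ({x} : Set G) → ℂ) 1) - ∑ η ∈ Finset.univ.filter (· ∈ b),
      (((shiftPoly x χ η).eval 1 : ℤ) : ℂ) * ((η : Subgroup.centralizer ({x} : Set G) → ℂ) 1 / (ξ₀ : Subgroup.centralizer ({x} : Set G) → ℂ) 1)) := by
    rw [← Finset.sum_sub_distrib]
    refine memLocalIdeal_sum hM _ fun η hη => ?_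
    rw [← sub_mul]
    exact memLocalIdeal_mul_right hM (aeval_sub_eval_one_mem hM hz _)
      (memLocalRing_degree_ratio hM hmin₀ (Finset.mem_filter.1 hη).2)
  simpa using memLocalIdeal_sub hM h h1

/-- A member of height zero does not vanish on the section, in every block inducing its block. -/
theorem secVal_one_ne_zero (hM : IsPModular p M) (hx : ∃ k : ℕ, orderOf x = p ^ k)
    (hind : IsInducedBlock M (Subgroup.centralizer ({x} : Set G)) b B)
    {χ : IrrCharacter G} (hχ : χ ∈ B) (hmin : ∀ ρ ∈ B, degExp p χ ≤ degExp p ρ) :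
    secVal p x b (χ : G → ℂ) 1 ≠ 0 := by
  classical
  haveI : Fintype (IrrCharacter (Subgroup.centralizer ({x} : Set G))) := @Fintype.ofFinite _ finite_irrCharacter
  obtain ⟨ξ₀, h₀, hmin₀, -⟩ := exists_min_degExp hM hind.1
  obtain ⟨k, hk⟩ := hx
  have hz : zetaRoot (orderOf x) ^ p ^ k = 1 := by
    rw [← hk]; exact (zetaRoot_prim (orderOf_pos x).ne').pow_eq_one
  intro h
  refine sum_twist_not_mem hM hind hχ hmin h₀ hmin₀ hz ?_
  rw [secVal, orderOf_one, if_neg (by rw [Nat.dvd_one]; exact hM.1.ne_one), ZStar.blockPart_apply,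
    ← Finset.sum_filter] at h
  have e : ∑ η ∈ Finset.univ.filter (· ∈ b),
      aeval (zetaRoot (orderOf x)) (shiftPoly x χ η) * ((η : Subgroup.centralizer ({x} : Set G) → ℂ) 1 / (ξ₀ : Subgroup.centralizer ({x} : Set G) → ℂ) 1) =
      (∑ η ∈ Finset.univ.filter (· ∈ b), classInner (shiftFun x (χ : G → ℂ)) (η : Subgroup.centralizer ({x} : Set G) → ℂ) * (η : Subgroup.centralizer ({x} : Set G) → ℂ) 1) /
        (ξ₀ : Subgroup.centralizer ({x} : Set G) → ℂ) 1 := by
    rw [Finset.sum_div]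
    exact Finset.sum_congr rfl fun η _ => by rw [aeval_shiftPoly, mul_div_assoc]
  rw [e, h, zero_div]
  exact memLocalIdeal_zero hM

end CfsgLib.Blocks
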