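import Cfsg.Agent.Blocks.Covering
import Cfsg.Agent.S0909

/-!
# The characters of a normal subgroup lying under no member of a block form a union of blocks
-/

set_option linter.unusedSectionVars false
set_option linter.style.haveILetI false

namespace CfsgLib.Blocks

open Cfsg CfsgLib.CharBasics CfsgLib.Clifford
open scoped ComplexConjugate

universe u

variable {G : Type u} [Group G] [Fintype G] {p : ℕ} {M : Ideal AlgInt}
  {N : Subgroup G} [hN : N.Normal] [Fintype N]

theorem classInner_sum_right {A ι : Type*} [Group A] [Fintype A] (s : Finset ι) (φ : A → ℂ) (f : ι → A → ℂ) :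
    classInner φ (∑ i ∈ s, f i) = ∑ i ∈ s, classInner φ (f i) := by
  rw [classInner_comm, classInner_sum_left, map_sum]
  exact Finset.sum_congr rfl fun i _ => (classInner_comm _ _).symm

theorem classInner_smul_right {A : Type*} [Group A] [Fintype A] (c : ℂ) (φ ψ : A → ℂ) :
    classInner φ (c • ψ) = conj c * classInner φ ψ := by
  rw [classInner_comm, classInner_smul_left, map_mul, ← classInner_comm]

theorem regularPart_conjFun (g : G) (f : N → ℂ) :
    pRegularPart p (conjFun g f) = conjFun g (pRegularPart p f) := by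
  funext n
  simp only [pRegularPart_eq, conjFun_eq_comp, MulEquiv.orderOf_eq]

theorem conjFun_sum {ι : Type*} (s : Finset ι) (g : G) (f : ι → N → ℂ) :
    conjFun g (∑ i ∈ s, f i) = ∑ i ∈ s, conjFun g (f i) := by
  funext n
  simp [conjFun_eq_comp, Finset.sum_apply]

/-- The sum of all conjugates of a constituent is a multiple of the restriction. -/
theorem sum_conjFun_eq (χ : IrrCharacter G) (φ : IrrCharacter N)
    (h : classInner (fun n : N => (χ : G → ℂ) n) (φ : N → ℂ) ≠ 0) :
    ∃ k : ℂ, (∑ g : G, conjFun g (φ : N → ℂ)) = k • fun n : N => (χ : G → ℂ) n := by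
  classical
  haveI : Fintype (IrrCharacter N) := @Fintype.ofFinite _ finite_irrCharacter
  set F : N → ℂ := fun n : N => (χ : G → ℂ) n with hF
  set S := ∑ g : G, conjFun g (φ : N → ℂ) with hS
  obtain ⟨s, hs⟩ : ∃ s : ℂ, (Nat.card G : ℂ) • F = s • S := by
    refine ⟨∑ ρ : IrrCharacter N, classInner F (ρ : N → ℂ), ?_⟩
    have hexp := classFun_expand (isClassFunction (CharBasics.isCharacter_restrict (isCharacter_of_irr χ.2) N))
    have h1 : (Nat.card G : ℂ) • F = ∑ g : G, conjFun g F := by
      rw [Finset.sum_congr rfl (fun g _ => conjFun_restrict (isClassFunction (isCharacter_of_irr χ.2)) g),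
        Finset.sum_const, Finset.card_univ, Nat.card_eq_fintype_card, ← Nat.cast_smul_eq_nsmul ℂ]
    rw [h1, Finset.sum_smul]
    have h2 : ∀ g : G, conjFun g F = ∑ ρ : IrrCharacter N, classInner F (ρ : N → ℂ) • conjFun g (ρ : N → ℂ) := by
      intro g
      conv_lhs => rw [show F = ∑ ρ : IrrCharacter N, classInner F (ρ : N → ℂ) • (ρ : N → ℂ) from hexp]
      rw [conjFun_sum]
      rfl
    rw [Finset.sum_congr rfl (fun g _ => h2 g), Finset.sum_comm]
    refine Finset.sum_congr rfl fun ρ _ => ?_
    by_cases hρ : classInner F (ρ : N → ℂ) = 0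
    · simp [hρ]
    obtain ⟨a, ha⟩ := constituent_conj χ.2 φ.2 ρ.2 h hρ
    rw [← Finset.smul_sum, hS]
    congr 1
    exact Fintype.sum_equiv (Equiv.mulLeft a) _ _ fun g => by
      rw [ha, conjFun_mul, Equiv.coe_mulLeft]
  have hs0 : s ≠ 0 := by
    intro h0
    rw [h0, zero_smul] at hs
    have := congrFun hs 1
    simp [hF, apply_one_ne_zero χ.2, Nat.card_pos.ne'] at this
  exact ⟨s⁻¹ * (Nat.card G : ℂ), by rw [mul_smul, hs, smul_smul, inv_mul_cancel₀ hs0, one_smul]⟩

set_option maxHeartbeats 1000000 in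
/-- Members of a block with a constituent in `b`: every member of `b` is a constituent. -/
theorem exists_constituent_of_mem (hM : IsPModular p M) {B : Set (IrrCharacter G)} (hB : IsPBlock M B)
    {θ₀ θ : IrrCharacter N} (hs : SameBlock M (θ₀ : N → ℂ) (θ : N → ℂ)) {χ₀ : IrrCharacter G} (hχ₀ : χ₀ ∈ B)
    (h₀ : classInner (fun n : N => (χ₀ : G → ℂ) n) (θ₀ : N → ℂ) ≠ 0) :
    ∃ χ ∈ B, classInner (fun n : N => (χ : G → ℂ) n) (θ : N → ℂ) ≠ 0 := by
  classical
  haveI := Fact.mk hM.1
  haveI : Fintype (IrrCharacter N) := @Fintype.ofFinite _ finite_irrCharacter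
  haveI : Fintype (IrrCharacter G) := @Fintype.ofFinite _ finite_irrCharacter
  by_contra hcon
  push Not at hcon
  let U : Set (IrrCharacter N) := {φ | ∀ χ ∈ B, classInner (fun n : N => (χ : G → ℂ) n) (φ : N → ℂ) = 0}
  have hθU : θ ∈ U := hcon
  have hθ₀U : θ₀ ∉ U := fun k => h₀ (k χ₀ hχ₀)
  let tw : G → IrrCharacter N → IrrCharacter N := fun g ρ => ⟨conjFun g (ρ : N → ℂ), isIrrCharacter_conjFun g ρ.2⟩
  have hUinv : ∀ g φ, φ ∈ U → tw g φ ∈ U := by
    intro g φ hφ χ hχ
    show classInner _ (conjFun g (φ : N → ℂ)) = 0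
    rw [← conjFun_restrict (isClassFunction (isCharacter_of_irr χ.2)) g, classInner_conjFun]
    exact hφ χ hχ
  have hUiff : ∀ g φ, tw g φ ∈ U ↔ φ ∈ U := by
    refine fun g φ => ⟨fun k => ?_, hUinv g φ⟩
    have := hUinv g⁻¹ _ k
    rwa [show tw g⁻¹ (tw g φ) = φ from Subtype.ext (conjFun_inv_cancel g (φ : N → ℂ))] at this
  -- restrictions of members of `B` stay away from `U`
  have hχU : ∀ χ ∈ B, ∀ φ ∈ U,
      classInner (pRegularPart p (fun n : N => (χ : G → ℂ) n)) (φ : N → ℂ) = 0 := by
    intro χ hχ φ hφ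
    have e : pRegularPart p (fun n : N => (χ : G → ℂ) n) = fun n : N => pRegularPart p (χ : G → ℂ) (n : G) := by
      funext n; simp only [pRegularPart_eq, Subgroup.orderOf_coe]
    rw [e, regularPart_expand hM hB hχ]
    rw [show (fun n : N => (∑ ψ : B, classInner (pRegularPart p (χ : G → ℂ)) ((ψ : IrrCharacter G) : G → ℂ) •
        ((ψ : IrrCharacter G) : G → ℂ)) (n : G)) = ∑ ψ : B, classInner (pRegularPart p (χ : G → ℂ))
        ((ψ : IrrCharacter G) : G → ℂ) • fun n : N => ((ψ : IrrCharacter G) : G → ℂ) n from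
      funext fun n => by simp [Finset.sum_apply], classInner_sum_left]
    exact Finset.sum_eq_zero fun ψ _ => by rw [classInner_smul_left, hφ ψ.1 ψ.2, mul_zero]
  have hS : ∀ φ, φ ∉ U → ∀ θ ∈ U,
      classInner (pRegularPart p (∑ g : G, conjFun g (φ : N → ℂ))) (θ : N → ℂ) = 0 := by
    intro φ hφ θ hθ
    simp only [U, Set.mem_setOf_eq, not_forall] at hφ
    obtain ⟨χ, hχ, hne⟩ := hφ
    obtain ⟨k, hk⟩ := sum_conjFun_eq χ φ hne
    have e : pRegularPart p (k • fun n : N => (χ : G → ℂ) n) = k • pRegularPart p (fun n : N => (χ : G → ℂ) n) := by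
      funext n; simp [pRegularPart_eq, mul_ite]
    rw [hk, e, classInner_smul_left, hχU χ hχ θ hθ, mul_zero]
  -- the invariant function
  set m := Nat.card N / p ^ (Nat.card N).factorization p with hm
  set f : N → ℂ := fun x : N => if IsConj 1 (ZStar.prest p x) then (m : ℂ) else 0 with hf
  obtain ⟨hfc, hint⟩ := BrauerInd.intSpan_spec (f := f) (by rw [hf, hm]; convert BrauerInd.section_mem_intSpan (G := N) (p := p) (1 : N) using 4)
  have hfinv : ∀ g : G, conjFun g f = f := by
    intro g
    funext n
    simp only [hf, conjFun_eq_comp, isConj_one_right]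
    refine if_congr ?_ rfl rfl
    rw [show MulAut.conjNormal g n = (MulAut.conjNormal g : MulAut N).toMonoidHom n from rfl,
      (ZStar.part_map (p := p) (MulAut.conjNormal g : MulAut N).toMonoidHom n).2]
    exact map_eq_one_iff _ (MulAut.conjNormal g : MulAut N).injective
  let c : IrrCharacter N → ℂ := fun φ => classInner f (φ : N → ℂ)
  have hcinv : ∀ g φ, c (tw g φ) = c φ := by
    intro g φ
    show classInner f (conjFun g (φ : N → ℂ)) = _
    conv_lhs => rw [← hfinv g]
    rw [classInner_conjFun]
  let Rf : Finset (IrrCharacter N) → N → ℂ := fun s => pRegularPart p (∑ φ ∈ s, c φ • (φ : N → ℂ))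
  have hRsum : ∀ (s : Finset (IrrCharacter N)) (a : IrrCharacter N → ℂ),
      pRegularPart p (∑ φ ∈ s, a φ • (φ : N → ℂ)) = ∑ φ ∈ s, a φ • pRegularPart p (φ : N → ℂ) := by
    intro s a
    funext n
    simp only [pRegularPart_eq, Finset.sum_apply, Pi.smul_apply, smul_eq_mul]
    split_ifs <;> simp
  have hSR : ∀ φ : IrrCharacter N, pRegularPart p (∑ g : G, conjFun g (φ : N → ℂ))
      = ∑ g : G, pRegularPart p (conjFun g (φ : N → ℂ)) := by
    intro φ
    funext n
    simp only [pRegularPart_eq, Finset.sum_apply]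
    split_ifs <;> simp
  set sU : Finset (IrrCharacter N) := Finset.univ.filter (· ∈ U) with hsU
  set sV : Finset (IrrCharacter N) := Finset.univ.filter (· ∉ U) with hsV
  have hcard : (Nat.card G : ℂ) ≠ 0 := Nat.cast_ne_zero.2 Nat.card_pos.ne'
  -- the two halves stay separated
  have hVU : ∀ θ ∈ U, classInner (Rf sV) (θ : N → ℂ) = 0 := by
    intro θ hθ
    have h1 : ∀ g : G, classInner (Rf sV) (θ : N → ℂ)
        = ∑ φ ∈ sV, c φ * classInner (pRegularPart p (conjFun g (φ : N → ℂ))) (θ : N → ℂ) := by
      intro g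
      simp only [Rf, hRsum, classInner_sum_left, classInner_smul_left]
      refine (Finset.sum_nbij' (fun φ => tw g φ) (fun φ => tw g⁻¹ φ) ?_ ?_ ?_ ?_ ?_).symm
      · intro φ hφ
        simp only [hsV, Finset.mem_filter, Finset.mem_univ, true_and] at hφ ⊢
        exact fun k => hφ ((hUiff g φ).1 k)
      · intro φ hφ
        simp only [hsV, Finset.mem_filter, Finset.mem_univ, true_and] at hφ ⊢
        exact fun k => hφ ((hUiff g⁻¹ φ).1 k)
      · intro φ _; exact Subtype.ext (conjFun_inv_cancel g (φ : N → ℂ))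
      · intro φ _
        refine Subtype.ext ?_
        show conjFun g (conjFun g⁻¹ (φ : N → ℂ)) = _
        rw [conjFun_mul, inv_mul_cancel, conjFun_one]
      · intro φ _; rw [hcinv]
    have h2 : (Nat.card G : ℂ) * classInner (Rf sV) (θ : N → ℂ) = 0 := by
      rw [show (Nat.card G : ℂ) * classInner (Rf sV) (θ : N → ℂ) = ∑ g : G, classInner (Rf sV) (θ : N → ℂ) by
        rw [Finset.sum_const, Finset.card_univ, Nat.card_eq_fintype_card, nsmul_eq_mul],
        Finset.sum_congr rfl (fun g _ => h1 g), Finset.sum_comm]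
      refine Finset.sum_eq_zero fun φ hφ => ?_
      rw [← Finset.mul_sum, ← classInner_sum_left, ← hSR, hS φ (Finset.mem_filter.1 hφ).2 θ hθ, mul_zero]
    exact (mul_eq_zero.1 h2).resolve_left hcard
  have hself : ∀ a b : N → ℂ, classInner (pRegularPart p a) b = classInner a (pRegularPart p b) := by
    intro a b
    rw [classInner_eq, classInner_eq]
    congr 1
    refine Finset.sum_congr rfl fun n _ => ?_
    simp only [pRegularPart_eq]
    split_ifs <;> simp
  have hAinv : ∀ g : G, conjFun g (Rf sU) = Rf sU := by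
    intro g
    simp only [Rf]
    rw [← regularPart_conjFun, conjFun_sum]
    congr 1
    refine Finset.sum_nbij' (fun φ => tw g φ) (fun φ => tw g⁻¹ φ) ?_ ?_ ?_ ?_ ?_
    · intro φ hφ
      simp only [hsU, Finset.mem_filter, Finset.mem_univ, true_and] at hφ ⊢
      exact (hUiff g φ).2 hφ
    · intro φ hφ
      simp only [hsU, Finset.mem_filter, Finset.mem_univ, true_and] at hφ ⊢
      exact (hUiff g⁻¹ φ).2 hφ
    · intro φ _; exact Subtype.ext (conjFun_inv_cancel g (φ : N → ℂ))
    · intro φ _
      refine Subtype.ext ?_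
      show conjFun g (conjFun g⁻¹ (φ : N → ℂ)) = _
      rw [conjFun_mul, inv_mul_cancel, conjFun_one]
    · intro φ _; rw [hcinv]; rfl
  have hUV : ∀ φ, φ ∉ U → classInner (Rf sU) (φ : N → ℂ) = 0 := by
    intro φ hφ
    have h2 : (Nat.card G : ℂ) * classInner (Rf sU) (φ : N → ℂ) = 0 := by
      rw [show (Nat.card G : ℂ) * classInner (Rf sU) (φ : N → ℂ)
          = ∑ g : G, classInner (Rf sU) (conjFun g (φ : N → ℂ)) by
        rw [Finset.sum_congr rfl (g := fun _ => classInner (Rf sU) (φ : N → ℂ)) (fun g _ => by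
          conv_lhs => rw [← hAinv g]
          rw [classInner_conjFun]), Finset.sum_const, Finset.card_univ, Nat.card_eq_fintype_card, nsmul_eq_mul],
        ← classInner_sum_right, hself, classInner_sum_left]
      refine Finset.sum_eq_zero fun θ hθ => ?_
      rw [classInner_smul_left, classInner_comm, hS φ hφ θ (Finset.mem_filter.1 hθ).2, map_zero, mul_zero]
    exact (mul_eq_zero.1 h2).resolve_left hcard
  -- the cut commutes with the projection to `U`
  have hdec : pRegularPart p f = Rf sU + Rf sV := by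
    simp only [Rf, hRsum]
    rw [hsU, hsV, Finset.sum_filter_add_sum_filter_not, ← hRsum]
    exact congrArg _ (classFun_expand hfc)
  have hcut : ∀ x : N, blockPart U (pRegularPart p f) x = Rf sU x := by
    intro x
    have hcl : IsClassFunction N (Rf sU) := by
      intro a b
      have e : orderOf (b * a * b⁻¹) = orderOf a :=
        orderOf_injective (MulAut.conj b).toMonoidHom (MulAut.conj b).injective a
      simp only [Rf, pRegularPart_eq, e, Finset.sum_apply, Pi.smul_apply, smul_eq_mul]
      split_ifs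
      · rfl
      · exact Finset.sum_congr rfl fun φ _ => by rw [isClassFunction (isCharacter_of_irr φ.2) a b]
    rw [ZStar.blockPart_apply]
    conv_rhs => rw [classFun_expand hcl, Finset.sum_apply]
    refine Finset.sum_congr rfl fun φ _ => ?_
    split_ifs with hφ
    · rw [hdec, classInner_add_left, hVU φ hφ, add_zero]; rfl
    · rw [Pi.smul_apply, hUV φ hφ, zero_smul]
  -- so the idempotent of `U` is integral
  have hloc : ∀ n : N, MemLocalRing M (blockCoeff U n) := by
    intro n
    have hpm : ¬ p ∣ m := Nat.not_dvd_ordCompl hM.1 Nat.card_pos.ne'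
    have e : blockPart U (pRegularPart p f) n⁻¹ = (m : ℂ) * blockCoeff U n := by
      rw [ZStar.blockPart_apply, blockCoeff_eq, Finset.mul_sum, Finset.mul_sum]
      refine Finset.sum_congr rfl fun ψ _ => ?_
      split_ifs with hψ
      · rw [classInner_eq, Finset.sum_eq_single (1 : N)]
        · rw [pRegularPart_eq]
          simp only [orderOf_one, hM.1.not_dvd_one, if_false, hf,
            (ZStar.part_of_regular (p := p) (a := (1 : N)) (by rw [orderOf_one]; exact hM.1.not_dvd_one)).2,
            IsConj.refl, if_true]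
          rw [apply_inv (isCharacter_of_irr ψ.2), apply_one (isCharacter_of_irr ψ.2), Complex.conj_natCast]
          ring
        · intro x _ hx
          rw [pRegularPart_eq]
          simp only [hf]
          split_ifs with h1 h2
          · rw [zero_mul]
          · rw [(ZStar.part_of_regular (p := p) h1).2] at h2
            exact absurd (isConj_one_right.1 h2) hx
          · rw [zero_mul]
        · simp
      · rw [mul_zero, mul_zero]
    have hi : IsIntegral ℤ ((m : ℂ) * blockCoeff U n) := by
      rw [← e, hcut]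
      simp only [Rf, pRegularPart_eq, Finset.sum_apply, Pi.smul_apply, smul_eq_mul]
      split_ifs
      · exact isIntegral_zero
      · exact IsIntegral.sum _ fun φ _ => (hint φ).mul (isIntegral_apply (isCharacter_of_irr φ.2) _)
    have h := memLocalRing_mul hM (memLocalRing_natCast_inv hM hpm) (memLocalRing_of_isIntegral hM hi)
    rwa [← mul_assoc, inv_mul_cancel₀ (Nat.cast_ne_zero.2 fun h0 => hpm (by rw [h0]; exact dvd_zero p)), one_mul] at h
  exact hθ₀U (Cfsg.Agent.S0909.result p M hM U hloc θ hθU (sameBlock_symm hs))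

end CfsgLib.Blocks
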