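import Cfsg.Agent.Blocks.PairsOrder

/-!
# Transport of Brauer pairs along isomorphisms
-/

set_option linter.unusedSectionVars false
set_option linter.style.haveILetI false

namespace CfsgLib.Blocks

open Cfsg CfsgLib.CharBasics CfsgLib.ZStar
open scoped ComplexConjugate

universe u v

variable {G : Type u} [Group G] {G' : Type v} [Group G'] {p : ℕ} {M : Ideal AlgInt}

theorem symm_mem_of_map (σ : G ≃* G') {Q : Subgroup G} {Q' : Subgroup G'} (hQ : Q.map σ.toMonoidHom = Q')
    (y : G') : y ∈ Q' ↔ σ.symm y ∈ Q := by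
  subst hQ
  constructor
  · rintro ⟨q, hq, rfl⟩; simpa using hq
  · exact fun h => ⟨_, h, σ.apply_symm_apply y⟩

theorem apply_mem_of_map (σ : G ≃* G') {Q : Subgroup G} {Q' : Subgroup G'} (hQ : Q.map σ.toMonoidHom = Q')
    (x : G) : σ x ∈ Q' ↔ x ∈ Q := by rw [symm_mem_of_map σ hQ, σ.symm_apply_apply]

theorem apply_mem_centralizer (σ : G ≃* G') {Q : Subgroup G} {Q' : Subgroup G'} (hQ : Q.map σ.toMonoidHom = Q')
    (x : G) : σ x ∈ Subgroup.centralizer (Q' : Set G') ↔ x ∈ Subgroup.centralizer (Q : Set G) := by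
  simp only [Subgroup.mem_centralizer_iff, SetLike.mem_coe]
  constructor
  · intro h q hq
    exact σ.injective (by rw [map_mul, map_mul]; exact h _ ((apply_mem_of_map σ hQ q).2 hq))
  · intro h q hq
    have := congrArg σ (h _ ((symm_mem_of_map σ hQ q).1 hq))
    rwa [map_mul, map_mul, σ.apply_symm_apply] at this

/-- The isomorphism of centralizers. -/
def centEquiv (σ : G ≃* G') {Q : Subgroup G} {Q' : Subgroup G'} (hQ : Q.map σ.toMonoidHom = Q') :
    Subgroup.centralizer (Q : Set G) ≃* Subgroup.centralizer (Q' : Set G') where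
  toFun c := ⟨σ c, (apply_mem_centralizer σ hQ c).2 c.2⟩
  invFun c := ⟨σ.symm c, (apply_mem_centralizer σ hQ _).1 (by rw [σ.apply_symm_apply]; exact c.2)⟩
  left_inv c := Subtype.ext (σ.symm_apply_apply _)
  right_inv c := Subtype.ext (σ.apply_symm_apply _)
  map_mul' a b := Subtype.ext (map_mul σ _ _)

theorem coe_centEquiv (σ : G ≃* G') {Q : Subgroup G} {Q' : Subgroup G'} (hQ : Q.map σ.toMonoidHom = Q')
    (c : Subgroup.centralizer (Q : Set G)) : (centEquiv σ hQ c : G') = σ c := rfl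

theorem subgroupBlockCoeff_push (σ : G ≃* G') {Q : Subgroup G} {Q' : Subgroup G'}
    (hQ : Q.map σ.toMonoidHom = Q') (f : Set (IrrCharacter (Subgroup.centralizer (Q : Set G)))) (g : G) :
    subgroupBlockCoeff (Subgroup.centralizer (Q' : Set G')) (pushBlock (centEquiv σ hQ) f) (σ g) =
      subgroupBlockCoeff (Subgroup.centralizer (Q : Set G)) f g := by
  unfold subgroupBlockCoeff
  by_cases hg : g ∈ Subgroup.centralizer (Q : Set G)
  · rw [dif_pos hg, dif_pos ((apply_mem_centralizer σ hQ g).2 hg)]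
    exact blockCoeff_pushBlock (centEquiv σ hQ) f ⟨g, hg⟩
  · rw [dif_neg hg, dif_neg fun h => hg ((apply_mem_centralizer σ hQ g).1 h)]

theorem brauerOmega_push (σ : G ≃* G') {P : Subgroup G} {P' : Subgroup G'}
    (hP : P.map σ.toMonoidHom = P') (β : G → ℂ) (β' : G' → ℂ) (hβ : ∀ g, β' (σ g) = β g)
    (ξ : IrrCharacter (Subgroup.centralizer (P : Set G))) :
    brauerOmega P' β' (pushChar (centEquiv σ hP) ξ : _ → ℂ) = brauerOmega P β (ξ : _ → ℂ) := by
  unfold brauerOmega
  refine (finsum_eq_of_bijective (centEquiv σ hP) (centEquiv σ hP).bijective fun c => ?_).symm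
  rw [pushChar_apply, pushChar_apply, MulEquiv.symm_apply_apply, map_one, coe_centEquiv, hβ]

theorem stabilizesBlock_push (σ : G ≃* G') {Q : Subgroup G} {Q' : Subgroup G'}
    (hQ : Q.map σ.toMonoidHom = Q') {f : Set (IrrCharacter (Subgroup.centralizer (Q : Set G)))} {x : G}
    (h : StabilizesBlock (Subgroup.centralizer (Q : Set G)) f x) :
    StabilizesBlock (Subgroup.centralizer (Q' : Set G')) (pushBlock (centEquiv σ hQ) f) (σ x) := by
  refine ⟨?_, ?_⟩
  · rw [Subgroup.mem_normalizer_iff]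
    intro y
    obtain ⟨y, rfl⟩ := σ.surjective y
    rw [← map_mul, ← map_inv, ← map_mul, apply_mem_centralizer σ hQ, apply_mem_centralizer σ hQ]
    exact Subgroup.mem_normalizer_iff.1 h.1 y
  · rintro _ ⟨χ, hχ, rfl⟩
    obtain ⟨χ', hχ', hc⟩ := h.2 χ hχ
    refine ⟨_, ⟨χ', hχ', rfl⟩, fun k k' hk => ?_⟩
    rw [pushChar_apply, pushChar_apply]
    refine hc _ _ ?_
    apply σ.injective
    show σ (σ.symm k') = σ (x * σ.symm k * x⁻¹)
    simp only [map_mul, map_inv, MulEquiv.apply_symm_apply, hk]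

theorem isNormalSubpair_push (σ : G ≃* G') {Q P : Subgroup G} {Q' P' : Subgroup G'}
    (hQ : Q.map σ.toMonoidHom = Q') (hP : P.map σ.toMonoidHom = P')
    {f : Set (IrrCharacter (Subgroup.centralizer (Q : Set G)))}
    {e : Set (IrrCharacter (Subgroup.centralizer (P : Set G)))} (h : IsNormalSubpair p M Q f P e) :
    IsNormalSubpair p M Q' (pushBlock (centEquiv σ hQ) f) P' (pushBlock (centEquiv σ hP) e) := by
  obtain ⟨⟨hQp, hf⟩, ⟨hPp, he⟩, hle, hN, hst, h1⟩ := h
  refine ⟨⟨hQ ▸ hQp.map _, isPBlock_pushBlock _ hf⟩, ⟨hP ▸ hPp.map _, isPBlock_pushBlock _ he⟩,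
    hQ ▸ hP ▸ Subgroup.map_mono hle, ?_, ?_, ?_⟩
  · intro y hy
    obtain ⟨y, rfl⟩ := σ.surjective y
    rw [Subgroup.mem_normalizer_iff]
    intro z
    obtain ⟨z, rfl⟩ := σ.surjective z
    rw [← map_mul, ← map_inv, ← map_mul, apply_mem_of_map σ hQ, apply_mem_of_map σ hQ]
    exact Subgroup.mem_normalizer_iff.1 (hN ((apply_mem_of_map σ hP y).1 hy)) z
  · intro y hy
    obtain ⟨y, rfl⟩ := σ.surjective y
    exact stabilizesBlock_push σ hQ (hst y ((apply_mem_of_map σ hP y).1 hy))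
  · rintro _ ⟨ξ, hξ, rfl⟩
    rw [brauerOmega_push σ hP _ _ (subgroupBlockCoeff_push σ hQ f)]
    exact h1 ξ hξ

/-- Inclusion of pairs is preserved. -/
theorem subpairLE_push (σ : G ≃* G') {Q P : Subgroup G} {Q' P' : Subgroup G'}
    (hQ : Q.map σ.toMonoidHom = Q') (hP : P.map σ.toMonoidHom = P')
    {f : Set (IrrCharacter (Subgroup.centralizer (Q : Set G)))}
    {e : Set (IrrCharacter (Subgroup.centralizer (P : Set G)))} (h : SubpairLE p M Q f P e) :
    SubpairLE p M Q' (pushBlock (centEquiv σ hQ) f) P' (pushBlock (centEquiv σ hP) e) := by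
  subst hQ hP
  unfold SubpairLE at h ⊢
  suffices ∀ a b : BrauerPairIdx G, Relation.ReflTransGen (NormalSubpairRel p M) a b →
      Relation.ReflTransGen (NormalSubpairRel p M)
        (⟨a.1.map σ.toMonoidHom, pushBlock (centEquiv σ rfl) a.2⟩ : BrauerPairIdx G')
        ⟨b.1.map σ.toMonoidHom, pushBlock (centEquiv σ rfl) b.2⟩ from this _ _ h
  intro a b hab
  induction hab with
  | refl => exact Relation.ReflTransGen.refl
  | tail _ h2 ih => exact ih.tail (isNormalSubpair_push σ rfl rfl h2)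

theorem isBrauerPairOf_push (σ : G ≃* G') {P : Subgroup G} {P' : Subgroup G'}
    (hP : P.map σ.toMonoidHom = P') {B : Set (IrrCharacter G)}
    {e : Set (IrrCharacter (Subgroup.centralizer (P : Set G)))} (h : IsBrauerPairOf p M B P e) :
    IsBrauerPairOf p M (pushBlock σ B) P' (pushBlock (centEquiv σ hP) e) := by
  obtain ⟨⟨hPp, he⟩, hB, h1⟩ := h
  refine ⟨⟨hP ▸ hPp.map _, isPBlock_pushBlock _ he⟩, isPBlock_pushBlock _ hB, ?_⟩
  rintro _ ⟨ξ, hξ, rfl⟩
  rw [brauerOmega_push σ hP _ _ fun g => blockCoeff_pushBlock σ B g]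
  exact h1 ξ hξ

theorem pushBlock_conj [Finite G] (x : G) (B : Set (IrrCharacter G)) : pushBlock (MulAut.conj x) B = B := by
  haveI := Fintype.ofFinite G
  have h : pushChar (MulAut.conj x) = id := by
    funext χ
    refine Subtype.ext (funext fun g => ?_)
    rw [pushChar_apply, MulAut.conj_symm_apply]
    have := isClassFunction (isCharacter_of_irr χ.2) g x⁻¹
    rwa [inv_inv] at this
  rw [pushBlock, h, Set.image_id]

theorem centEquiv_trans {G'' : Type*} [Group G''] (σ : G ≃* G') (τ : G' ≃* G'') {Q : Subgroup G}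
    {Q' : Subgroup G'} {Q'' : Subgroup G''} (h₁ : Q.map σ.toMonoidHom = Q') (h₂ : Q'.map τ.toMonoidHom = Q'')
    (h : Q.map (σ.trans τ).toMonoidHom = Q'') :
    (centEquiv σ h₁).trans (centEquiv τ h₂) = centEquiv (σ.trans τ) h :=
  MulEquiv.ext fun _ => Subtype.ext rfl

theorem conjBlock_eq_push (Q : Subgroup G) (x : G) (f : Set (IrrCharacter (Subgroup.centralizer (Q : Set G)))) :
    conjBlock Q x f = pushBlock (centEquiv (MulAut.conj x) rfl) f := by
  refine Set.ext fun ξ' => ?_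
  constructor
  · rintro ⟨ξ, hξ, h⟩
    refine ⟨ξ, hξ, Subtype.ext (funext fun c' => ?_)⟩
    obtain ⟨c, rfl⟩ := (centEquiv (MulAut.conj x) (rfl : Q.map _ = _)).surjective c'
    rw [pushChar_apply, MulEquiv.symm_apply_apply]
    exact (h c _ (by rw [coe_centEquiv]; rfl)).symm
  · rintro ⟨ξ, hξ, rfl⟩
    refine ⟨ξ, hξ, fun c c' hc => ?_⟩
    rw [show c' = centEquiv (MulAut.conj x) rfl c from Subtype.ext hc, pushChar_apply, MulEquiv.symm_apply_apply]

end CfsgLib.Blocks
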