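import Cfsg.Agent.Blocks.KnorrMeet
import Cfsg.Agent.Blocks.PairsConj

/-!
# A defect group of a covering block in the stabilizer of a covered block
-/

set_option linter.unusedSectionVars false
set_option linter.style.haveILetI false

namespace CfsgLib.Blocks

open Cfsg CfsgLib.CharBasics CfsgLib.Clifford

universe u

section Push

variable {A A' : Type*} [Group A] [Group A'] {p : ℕ} {M : Ideal AlgInt} (φ : A ≃* A') {f : Set (IrrCharacter A)}

theorem isDefectClass_push {g : A} (h : IsDefectClass M f g) : IsDefectClass M (pushBlock φ f) (φ g) := by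
  refine ⟨by rw [blockCoeff_pushBlock]; exact h.1, by rw [blockCoeff_pushBlock]; exact h.2.1, ?_⟩
  rintro _ ⟨χ, hχ, rfl⟩
  rw [centralChar_pushChar]
  exact h.2.2 χ hχ

theorem isDefectGroup_push [Fintype A'] (hM : IsPModular p M) {D : Subgroup A} (hD : IsDefectGroup p M f D) :
    IsDefectGroup p M (pushBlock φ f) (D.map φ.toMonoidHom) := by
  haveI : Finite A := Finite.of_equiv A' φ.symm.toEquiv
  haveI := Fact.mk hM.1
  obtain ⟨g, hg, S, rfl⟩ := hD
  have e : Subgroup.centralizer ({φ g} : Set A') = (Subgroup.centralizer ({g} : Set A)).map φ.toMonoidHom := by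
    ext x
    obtain ⟨y, rfl⟩ := φ.surjective x
    rw [Subgroup.mem_centralizer_singleton_iff, ← map_mul, ← map_mul, φ.injective.eq_iff,
      ← Subgroup.mem_centralizer_singleton_iff (k := y)]
    exact (Subgroup.mem_map_iff_mem φ.injective).symm
  refine isDefectGroup_of_relIndex hM (isDefectClass_push φ hg) ((S.isPGroup'.map _).map _) ?_ ?_
  · rw [e]; exact Subgroup.map_mono (Subgroup.map_subtype_le _)
  · rw [e, Subgroup.relIndex_map_map_of_injective _ _ φ.injective]
    simpa [Subgroup.relIndex, Subgroup.subgroupOf, Subgroup.comap_map_eq_self_of_injective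
      (Subgroup.centralizer ({g} : Set A)).subtype_injective] using S.not_dvd_index

end Push

variable {G : Type u} [Group G] [Fintype G] {p : ℕ} {M : Ideal AlgInt}
variable {N : Subgroup G} [hN : N.Normal] [Fintype N] {b : Set (IrrCharacter N)}

/-- The stabilizer of a set of characters of a normal subgroup. -/
def stabSub (N : Subgroup G) (b : Set (IrrCharacter N)) : Subgroup G where
  carrier := {x | StabilizesBlock N b x}
  mul_mem' {x y} hx hy := by
    obtain ⟨hx', hx⟩ := stabilizesBlock_iff.1 hx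
    obtain ⟨hy', hy⟩ := stabilizesBlock_iff.1 hy
    refine stabilizesBlock_iff.2 ⟨(Subgroup.normalizer (N : Set G)).mul_mem hx' hy', ?_⟩
    rw [← conjK_mul hx' hy', pushBlock_trans, hy, hx]
  one_mem' := stabilizesBlock_iff.2 ⟨one_mem _, by rw [conjK_one, pushBlock_refl]⟩
  inv_mem' {x} hx := by
    obtain ⟨hx', hx⟩ := stabilizesBlock_iff.1 hx
    refine stabilizesBlock_iff.2 ⟨inv_mem hx', ?_⟩
    conv_lhs => rw [← hx, ← pushBlock_trans]
    convert pushBlock_refl b using 2
    exact MulEquiv.ext fun k => Subtype.ext (by simp [coe_conjK, mul_assoc])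

theorem mem_stabSub {K : Subgroup G} {f : Set (IrrCharacter K)} {x : G} : x ∈ stabSub K f ↔ StabilizesBlock K f x :=
  Iff.rfl

theorem conjFun_eq_pushChar (g : G) (θ : IrrCharacter N) :
    conjFun g (θ : N → ℂ) = (pushChar (conjK (mem_normalizer_of_normal (N := N) g⁻¹)) θ : N → ℂ) := by
  funext k
  rw [pushChar_apply, conjFun_apply]
  exact congrArg _ (Subtype.ext (by
    obtain ⟨l, rfl⟩ := (conjK (mem_normalizer_of_normal (N := N) g⁻¹)).surjective k
    simp [coe_conjK, mul_assoc]))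

theorem le_stabSub : N ≤ stabSub N b := fun n hn => by
  refine stabilizesBlock_iff.2 ⟨mem_normalizer_of_normal n, ?_⟩
  have h : ∀ θ : IrrCharacter N, pushChar (conjK (mem_normalizer_of_normal (N := N) n)) θ = θ := fun θ => by
    refine Subtype.ext (funext fun k => ?_)
    obtain ⟨l, rfl⟩ := (conjK (mem_normalizer_of_normal (N := N) n)).surjective k
    rw [pushChar_apply, MulEquiv.symm_apply_apply]
    refine (isClassFunction (isCharacter_of_irr θ.2) l ⟨n, hn⟩).symm.trans (congrArg _ (Subtype.ext ?_))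
    simp [coe_conjK]
  ext χ
  rw [mem_pushBlock]
  have := h (pushChar (conjK (mem_normalizer_of_normal (N := N) n)).symm χ)
  rw [pushChar_symm] at this
  rw [← this]

theorem isStab_stabSub : IsStab b (stabSub N b) := by
  intro g
  rw [← inv_mem_iff, mem_stabSub]
  constructor
  · intro h θ hθ θ' he
    obtain ⟨hx, h⟩ := stabilizesBlock_iff.1 h
    rw [conjFun_eq_pushChar] at he
    rw [Subtype.ext he, ← h]
    exact ⟨θ, hθ, rfl⟩
  · intro h
    refine ⟨mem_normalizer_of_normal _, fun θ hθ => ⟨pushChar (conjK (mem_normalizer_of_normal g⁻¹)) θ,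
      h θ hθ _ (conjFun_eq_pushChar g θ).symm, fun k l hkl => ?_⟩⟩
    obtain ⟨m, rfl⟩ := (conjK (mem_normalizer_of_normal (N := N) g⁻¹)).surjective l
    rw [pushChar_apply, MulEquiv.symm_apply_apply]
    rw [coe_conjK] at hkl
    exact congrArg _ (Subtype.ext (mul_left_cancel (mul_right_cancel hkl)))

/-- A covering block has a defect group stabilizing a covered block and meeting `N` in one of its defect groups. -/
theorem exists_defectGroup_inf (hM : IsPModular p M) (hb : IsPBlock M b) {B : Set (IrrCharacter G)} (hB : IsPBlock M B)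
    (hcov : ∃ χ ∈ B, ∃ θ ∈ b, classInner (fun n : N => (χ : G → ℂ) n) (θ : N → ℂ) ≠ 0) :
    ∃ P : Subgroup G, IsDefectGroup p M B P ∧ IsDefectGroup p M b ((P ⊓ N).subgroupOf N) ∧
      ∀ x ∈ P, StabilizesBlock N b x := by
  classical
  haveI := Fact.mk hM.1
  obtain ⟨χ, hχ, θ, hθ, hne⟩ := hcov
  set T := stabSub N b with hTdef
  haveI : Fintype T := Fintype.ofFinite _
  have hNT : N ≤ T := le_stabSub
  have hT : IsStab b T := isStab_stabSub
  obtain ⟨ψ, hψ, he⟩ := exists_eq_indFun_stab hM hb hT hNT χ hθ hne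
  have hirr : IsIrrCharacter G (indFun T (ψ : T → ℂ)) := he ▸ χ.2
  set B' := blockOf M (ψ : T → ℂ) with hB'def
  have hB' : IsPBlock M B' := isPBlock_blockOf M ψ
  have hψB : ψ ∈ B' := mem_blockOf_self hM ψ
  have hind : IsInducedBlock M T B' B := by
    have h := isInduced_stab hM hB' hψB hirr
    have e : blockOf M (indFun T (ψ : T → ℂ)) = B := by
      rw [← he]
      exact Set.ext fun η => (IsPBlock.mem_iff hM hB hχ).symm
    rwa [e] at h
  obtain ⟨φ₀, hφ₀⟩ := resN_constituent hNT ψ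
  obtain ⟨-, hirr', hiff⟩ := stab_block_spec hM hb hT hNT hB' ⟨ψ, hψB, φ₀, hψ φ₀ hφ₀, hφ₀⟩ hind
  obtain ⟨hd, -⟩ := stab_block_defect hM hB' hind.2.1 hiff hirr'
  obtain ⟨y, hy⟩ := exists_defectClass hM hB'
  obtain ⟨S⟩ : Nonempty (Sylow p (Subgroup.centralizer ({y} : Set T))) := inferInstance
  obtain ⟨D, hD⟩ : ∃ D, IsDefectGroup p M B' D := ⟨_, y, hy, S, rfl⟩
  haveI : (N.subgroupOf T).Normal := hN.subgroupOf T
  haveI : Fintype (N.subgroupOf T) := Fintype.ofFinite _
  set e : N.subgroupOf T ≃* N := Subgroup.subgroupOfEquivOfLe hNT with hedef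
  have hb' : IsPBlock M (pushBlock e.symm b) := isPBlock_pushBlock _ hb
  have hst' : ∀ t : T, StabilizesBlock (N.subgroupOf T) (pushBlock e.symm b) t := by
    intro t
    obtain ⟨ht, hfix⟩ := stabilizesBlock_iff.1 (mem_stabSub.1 t.2)
    refine stabilizesBlock_iff.2 ⟨mem_normalizer_of_normal t, ?_⟩
    have hcomp : e.symm.trans (conjK (mem_normalizer_of_normal (N := N.subgroupOf T) t)) = (conjK ht).trans e.symm :=
      MulEquiv.ext fun k => Subtype.ext (Subtype.ext rfl)
    rw [← pushBlock_trans, hcomp, pushBlock_trans, hfix]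
  have hcov' : ∃ η ∈ B', ∃ φ ∈ pushBlock e.symm b,
      classInner (fun m : N.subgroupOf T => (η : T → ℂ) m) (φ : N.subgroupOf T → ℂ) ≠ 0 := by
    refine ⟨ψ, hψB, pushChar e.symm φ₀, ⟨φ₀, hψ φ₀ hφ₀, rfl⟩, ?_⟩
    rw [← classInner_comp_equiv e (resN hNT (ψ : T → ℂ)) (φ₀ : N → ℂ)] at hφ₀
    exact hφ₀
  have h := isDefectGroup_push e hM (isDefectGroup_inf hM hb' hst' hB' hcov' hD)
  rw [← pushBlock_trans, MulEquiv.symm_trans_self, pushBlock_refl] at h
  refine ⟨D.map T.subtype, stab_defectGroup hM hind hd hD, ?_, fun x hx => ?_⟩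
  · convert h using 1
    ext n
    simp only [Subgroup.mem_subgroupOf, Subgroup.mem_inf, Subgroup.mem_map]
    constructor
    · rintro ⟨⟨t, ht, htn⟩, -⟩
      exact ⟨⟨t, show (t : G) ∈ N from (show (t : G) = n from htn) ▸ n.2⟩,
        ⟨ht, show (t : G) ∈ N from (show (t : G) = n from htn) ▸ n.2⟩, Subtype.ext htn⟩
    · rintro ⟨m, ⟨hm, -⟩, rfl⟩
      exact ⟨⟨m, hm, rfl⟩, (e m).2⟩
  · obtain ⟨t, -, rfl⟩ := hx
    exact mem_stabSub.1 t.2

end CfsgLib.Blocks
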