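import Cfsg.Agent.Blocks.DefectGroup
import Cfsg.Agent.ZStar.Second

/-!
# Subsections

For a `p`-element `x` with centralizer `H` and a block `b` of `H`, `secVal x b χ` is the `b`-part of
`c ↦ χ (x c)` cut to the `p`-regular elements of `H`. Its columns multiply to the kernel of the projection onto
`b` (`sum_secVal_mul`), and over the blocks inducing `B` it recovers `χ (x y)` (`apply_eq_sum_secVal`).
-/

set_option linter.unusedSectionVars false
set_option linter.style.haveILetI false

namespace CfsgLib.Blocks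

open Cfsg CfsgLib.CharBasics
open scoped ComplexConjugate

section Kernel

variable {H : Type*} [Group H] [Fintype H] {p : ℕ} {M : Ideal AlgInt}

/-- The kernel of the projection onto a set of irreducible characters. -/
noncomputable def blockKernel (b : Set (IrrCharacter H)) (y z : H) : ℂ :=
  ∑ᶠ ξ ∈ b, (ξ : H → ℂ) y * conj ((ξ : H → ℂ) z)

theorem blockKernel_eq [Fintype (IrrCharacter H)] (b : Set (IrrCharacter H)) [DecidablePred (· ∈ b)] (y z : H) :
    blockKernel b y z = ∑ ξ ∈ Finset.univ.filter (· ∈ b), (ξ : H → ℂ) y * conj ((ξ : H → ℂ) z) := by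
  rw [blockKernel, finsum_mem_eq_finite_toFinset_sum _ (Set.toFinite b)]
  refine Finset.sum_congr ?_ fun _ _ => rfl
  ext ξ; simp

theorem conj_blockKernel (b : Set (IrrCharacter H)) (y z : H) :
    conj (blockKernel b y z) = blockKernel b z y := by
  classical
  haveI : Fintype (IrrCharacter H) := @Fintype.ofFinite _ finite_irrCharacter
  rw [blockKernel_eq, blockKernel_eq, map_sum]
  exact Finset.sum_congr rfl fun ξ _ => by rw [map_mul, Complex.conj_conj, mul_comm]

theorem blockPart_eq_kernel (b : Set (IrrCharacter H)) (f : H → ℂ) (y : H) :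
    blockPart b f y = (Nat.card H : ℂ)⁻¹ * ∑ z : H, f z * blockKernel b y z := by
  classical
  haveI : Fintype (IrrCharacter H) := @Fintype.ofFinite _ finite_irrCharacter
  rw [ZStar.blockPart_apply, ← Finset.sum_filter]
  simp only [blockKernel_eq, Finset.mul_sum]
  rw [Finset.sum_comm]
  refine Finset.sum_congr rfl fun ξ _ => ?_
  rw [classInner_eq, Finset.mul_sum, Finset.sum_mul]
  exact Finset.sum_congr rfl fun z _ => by ring

theorem blockKernel_eq_zero (hM : IsPModular p M) {b : Set (IrrCharacter H)} (hb : IsPBlock M b) {y z : H}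
    (hy : ¬ p ∣ orderOf y) (hz : p ∣ orderOf z) : blockKernel b y z = 0 :=
  weak_block_orth hM hb hy hz

/-- The kernel reproduces itself. -/
theorem sum_blockKernel_mul (b : Set (IrrCharacter H)) (y y' : H) :
    ∑ z : H, blockKernel b y z * blockKernel b z y' = (Nat.card H : ℂ) * blockKernel b y y' := by
  classical
  haveI : Fintype (IrrCharacter H) := @Fintype.ofFinite _ finite_irrCharacter
  simp only [blockKernel_eq, Finset.sum_mul, Finset.mul_sum]
  rw [Finset.sum_comm]
  refine Finset.sum_congr rfl fun ξ hξ => ?_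
  rw [Finset.sum_comm, Finset.sum_eq_single ξ]
  · rw [show ∑ z : H, (ξ : H → ℂ) y * conj ((ξ : H → ℂ) z) * ((ξ : H → ℂ) z * conj ((ξ : H → ℂ) y')) =
      (ξ : H → ℂ) y * conj ((ξ : H → ℂ) y') * ∑ z : H, (ξ : H → ℂ) z * conj ((ξ : H → ℂ) z) by
      rw [Finset.mul_sum]; exact Finset.sum_congr rfl fun z _ => by ring]
    rw [sum_mul_conj, if_pos rfl]
    ring
  · intro η _ hne
    rw [show ∑ z : H, (η : H → ℂ) y * conj ((η : H → ℂ) z) * ((ξ : H → ℂ) z * conj ((ξ : H → ℂ) y')) =
      (η : H → ℂ) y * conj ((ξ : H → ℂ) y') * ∑ z : H, (ξ : H → ℂ) z * conj ((η : H → ℂ) z) by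
      rw [Finset.mul_sum]; exact Finset.sum_congr rfl fun z _ => by ring]
    rw [sum_mul_conj, if_neg (Ne.symm hne), mul_zero]
  · exact fun h => absurd hξ h

end Kernel

variable {G : Type*} [Group G] [Fintype G] {p : ℕ} {M : Ideal AlgInt} {x : G}
  [Fintype (Subgroup.centralizer ({x} : Set G))]


/-- The translate of a function to the centralizer of `x`. -/
def shiftFun (x : G) (χ : G → ℂ) : Subgroup.centralizer ({x} : Set G) → ℂ := fun c => χ (x * c)

theorem isClassFunction_shiftFun {χ : G → ℂ} (hχ : IsClassFunction G χ) :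
    IsClassFunction (Subgroup.centralizer ({x} : Set G)) (shiftFun x χ) := fun c d => by
  have hd : (d : G) * x = x * d := Subgroup.mem_centralizer_singleton_iff.1 d.2
  simp only [shiftFun, Subgroup.coe_mul, Subgroup.coe_inv]
  rw [show x * ((d : G) * c * (d : G)⁻¹) = (d : G) * (x * c) * (d : G)⁻¹ by
    simp only [← mul_assoc, hd], hχ]

/-- The `b`-part of the translate, cut to the `p`-regular elements. -/
noncomputable def secVal (p : ℕ) (x : G) [Fintype (Subgroup.centralizer ({x} : Set G))]
    (b : Set (IrrCharacter (Subgroup.centralizer ({x} : Set G)))) (χ : G → ℂ)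
    (y : Subgroup.centralizer ({x} : Set G)) : ℂ :=
  if p ∣ orderOf y then 0 else blockPart b (shiftFun x χ) y

/-- On the regular elements of the centralizer, translation by `x` respects conjugacy. -/
theorem isConj_mul_left_iff (hx : ∃ k : ℕ, orderOf x = p ^ k) (hp : p.Prime) {y z : (Subgroup.centralizer ({x} : Set G))}
    (hy : ¬ p ∣ orderOf y) (hz : ¬ p ∣ orderOf z) :
    IsConj (x * (y : G)) (x * (z : G)) ↔ IsConj y z := by
  constructor
  · intro h
    obtain ⟨c, hc⟩ := isConj_iff.1 h
    obtain ⟨k, hk⟩ := hx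
    have hyx : Commute x (y : G) := (Subgroup.mem_centralizer_singleton_iff.1 y.2).symm
    have hzx : Commute x (z : G) := (Subgroup.mem_centralizer_singleton_iff.1 z.2).symm
    set m := orderOf y * orderOf z with hm
    have hmp : ¬ p ∣ m := fun hd => (hp.dvd_mul.1 hd).elim hy hz
    obtain ⟨u, v, huv⟩ := (((hp.coprime_iff_not_dvd.2 hmp).pow_left k).isCoprime :
      IsCoprime ((p ^ k : ℕ) : ℤ) (m : ℤ))
    set n : ℤ := v * (m : ℤ) with hn
    have hxn : x ^ n = x := by
      have h1 : n = 1 - u * ((p ^ k : ℕ) : ℤ) := by linarith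
      rw [h1, zpow_sub, zpow_one, mul_comm u, zpow_mul, zpow_natCast, ← hk, pow_orderOf_eq_one, one_zpow,
        inv_one, mul_one]
    have hpow : ∀ w : (Subgroup.centralizer ({x} : Set G)), orderOf w ∣ m → (w : G) ^ n = 1 := fun w hw => by
      obtain ⟨d, hd⟩ := hw
      rw [hn, hd, ← Subgroup.orderOf_coe]
      push_cast
      rw [show v * ((orderOf (w : G) : ℤ) * d) = (orderOf (w : G) : ℤ) * (v * d) by ring, zpow_mul, zpow_natCast,
        pow_orderOf_eq_one, one_zpow]
    have hcx : c * x * c⁻¹ = x := by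
      have h2 := congrArg (· ^ n) hc
      rw [conj_zpow, hyx.mul_zpow, hzx.mul_zpow, hxn, hpow y (Dvd.intro _ rfl), hpow z (Dvd.intro_left _ rfl),
        mul_one] at h2
      exact h2
    have hcH : c ∈ (Subgroup.centralizer ({x} : Set G)) := Subgroup.mem_centralizer_singleton_iff.2 (by rw [← mul_inv_eq_iff_eq_mul]; exact hcx)
    refine isConj_iff.2 ⟨⟨c, hcH⟩, Subtype.ext ?_⟩
    simp only [Subgroup.coe_mul, Subgroup.coe_inv]
    have h3 : c * (x * (y : G)) * c⁻¹ = x * (c * (y : G) * c⁻¹) := by
      calc c * (x * (y : G)) * c⁻¹ = (c * x * c⁻¹) * (c * (y : G) * c⁻¹) := by group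
        _ = _ := by rw [hcx]
    rw [h3] at hc
    exact mul_left_cancel hc
  · intro h
    obtain ⟨c, rfl⟩ := isConj_iff.1 h
    refine isConj_iff.2 ⟨(c : G), ?_⟩
    have hd : (c : G) * x = x * c := Subgroup.mem_centralizer_singleton_iff.1 c.2
    simp only [Subgroup.coe_mul, Subgroup.coe_inv, ← mul_assoc, hd]

theorem card_centralizer_mul (hx : ∃ k : ℕ, orderOf x = p ^ k) (hp : p.Prime) {y : (Subgroup.centralizer ({x} : Set G))} (hy : ¬ p ∣ orderOf y) :
    Nat.card (Subgroup.centralizer ({x * (y : G)} : Set G)) = Nat.card (Subgroup.centralizer ({y} : Set (Subgroup.centralizer ({x} : Set G)))) := by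
  have hfix : ∀ c : G, c ∈ Subgroup.centralizer ({x * (y : G)} : Set G) →
      c ∈ Subgroup.centralizer ({x} : Set G) := by
    intro c hc
    obtain ⟨k, hk⟩ := hx
    have hyx : Commute x (y : G) := (Subgroup.mem_centralizer_singleton_iff.1 y.2).symm
    obtain ⟨u, v, huv⟩ := (((hp.coprime_iff_not_dvd.2 hy).pow_left k).isCoprime :
      IsCoprime ((p ^ k : ℕ) : ℤ) (orderOf y : ℤ))
    have hxn : (x * (y : G)) ^ (v * (orderOf y : ℤ)) = x := by
      rw [hyx.mul_zpow, mul_comm v, zpow_mul (y : G), zpow_natCast, ← Subgroup.orderOf_coe, pow_orderOf_eq_one,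
        one_zpow, mul_one, Subgroup.orderOf_coe, mul_comm _ v,
        show v * (orderOf y : ℤ) = 1 - u * ((p ^ k : ℕ) : ℤ) by linarith, zpow_sub, zpow_one, mul_comm u, zpow_mul,
        zpow_natCast, ← hk, pow_orderOf_eq_one, one_zpow, inv_one, mul_one]
    have h : Commute c (x * (y : G)) := Subgroup.mem_centralizer_singleton_iff.1 hc
    have h2 := h.zpow_right (v * (orderOf y : ℤ))
    rw [hxn] at h2
    exact Subgroup.mem_centralizer_singleton_iff.2 h2
  refine Nat.card_congr
    { toFun := fun c => ⟨⟨c.1, hfix c.1 c.2⟩, Subgroup.mem_centralizer_singleton_iff.2 (Subtype.ext ?_)⟩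
      invFun := fun c => ⟨c.1.1, Subgroup.mem_centralizer_singleton_iff.2 ?_⟩
      left_inv := fun c => rfl
      right_inv := fun c => rfl }
  · have h : (c : G) * (x * (y : G)) = x * (y : G) * c := Subgroup.mem_centralizer_singleton_iff.1 c.2
    have hd : (c : G) * x = x * c := Subgroup.mem_centralizer_singleton_iff.1 (hfix c.1 c.2)
    rw [← mul_assoc, hd, mul_assoc, mul_assoc] at h
    exact mul_left_cancel h
  · have hd : (c.1 : G) * x = x * c.1 := Subgroup.mem_centralizer_singleton_iff.1 c.1.2
    have h := congrArg Subtype.val (Subgroup.mem_centralizer_singleton_iff.1 c.2)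
    simp only [Subgroup.coe_mul] at h
    rw [← mul_assoc, hd, mul_assoc, h, mul_assoc]

/-- Column orthogonality on the regular part of a section. -/
theorem sum_shift_col [Fintype (IrrCharacter G)] (hx : ∃ k : ℕ, orderOf x = p ^ k) (hp : p.Prime) {y z : (Subgroup.centralizer ({x} : Set G))}
    (hy : ¬ p ∣ orderOf y) (hz : ¬ p ∣ orderOf z) [Decidable (IsConj y z)] :
    ∑ χ : IrrCharacter G, shiftFun x (χ : G → ℂ) y * conj (shiftFun x (χ : G → ℂ) z) =
      if IsConj y z then (Nat.card (Subgroup.centralizer ({y} : Set (Subgroup.centralizer ({x} : Set G)))) : ℂ) else 0 := by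
  classical
  simp only [shiftFun]
  rw [sum_col, card_centralizer_mul hx hp hy]
  exact if_congr (isConj_mul_left_iff hx hp hy hz) rfl rfl

theorem secVal_eq_kernel (hM : IsPModular p M) {b : Set (IrrCharacter (Subgroup.centralizer ({x} : Set G)))} (hb : IsPBlock M b) (χ : G → ℂ)
    {y : (Subgroup.centralizer ({x} : Set G))} (hy : ¬ p ∣ orderOf y) :
    secVal p x b χ y =
      (Nat.card (Subgroup.centralizer ({x} : Set G)) : ℂ)⁻¹ * ∑ z : (Subgroup.centralizer ({x} : Set G)), (if p ∣ orderOf z then 0 else shiftFun x χ z) * blockKernel b y z := by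
  rw [secVal, if_neg hy, blockPart_eq_kernel]
  congr 1
  refine Finset.sum_congr rfl fun z _ => ?_
  split_ifs with hz
  · rw [blockKernel_eq_zero hM hb hy hz, mul_zero, zero_mul]
  · rfl

theorem sum_class_mul {A : Type*} [Group A] [Fintype A] {f : A → ℂ} (hf : IsClassFunction A f) (z : A)
    [∀ w, Decidable (IsConj z w)] :
    ∑ w : A, (if IsConj z w then (Nat.card (Subgroup.centralizer ({z} : Set A)) : ℂ) * f w else 0) =
      (Nat.card A : ℂ) * f z := by
  rw [← Finset.sum_filter, Finset.sum_congr rfl
    (g := fun _ => (Nat.card (Subgroup.centralizer ({z} : Set A)) : ℂ) * f z) (fun w hw => by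
      obtain ⟨c, hc⟩ := isConj_iff.1 (Finset.mem_filter.1 hw).2
      rw [← hc, hf z c]), Finset.sum_const, nsmul_eq_mul, ← mul_assoc]
  congr 1
  rw [← Subgroup.card_mul_index (Subgroup.centralizer ({z} : Set A)), Nat.cast_mul, mul_comm,
    ← card_conjClass, Nat.card_eq_fintype_card (α := {w // IsConj z w}), Fintype.card_subtype]

/-- The columns of a subsection multiply to the kernel of the block. -/
theorem sum_secVal_mul (hM : IsPModular p M) (hx : ∃ k : ℕ, orderOf x = p ^ k) [Fintype (IrrCharacter G)]
    {b : Set (IrrCharacter (Subgroup.centralizer ({x} : Set G)))} (hb : IsPBlock M b) {y y' : (Subgroup.centralizer ({x} : Set G))} (hy : ¬ p ∣ orderOf y) (hy' : ¬ p ∣ orderOf y') :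
    ∑ χ : IrrCharacter G, secVal p x b (χ : G → ℂ) y * conj (secVal p x b (χ : G → ℂ) y') =
      blockKernel b y y' := by
  classical
  have hH : (Nat.card (Subgroup.centralizer ({x} : Set G)) : ℂ) ≠ 0 := Nat.cast_ne_zero.2 Nat.card_pos.ne'
  simp only [secVal_eq_kernel hM hb _ hy, secVal_eq_kernel hM hb _ hy', map_mul, map_inv₀, map_sum,
    Complex.conj_natCast]
  rw [Finset.sum_congr rfl (g := fun χ : IrrCharacter G => (Nat.card (Subgroup.centralizer ({x} : Set G)) : ℂ)⁻¹ ^ 2 * ∑ z : (Subgroup.centralizer ({x} : Set G)), ∑ w : (Subgroup.centralizer ({x} : Set G)),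
      ((if p ∣ orderOf z then 0 else shiftFun x (χ : G → ℂ) z) *
        conj (if p ∣ orderOf w then 0 else shiftFun x (χ : G → ℂ) w)) *
      (blockKernel b y z * conj (blockKernel b y' w))) ?_]
  · rw [← Finset.mul_sum, Finset.sum_comm]
    simp only [Finset.sum_comm (s := (Finset.univ : Finset (IrrCharacter G))), ← Finset.sum_mul]
    have hin : ∀ z : (Subgroup.centralizer ({x} : Set G)), ∑ w : (Subgroup.centralizer ({x} : Set G)), (∑ χ : IrrCharacter G, (if p ∣ orderOf z then 0 else shiftFun x (χ : G → ℂ) z) *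
        conj (if p ∣ orderOf w then 0 else shiftFun x (χ : G → ℂ) w)) *
        (blockKernel b y z * conj (blockKernel b y' w)) =
        (Nat.card (Subgroup.centralizer ({x} : Set G)) : ℂ) * (blockKernel b y z * blockKernel b z y') := by
      intro z
      by_cases hz : p ∣ orderOf z
      · simp [hz, blockKernel_eq_zero hM hb hy hz]
      have hcls : IsClassFunction (Subgroup.centralizer ({x} : Set G)) (fun w => blockKernel b y z * conj (blockKernel b y' w)) := fun w d => by
        haveI : Fintype (IrrCharacter (Subgroup.centralizer ({x} : Set G))) := @Fintype.ofFinite _ finite_irrCharacter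
        simp only [conj_blockKernel]
        congr 1
        rw [blockKernel_eq, blockKernel_eq]
        exact Finset.sum_congr rfl fun ξ _ => by rw [isClassFunction (isCharacter_of_irr ξ.2) w d]
      rw [← conj_blockKernel b y' z, ← sum_class_mul hcls z]
      refine Finset.sum_congr rfl fun w _ => ?_
      by_cases hw : p ∣ orderOf w
      · rw [conj_blockKernel b y' w, show blockKernel b w y' = conj (blockKernel b y' w) from (conj_blockKernel b y' w).symm,
          blockKernel_eq_zero hM hb hy' hw]
        simp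
      · simp only [hz, hw, if_false]
        rw [sum_shift_col hx hM.1 hz hw, ite_mul, zero_mul]
    rw [Finset.sum_congr rfl (fun z _ => hin z), ← Finset.mul_sum, sum_blockKernel_mul]
    field_simp
  · intro χ _
    rw [Finset.mul_sum (s := (Finset.univ : Finset (Subgroup.centralizer ({x} : Set G)))), Finset.mul_sum (s := (Finset.univ : Finset (Subgroup.centralizer ({x} : Set G)))),
      Finset.sum_mul_sum, Finset.mul_sum]
    refine Finset.sum_congr rfl fun z _ => ?_
    rw [Finset.mul_sum]
    exact Finset.sum_congr rfl fun w _ => by ring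

/-- A subsection value is fixed by the projection onto the block. -/
theorem sum_kernel_secVal (hM : IsPModular p M) {b : Set (IrrCharacter (Subgroup.centralizer ({x} : Set G)))} (hb : IsPBlock M b) (χ : G → ℂ)
    {y : (Subgroup.centralizer ({x} : Set G))} (hy : ¬ p ∣ orderOf y) :
    ∑ z : (Subgroup.centralizer ({x} : Set G)), blockKernel b y z * secVal p x b χ z = (Nat.card (Subgroup.centralizer ({x} : Set G)) : ℂ) * secVal p x b χ y := by
  classical
  have h : ∀ z : (Subgroup.centralizer ({x} : Set G)), blockKernel b y z * secVal p x b χ z = blockKernel b y z * blockPart b (shiftFun x χ) z := by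
    intro z
    rw [secVal]
    split_ifs with hz
    · rw [blockKernel_eq_zero hM hb hy hz, zero_mul, zero_mul]
    · rfl
  rw [Finset.sum_congr rfl (fun z _ => h z), secVal, if_neg hy]
  simp only [blockPart_eq_kernel, Finset.mul_sum]
  rw [Finset.sum_comm]
  refine Finset.sum_congr rfl fun w _ => ?_
  rw [show ∑ z : (Subgroup.centralizer ({x} : Set G)), blockKernel b y z * ((Nat.card (Subgroup.centralizer ({x} : Set G)) : ℂ)⁻¹ * (shiftFun x χ w * blockKernel b z w)) =
    (Nat.card (Subgroup.centralizer ({x} : Set G)) : ℂ)⁻¹ * shiftFun x χ w * ∑ z : (Subgroup.centralizer ({x} : Set G)), blockKernel b y z * blockKernel b z w by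
    rw [Finset.mul_sum]; exact Finset.sum_congr rfl fun z _ => by ring, sum_blockKernel_mul]
  ring

/-- A block not inducing the block of `χ` contributes nothing. -/
theorem secVal_eq_zero (hM : IsPModular p M) (hx : ∃ k : ℕ, orderOf x = p ^ k)
    {b : Set (IrrCharacter (Subgroup.centralizer ({x} : Set G)))} (hb : IsPBlock M b) {B : Set (IrrCharacter G)} (hB : IsPBlock M B)
    {χ : IrrCharacter G} (hχ : χ ∈ B) (hni : ¬ IsInducedBlock M (Subgroup.centralizer ({x} : Set G)) b B) (y : (Subgroup.centralizer ({x} : Set G))) :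
    secVal p x b (χ : G → ℂ) y = 0 := by
  classical
  rw [secVal]
  split_ifs with hy
  · rfl
  have h := ZStar.second_main hM hx (H := Subgroup.centralizer ({x} : Set G)) le_rfl (f := blockElt b) (isIdempotentElem_blockElt b)
    (isClassElt_blockElt b) (isIntegralElt_blockElt hM hb) hB hχ (y := (y : G)) ?_
    (by rwa [Subgroup.orderOf_coe]) (Subgroup.mem_centralizer_singleton_iff.1 y.2).symm
  · rw [← ZStar.sum_blockCoeff_mul b (isClassFunction_shiftFun (isClassFunction (isCharacter_of_irr χ.2))), ← h]
    refine Finset.sum_congr rfl fun k _ => ?_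
    have hk : (k : G) * x = x * k := Subgroup.mem_centralizer_singleton_iff.1 k.2
    rw [coeff_blockElt, shiftFun, Subgroup.coe_mul, ← mul_assoc, ← mul_assoc, hk]
  · intro ξ
    rw [omega_blockElt]
    by_cases hξ : ξ ∈ b
    · refine Or.inr ?_
      by_contra hns
      exact hni (ZStar.isInducedBlock_of_not_small hM (ZStar.isPGroup_zpowers hM.1 hx)
        (ZStar.mem_centralizer_zpowers x) hb hB hξ hns)
    · exact Or.inl (if_neg hξ)

/-- The blocks of a group. -/
noncomputable def blockFinset (M : Ideal AlgInt) (A : Type*) [Group A] [Fintype (IrrCharacter A)] :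
    Finset (Set (IrrCharacter A)) :=
  by classical exact Finset.univ.image fun ξ : IrrCharacter A => blockOf M (ξ : A → ℂ)

theorem mem_blockFinset {A : Type*} [Group A] [Fintype (IrrCharacter A)] {b : Set (IrrCharacter A)} :
    b ∈ blockFinset M A ↔ IsPBlock M b := by
  simp only [blockFinset, Finset.mem_image, Finset.mem_univ, true_and, IsPBlock]
  exact exists_congr fun _ => eq_comm

theorem sum_blockPart (hM : IsPModular p M) {A : Type*} [Group A] [Fintype A] [Fintype (IrrCharacter A)]
    {f : A → ℂ} (hf : IsClassFunction A f) (y : A) : ∑ b ∈ blockFinset M A, blockPart b f y = f y := by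
  classical
  simp only [ZStar.blockPart_apply]
  rw [Finset.sum_comm]
  conv_rhs => rw [classFun_expand hf]
  rw [Finset.sum_apply]
  refine Finset.sum_congr rfl fun ξ _ => ?_
  rw [Finset.sum_eq_single (blockOf M (ξ : A → ℂ))]
  · rw [if_pos (mem_blockOf_self hM ξ)]
    simp
  · intro b hb hne
    rw [if_neg fun h => hne (IsPBlock.eq_blockOf hM (mem_blockFinset.1 hb) h)]
  · exact fun h => absurd (mem_blockFinset.2 (isPBlock_blockOf M ξ)) h

/-- Only the blocks inducing the block of `χ` contribute to `χ (x y)`. -/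
theorem apply_eq_sum_secVal (hM : IsPModular p M) (hx : ∃ k : ℕ, orderOf x = p ^ k) [Fintype (IrrCharacter (Subgroup.centralizer ({x} : Set G)))]
    [DecidablePred fun b : Set (IrrCharacter (Subgroup.centralizer ({x} : Set G))) => ∃ B : Set (IrrCharacter G), IsInducedBlock M (Subgroup.centralizer ({x} : Set G)) b B]
    {B : Set (IrrCharacter G)} (hB : IsPBlock M B) [DecidablePred fun b : Set (IrrCharacter (Subgroup.centralizer ({x} : Set G))) => IsInducedBlock M (Subgroup.centralizer ({x} : Set G)) b B]
    (χ : IrrCharacter G) [Decidable (χ ∈ B)] {y : (Subgroup.centralizer ({x} : Set G))} (hy : ¬ p ∣ orderOf y) :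
    ∑ b ∈ (blockFinset M (Subgroup.centralizer ({x} : Set G))).filter (fun b => IsInducedBlock M (Subgroup.centralizer ({x} : Set G)) b B), secVal p x b (χ : G → ℂ) y =
      if χ ∈ B then (χ : G → ℂ) (x * y) else 0 := by
  classical
  have hall : ∑ b ∈ blockFinset M (Subgroup.centralizer ({x} : Set G)), secVal p x b (χ : G → ℂ) y = (χ : G → ℂ) (x * y) := by
    simp only [secVal, if_neg hy]
    exact sum_blockPart hM (isClassFunction_shiftFun (isClassFunction (isCharacter_of_irr χ.2))) y
  split_ifs with hχ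
  · rw [← hall, Finset.sum_filter]
    refine Finset.sum_congr rfl fun b hb => ?_
    split_ifs with hi
    · rfl
    · exact (secVal_eq_zero hM hx (mem_blockFinset.1 hb) hB hχ hi y).symm
  · refine Finset.sum_eq_zero fun b hb => ?_
    obtain ⟨hb1, hb2⟩ := Finset.mem_filter.1 hb
    refine secVal_eq_zero hM hx (mem_blockFinset.1 hb1) (isPBlock_blockOf M χ) (mem_blockOf_self hM χ) (fun hi => ?_) y
    obtain ⟨ξ, hξ⟩ := IsPBlock.nonempty hM hb2.1
    obtain ⟨φ, hφ⟩ := IsPBlock.nonempty hM hB
    refine hχ ((IsPBlock.mem_iff hM hB hφ).2 fun g => ?_)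
    simpa using memLocalIdeal_sub hM (hi.2.2 ξ hξ χ (mem_blockOf_self hM χ) g) (hb2.2.2 ξ hξ φ hφ g)

end CfsgLib.Blocks
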