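import Cfsg.Agent.Blocks.CentralSupport
import Cfsg.Agent.Blocks.Subsection
import Cfsg.Agent.Clifford.Basic
import Cfsg.Agent.CharBasics.Extra

/-!
# Blocks over a normal subgroup, inflation, truncation to centralizers

* `omega_eq_res_constituent` : central characters on elements supported in a normal subgroup;
* `exists_conj_mem_blockOf` : characters of `N` equal on invariant elements have conjugate blocks;
* `constituent_of_sameBlock` : over a normal `p'`-subgroup constituents are shared inside a block;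
* `sameBlock_inflate`, `sameBlock_of_inflate` ;
* `exists_not_small` : a unit coefficient in `C(P)` makes some character of `H` nonzero on the idempotent.
-/

set_option linter.unusedSectionVars false
set_option linter.style.haveILetI false

namespace CfsgLib.Blocks

open Cfsg CfsgLib.CharBasics CfsgLib.Clifford
open scoped ComplexConjugate

universe u

variable {G : Type u} [Group G] [Fintype G] {p : ℕ} {M : Ideal AlgInt}

/-- The central character of an element supported in a normal subgroup is that of any constituent. -/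
theorem omega_eq_res_constituent {N : Subgroup G} [N.Normal] [Fintype N] {z : MonoidAlgebra ℂ G}
    (hz : IsClassElt z) (hsupp : ∀ g, g ∉ N → z.coeff g = 0) (χ : IrrCharacter G) (θ : IrrCharacter N)
    (hθ : classInner (fun n : N => (χ : G → ℂ) n) (θ : N → ℂ) ≠ 0) :
    omega (χ : G → ℂ) z = omega (θ : N → ℂ) (ZStar.res N z) := by
  classical
  haveI : Fintype (IrrCharacter N) := @Fintype.ofFinite _ finite_irrCharacter
  have hexp := classFun_expand (isClassFunction (CharBasics.isCharacter_restrict (isCharacter_of_irr χ.2) N))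
  have hone : ∀ φ : IrrCharacter N, classInner (fun n : N => (χ : G → ℂ) n) (φ : N → ℂ) ≠ 0 →
      omega (φ : N → ℂ) (ZStar.res N z) = omega (θ : N → ℂ) (ZStar.res N z) := by
    intro φ hφ
    obtain ⟨g, hg⟩ := constituent_conj χ.2 θ.2 φ.2 hθ hφ
    rw [hg]
    simp only [omega, ZStar.coeff_res, conjFun_apply, Subgroup.coe_one, mul_one, mul_inv_cancel]
    congr 1
    · refine Fintype.sum_equiv (MulAut.conjNormal g).toEquiv _ _ fun n => ?_
      show _ = z.coeff ((MulAut.conjNormal g n : N) : G) * (θ : N → ℂ) (MulAut.conjNormal g n)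
      rw [MulAut.conjNormal_apply, coeff_conj hz]
      exact congrArg _ (congrArg _ (Subtype.ext (by rw [MulAut.conjNormal_apply])))
  have h1 := apply_one_ne_zero χ.2
  have hsum : ∑ g, z.coeff g * (χ : G → ℂ) g = ∑ n : N, z.coeff (n : G) * (χ : G → ℂ) (n : G) := by
    rw [← Finset.sum_subtype (Finset.univ.filter (· ∈ N)) (fun x => by simp)
      (fun g => z.coeff g * (χ : G → ℂ) g), Finset.sum_filter]
    refine Finset.sum_congr rfl fun g _ => ?_
    split_ifs with hg
    · rfl
    · rw [hsupp g hg, zero_mul]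
  rw [omega, hsum, div_eq_iff h1]
  obtain ⟨mu, hmu⟩ : ∃ mu : IrrCharacter N → ℂ,
      ∀ φ, mu φ = classInner (fun m : N => (χ : G → ℂ) m) (φ : N → ℂ) := ⟨_, fun _ => rfl⟩
  have hn : ∀ n : N, (χ : G → ℂ) (n : G) = ∑ φ : IrrCharacter N, mu φ * (φ : N → ℂ) n := by
    intro n
    simpa [hmu] using congrFun hexp n
  rw [show (χ : G → ℂ) 1 = ∑ φ : IrrCharacter N, mu φ * (φ : N → ℂ) 1 from hn 1, Finset.mul_sum,
    Finset.sum_congr rfl (fun n _ => by rw [hn n, Finset.mul_sum]), Finset.sum_comm]
  refine Finset.sum_congr rfl fun φ _ => ?_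
  by_cases hφ : mu φ = 0
  · simp [hφ]
  · rw [← hone φ (hmu φ ▸ hφ), omega]
    simp only [ZStar.coeff_res]
    have h2 := apply_one_ne_zero φ.2
    field_simp
    rw [Finset.mul_sum]
    exact Finset.sum_congr rfl fun n _ => by ring

/-- A constituent makes the idempotent of the block nonzero on it. -/
theorem exists_constituent_of_omega_ne {H : Subgroup G} [Fintype H] (B : Set (IrrCharacter G)) (ξ : IrrCharacter H)
    (h : omega (ξ : H → ℂ) (ZStar.res H (blockElt B)) ≠ 0) :
    ∃ χ ∈ B, classInner (fun x : H => (χ : G → ℂ) x) (ξ : H → ℂ) ≠ 0 := by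
  classical
  haveI : Fintype (IrrCharacter G) := @Fintype.ofFinite _ finite_irrCharacter
  by_contra hcon
  push Not at hcon
  refine h ?_
  rw [ZStar.omega_res]
  have h0 : ∑ x : H, (blockElt B).coeff (x : G) * (ξ : H → ℂ) x = 0 := by
    simp only [coeff_blockElt, blockCoeff_eq, mul_assoc, Finset.sum_mul, ← Finset.mul_sum]
    rw [Finset.sum_comm, Finset.sum_eq_zero, mul_zero]
    intro φ _
    by_cases hφ : φ ∈ B
    · simp only [if_pos hφ, mul_assoc, ← Finset.mul_sum]
      have h := hcon φ hφ
      rw [classInner_eq, mul_eq_zero, inv_eq_zero] at h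
      have h2 := h.resolve_left (Nat.cast_ne_zero.2 Nat.card_pos.ne')
      have h3 := congrArg (starRingEnd ℂ) h2
      simp only [map_sum, map_mul, Complex.conj_conj, map_zero] at h3
      exact mul_eq_zero_of_right _ h3
    · simp only [if_neg hφ, zero_mul, Finset.sum_const_zero]
  rw [h0, zero_div]

/-- Characters of `N` congruent on invariant elements have conjugate blocks. -/
theorem exists_conj_mem_blockOf (hM : IsPModular p M) {N : Subgroup G} [hN : N.Normal] [Fintype N]
    (θ φ : IrrCharacter N)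
    (h : ∀ z : MonoidAlgebra ℂ G, IsClassElt z → IsIntegralElt M z → (∀ g, g ∉ N → z.coeff g = 0) →
      MemLocalIdeal M (omega (θ : N → ℂ) (ZStar.res N z) - omega (φ : N → ℂ) (ZStar.res N z))) :
    ∃ g : G, ∃ φ' ∈ blockOf M (θ : N → ℂ), (φ' : N → ℂ) = conjFun g (φ : N → ℂ) := by
  classical
  haveI : Fintype (IrrCharacter N) := @Fintype.ofFinite _ finite_irrCharacter
  let tw : G → IrrCharacter N → IrrCharacter N := fun g ρ => ⟨conjFun g (ρ : N → ℂ), isIrrCharacter_conjFun g ρ.2⟩
  have hto : ∀ (g : G) (w : MonoidAlgebra ℂ N) (ρ : IrrCharacter N),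
      omega (tw g ρ : N → ℂ) w
        = omega (ρ : N → ℂ) (ofFun fun n : N => w.coeff (MulAut.conjNormal g⁻¹ n)) := by
    intro g w ρ
    simp only [tw, omega, coeff_ofFun, conjFun_apply, Subgroup.coe_one, mul_one, mul_inv_cancel]
    congr 1
    · refine Fintype.sum_equiv (MulAut.conjNormal g).toEquiv _ _ fun n => ?_
      show _ = w.coeff (MulAut.conjNormal g⁻¹ (MulAut.conjNormal g n)) * (ρ : N → ℂ) (MulAut.conjNormal g n)
      rw [map_inv, MulAut.inv_def, MulEquiv.symm_apply_apply]
      exact congrArg _ (congrArg _ (Subtype.ext (by rw [MulAut.conjNormal_apply])))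
  have htwist : ∀ (g : G) (w : MonoidAlgebra ℂ N), IsClassElt w →
      IsClassElt (ofFun fun n : N => w.coeff (MulAut.conjNormal g⁻¹ n)) := by
    intro g w hw x y
    simp only [coeff_ofFun, map_mul, map_inv]
    exact hw _ _
  have hsame : ∀ (g : G) (ρ ρ' : IrrCharacter N), SameBlock M (ρ : N → ℂ) (ρ' : N → ℂ) →
      SameBlock M (tw g ρ : N → ℂ) (tw g ρ' : N → ℂ) := by
    intro g ρ ρ' hs n
    rw [← omega_classElt (tw g ρ).2, ← omega_classElt (tw g ρ').2, hto, hto]
    exact omega_sub_mem_of_sameBlock hM hs (htwist g _ (isClassElt_classElt n)) (fun m => by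
      rw [coeff_ofFun]; exact isIntegralElt_classElt hM n _)
  let U : Set (IrrCharacter N) := {ρ | ∃ g : G, tw g ρ ∈ blockOf M (θ : N → ℂ)}
  have hU : ∀ (g : G) (ρ : IrrCharacter N), tw g ρ ∈ U ↔ ρ ∈ U := by
    intro g ρ
    have e : ∀ a : G, tw a (tw g ρ) = tw (g * a) ρ := fun a => Subtype.ext (conjFun_mul g a (ρ : N → ℂ))
    constructor
    · rintro ⟨a, ha⟩; exact ⟨g * a, by rwa [e] at ha⟩
    · rintro ⟨a, ha⟩; exact ⟨g⁻¹ * a, by rw [e, mul_inv_cancel_left]; exact ha⟩
  have hUblock : ∀ b, IsPBlock M b → ∀ ρ ∈ b, ρ ∈ U → b ⊆ U := by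
    rintro b hb ρ hρ ⟨g, hg⟩ ρ' hρ'
    exact ⟨g, sameBlock_trans hM hg (hsame g ρ ρ' ((IsPBlock.mem_iff hM hb hρ).1 hρ'))⟩
  -- the idempotent of `U`
  have hsum : blockElt U = ∑ b ∈ (blockFinset M N).filter (· ⊆ U), blockElt b := by
    refine eq_of_omega_eq (isClassElt_blockElt U) (fun x y => ?_) fun ρ => ?_
    · simp only [MonoidAlgebra.coeff_sum, Finsupp.finsetSum_apply]
      exact Finset.sum_congr rfl fun b _ => isClassElt_blockElt b x y
    rw [omega_blockElt, ZStar.omega_sum]
    by_cases hρ : ρ ∈ U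
    · rw [if_pos hρ, Finset.sum_eq_single (blockOf M (ρ : N → ℂ))]
      · rw [omega_blockElt, if_pos (mem_blockOf_self hM ρ)]
      · intro b hb hne
        rw [omega_blockElt, if_neg fun k => hne (IsPBlock.eq_blockOf hM (mem_blockFinset.1 (Finset.mem_filter.1 hb).1) k)]
      · exact fun k => absurd (Finset.mem_filter.2 ⟨mem_blockFinset.2 (isPBlock_blockOf M ρ),
          hUblock _ (isPBlock_blockOf M ρ) ρ (mem_blockOf_self hM ρ) hρ⟩) k
    · rw [if_neg hρ, Finset.sum_eq_zero]
      intro b hb
      rw [omega_blockElt, if_neg fun k => hρ ((Finset.mem_filter.1 hb).2 k)]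
  have hUi : IsIntegralElt M (blockElt U) := fun x => by
    rw [hsum]
    simp only [MonoidAlgebra.coeff_sum, Finsupp.finsetSum_apply]
    exact memLocalRing_sum hM _ fun b hb => isIntegralElt_blockElt hM (mem_blockFinset.1 (Finset.mem_filter.1 hb).1) x
  have hinv : ∀ (g : G) (n : N), (blockElt U).coeff (MulAut.conjNormal g⁻¹ n) = (blockElt U).coeff n := by
    intro g n
    have e : (ofFun fun m : N => (blockElt U).coeff (MulAut.conjNormal g⁻¹ m)) = blockElt U := by
      refine eq_of_omega_eq (htwist g _ (isClassElt_blockElt U)) (isClassElt_blockElt U) fun ρ => ?_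
      rw [← hto, omega_blockElt, omega_blockElt]
      exact if_congr (hU g ρ) rfl rfl
    conv_rhs => rw [← e]
    rw [coeff_ofFun]
  let z : MonoidAlgebra ℂ G := ofFun fun g : G => if hg : g ∈ N then (blockElt U).coeff ⟨g, hg⟩ else 0
  have hzc : IsClassElt z := by
    intro x y
    simp only [z, coeff_ofFun]
    by_cases hx : x ∈ N
    · rw [dif_pos hx, dif_pos (hN.conj_mem x hx y)]
      refine Eq.trans (congrArg _ (Subtype.ext ?_)) (hinv y⁻¹ ⟨x, hx⟩)
      rw [inv_inv, MulAut.conjNormal_apply]
    · rw [dif_neg hx, dif_neg fun k => hx (by simpa [mul_assoc] using hN.conj_mem _ k y⁻¹)]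
  have hres : ZStar.res N z = blockElt U := by
    ext n
    rw [ZStar.coeff_res]
    simp only [z, coeff_ofFun, dif_pos n.2]
  have hzi : IsIntegralElt M z := fun g => by
    simp only [z, coeff_ofFun]
    split_ifs
    · exact hUi _
    · exact memLocalRing_zero hM
  have hkey := h z hzc hzi (fun g hg => by simp only [z, coeff_ofFun, dif_neg hg])
  rw [hres, omega_blockElt, omega_blockElt,
    if_pos (show θ ∈ U from ⟨1, by
      rw [show tw 1 θ = θ from Subtype.ext (conjFun_one (θ : N → ℂ))]; exact mem_blockOf_self hM θ⟩)] at hkey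
  by_contra hcon
  rw [if_neg (fun ⟨g, hg⟩ => hcon ⟨g, tw g φ, hg, rfl⟩), sub_zero] at hkey
  exact not_memLocalIdeal_one hM hkey

/-- Blocks of a group of order prime to `p` are singletons. -/
theorem eq_of_sameBlock_of_not_dvd {A : Type*} [Group A] [Fintype A] (hM : IsPModular p M)
    (hA : ¬ p ∣ Nat.card A) {θ φ : IrrCharacter A} (h : SameBlock M (θ : A → ℂ) (φ : A → ℂ)) : θ = φ := by
  classical
  by_contra hne
  have h1 := omega_sub_mem_of_sameBlock hM h (isClassElt_blockElt ({θ} : Set (IrrCharacter A)))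
    (isIntegralElt_singleton hM hA θ)
  rw [omega_blockElt, omega_blockElt, if_pos (Set.mem_singleton _),
    if_neg (fun k => hne (Set.mem_singleton_iff.1 k).symm), sub_zero] at h1
  exact not_memLocalIdeal_one hM h1

/-- A constituent exists. -/
theorem exists_constituent_restrict (N : Subgroup G) [Fintype N] (χ : IrrCharacter G) :
    ∃ θ : IrrCharacter N, classInner (fun n : N => (χ : G → ℂ) n) (θ : N → ℂ) ≠ 0 := by
  obtain ⟨θ, hθ⟩ := exists_restrict_constituent N χ
  refine ⟨θ, ?_⟩
  rw [classInner_comm]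
  simpa using hθ

/-- Over a normal `p'`-subgroup the members of a block share their constituents. -/
theorem constituent_of_sameBlock (hM : IsPModular p M) {N : Subgroup G} [hN : N.Normal] [Fintype N]
    (hNp : ¬ p ∣ Nat.card N) {χ ψ : IrrCharacter G} (h : SameBlock M (χ : G → ℂ) (ψ : G → ℂ))
    {θ : IrrCharacter N} (hθ : classInner (fun n : N => (χ : G → ℂ) n) (θ : N → ℂ) ≠ 0) :
    classInner (fun n : N => (ψ : G → ℂ) n) (θ : N → ℂ) ≠ 0 := by
  obtain ⟨φ, hφ⟩ := exists_constituent_restrict N ψ
  obtain ⟨g, φ', hφ', he⟩ := exists_conj_mem_blockOf hM θ φ fun z hz hzi hsupp => by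
    rw [← omega_eq_res_constituent hz hsupp χ θ hθ, ← omega_eq_res_constituent hz hsupp ψ φ hφ]
    exact omega_sub_mem_of_sameBlock hM h hz hzi
  have hθφ := eq_of_sameBlock_of_not_dvd hM hNp hφ'
  rw [hθφ, he, ← conjFun_restrict (isClassFunction (isCharacter_of_irr ψ.2)) g, classInner_conjFun]
  exact hφ

theorem eq_one_of_constituent_one {N : Subgroup G} [hN : N.Normal] [Fintype N] {χ : IrrCharacter G}
    (h : classInner (fun n : N => (χ : G → ℂ) n) (fun _ : N => (1 : ℂ)) ≠ 0) {n : G} (hn : n ∈ N) :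
    (χ : G → ℂ) n = (χ : G → ℂ) 1 := by
  have h1 := restrict_eq_smul_of_invariant χ.2 isIrrCharacter_one (fun g => by funext m; rfl) h
  have hv := congrFun h1 ⟨n, hn⟩
  have hw := congrFun h1 1
  simp only [Pi.smul_apply] at hv hw
  exact hv.trans hw.symm

/-- Equal central characters mod `M` in the quotient give the same block in the group. -/
theorem sameBlock_inflate (hM : IsPModular p M) {N : Subgroup G} [N.Normal] {χ ψ : IrrCharacter (G ⧸ N)}
    (h : SameBlock M (χ : G ⧸ N → ℂ) (ψ : G ⧸ N → ℂ)) :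
    SameBlock M ((χ : G ⧸ N → ℂ) ∘ QuotientGroup.mk) ((ψ : G ⧸ N → ℂ) ∘ QuotientGroup.mk) := by
  intro g
  obtain ⟨k, hk⟩ : (Subgroup.centralizer ({(g : G ⧸ N)} : Set (G ⧸ N))).index ∣
      (Subgroup.centralizer ({g} : Set G)).index := by
    rw [← Subgroup.index_comap_of_surjective _ (QuotientGroup.mk'_surjective N)]
    refine Subgroup.index_dvd_of_le fun x hx => ?_
    rw [Subgroup.mem_comap, Subgroup.mem_centralizer_singleton_iff]
    have := Subgroup.mem_centralizer_singleton_iff.1 hx
    exact congrArg (QuotientGroup.mk' N) this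
  have e : ∀ φ : G ⧸ N → ℂ, centralChar (φ ∘ QuotientGroup.mk) g = (k : ℂ) * centralChar φ (g : G ⧸ N) := by
    intro φ
    simp only [centralChar, Function.comp_apply, hk, QuotientGroup.mk_one, Nat.cast_mul]
    ring
  rw [e, e, ← mul_sub]
  exact memLocalIdeal_mul_left hM (memLocalRing_natCast hM k) (h _)

/-- Over a normal `p'`-subgroup the same block in the group gives the same block in the quotient. -/
theorem sameBlock_of_inflate (hM : IsPModular p M) {N : Subgroup G} [N.Normal] (hNp : ¬ p ∣ Nat.card N)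
    {χ ψ : IrrCharacter (G ⧸ N)}
    (h : SameBlock M ((χ : G ⧸ N → ℂ) ∘ QuotientGroup.mk) ((ψ : G ⧸ N → ℂ) ∘ QuotientGroup.mk)) :
    SameBlock M (χ : G ⧸ N → ℂ) (ψ : G ⧸ N → ℂ) := by
  classical
  haveI : Fintype (G ⧸ N) := Fintype.ofFinite _
  haveI : Fintype N := Fintype.ofFinite _
  intro q
  let z : MonoidAlgebra ℂ G := (Nat.card N : ℂ)⁻¹ • ofFun fun g : G => (classElt q).coeff (g : G ⧸ N)
  have hzc : IsClassElt z := by
    refine IsClassElt.smul _ fun x y => ?_
    simp only [coeff_ofFun, QuotientGroup.mk_mul, QuotientGroup.mk_inv]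
    exact isClassElt_classElt q _ _
  have hzi : IsIntegralElt M z := IsIntegralElt.smul hM (memLocalRing_natCast_inv hM hNp) fun g => by
    rw [coeff_ofFun]; exact isIntegralElt_classElt hM q _
  have e : ∀ φ : IrrCharacter (G ⧸ N),
      omega (((φ : G ⧸ N → ℂ) ∘ QuotientGroup.mk) : G → ℂ) z = centralChar (φ : G ⧸ N → ℂ) q := by
    intro φ
    rw [← omega_classElt φ.2, omega_smul]
    simp only [omega, coeff_ofFun, Function.comp_apply, QuotientGroup.mk_one]
    rw [← mul_div_assoc]
    congr 1
    rw [← Equiv.sum_comp (Subgroup.groupEquivQuotientProdSubgroup (s := N)).symm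
      (fun g : G => (classElt q).coeff (g : G ⧸ N) * (φ : G ⧸ N → ℂ) (g : G ⧸ N)), Fintype.sum_prod_type, Finset.mul_sum]
    refine Finset.sum_congr rfl fun r _ => ?_
    have hmk : ∀ n : N, (((Subgroup.groupEquivQuotientProdSubgroup (s := N)).symm (r, n) : G) : G ⧸ N) = r := by
      intro n
      have h1 := congrArg Prod.fst ((Subgroup.groupEquivQuotientProdSubgroup (s := N)).apply_symm_apply (r, n))
      simpa [Subgroup.groupEquivQuotientProdSubgroup] using h1
    simp only [hmk, Finset.sum_const, Finset.card_univ, nsmul_eq_mul, ← Nat.card_eq_fintype_card]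
    rw [inv_mul_cancel_left₀ (Nat.cast_ne_zero.2 Nat.card_pos.ne')]
  have h1 := omega_sub_mem_of_sameBlock hM
    (φ := ⟨_, irr_comp_of_surjective χ.2 (QuotientGroup.mk' N) (QuotientGroup.mk'_surjective N)⟩)
    (ψ := ⟨_, irr_comp_of_surjective ψ.2 (QuotientGroup.mk' N) (QuotientGroup.mk'_surjective N)⟩) h hzc hzi
  rwa [← e χ, ← e ψ]

/-- A unit coefficient centralizing `P` makes some character of `H` nonzero on the idempotent. -/
theorem exists_not_small (hM : IsPModular p M) {B : Set (IrrCharacter G)} (hB : IsPBlock M B) {P H : Subgroup G}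
    [Fintype H] (hP : IsPGroup p P) (hPH : P ≤ H) (hCH : Subgroup.centralizer (P : Set G) ≤ H)
    (hHN : H ≤ Subgroup.normalizer (P : Set G)) {y : G} (hy : y ∈ Subgroup.centralizer (P : Set G))
    (hunit : ¬ MemLocalIdeal M (blockCoeff B y)) :
    ∃ ξ : IrrCharacter H, ¬ MemLocalIdeal M (omega (ξ : H → ℂ) (ZStar.res H (blockElt B))) := by
  classical
  haveI : Fintype (ConjClasses H) := Fintype.ofFinite _
  set C := Subgroup.centralizer (P : Set G) with hCdef
  haveI := Fintype.ofFinite C
  haveI : (P.subgroupOf H).Normal := (Subgroup.normal_subgroupOf_iff_le_normalizer hPH).2 hHN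
  haveI := Fintype.ofFinite (P.subgroupOf H)
  have hCmem : ∀ g, g ∈ C ↔ ∀ q ∈ P, q * g = g * q := fun g => Subgroup.mem_centralizer_iff
  have hQ : IsPGroup p (P.subgroupOf H) := hP.of_equiv (Subgroup.subgroupOfEquivOfLe hPH).symm
  have hmem : ∀ h : H, h ∈ Subgroup.centralizer ((P.subgroupOf H : Subgroup H) : Set H) ↔ (h : G) ∈ C := by
    intro h
    simp only [hCdef, Subgroup.mem_centralizer_iff, SetLike.mem_coe, Subgroup.mem_subgroupOf]
    exact ⟨fun k u hu => congrArg Subtype.val (k ⟨u, hPH hu⟩ hu), fun k u hu => Subtype.ext (k u hu)⟩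
  have hec := isClassElt_blockElt B
  have hei := isIntegralElt_blockElt hM hB
  -- the truncation to `C` inside `H`
  set r : MonoidAlgebra ℂ H := ofFun fun h : H => if (h : G) ∈ C then blockCoeff B (h : G) else 0 with hr
  have hrc : IsClassElt r := by
    intro x h
    simp only [hr, coeff_ofFun, ← hmem]
    have hn := (inferInstance : (Subgroup.centralizer ((P.subgroupOf H : Subgroup H) : Set H)).Normal)
    refine if_congr ⟨fun k => by
      have := hn.conj_mem _ k h⁻¹
      simpa [mul_assoc] using this, fun k => hn.conj_mem _ k h⟩ ?_ rfl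
    rw [← coeff_blockElt, ← coeff_blockElt]
    simpa using coeff_conj hec (x : G) (h : G)
  by_contra hcon
  push Not at hcon
  have hrsmall : ∀ ξ : IrrCharacter H, MemLocalIdeal M (omega (ξ : H → ℂ) r) := by
    intro ξ
    have h1 : MemLocalIdeal M (omega (ξ : H → ℂ) (ZStar.res H (blockElt B)) - omega (ξ : H → ℂ) r) := by
      rw [← omega_sub, omega_eq_sum_classes ξ ((ZStar.isClassElt_res hec H).sub hrc)]
      refine memLocalIdeal_sum hM _ fun K _ => ?_
      simp only [MonoidAlgebra.coeff_sub, Finsupp.sub_apply, ZStar.coeff_res, hr, coeff_ofFun, coeff_blockElt]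
      split_ifs with hK
      · rw [sub_self, zero_mul]; exact memLocalIdeal_zero hM
      · rw [sub_zero]
        exact memLocalIdeal_mul_left hM (memLocalRing_blockCoeff hM hB _)
          (centralChar_mem_of_notMem_centralizer hM (P.subgroupOf H) hQ ξ (fun k => hK ((hmem _).1 k)))
    simpa using memLocalIdeal_sub hM (hcon ξ) h1
  obtain ⟨N, hN0, hN⟩ := ZStar.exists_pow_isSmall hM hrc hrsmall
  obtain ⟨n, rfl⟩ : ∃ n, N = n + 1 := ⟨N - 1, by omega⟩
  let e : C → H := fun c => ⟨c, hCH c.2⟩
  have hpow : ∀ m : ℕ, ∀ h : H, (r ^ (m + 1)).coeff h =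
      if hh : (h : G) ∈ C then ((ZStar.res C (blockElt B)) ^ (m + 1)).coeff ⟨h, hh⟩ else 0 := by
    intro m
    induction m with
    | zero =>
      intro h
      simp only [zero_add, pow_one, hr, coeff_ofFun, ZStar.coeff_res, coeff_blockElt]
      split_ifs <;> rfl
    | succ m ih =>
      intro h
      rw [pow_succ r (m + 1), pow_succ (ZStar.res C (blockElt B)) (m + 1), ZStar.coeff_mul_eq]
      simp only [ih]
      simp only [hr, coeff_ofFun, Subgroup.coe_mul, Subgroup.coe_inv]
      split_ifs with hh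
      · rw [ZStar.coeff_mul_eq]
        simp only [ZStar.coeff_res, coeff_blockElt, Subgroup.coe_mul, Subgroup.coe_inv]
        rw [← Finset.sum_subset (Finset.subset_univ (Finset.univ.image e))]
        · rw [Finset.sum_image (fun a _ b _ hab => Subtype.ext (by simpa [e] using hab))]
          exact Finset.sum_congr rfl fun c _ => by
            simp only [e]
            rw [dif_pos c.2, if_pos (C.mul_mem (C.inv_mem c.2) hh)]
        · intro x _ hx
          rw [dif_neg (fun k => hx (Finset.mem_image.2 ⟨⟨x, k⟩, Finset.mem_univ _, rfl⟩)), zero_mul]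
      · refine Finset.sum_eq_zero fun x _ => ?_
        by_cases hx : (x : G) ∈ C
        · rw [if_neg (fun k => hh (by simpa using C.mul_mem hx k)), mul_zero]
        · rw [dif_neg hx, zero_mul]
  have hidem : blockElt B ^ (n + 1) = blockElt B := (isIdempotentElem_blockElt B).pow_succ_eq n
  have h := ZStar.res_pow_congr hM hP hCmem hei (ZStar.IsClassElt.conjInv hec _) (n + 1) ⟨y, hy⟩
  rw [hidem, ZStar.coeff_res, coeff_blockElt] at h
  have h2 := hN ⟨y, hCH hy⟩
  rw [hpow n, dif_pos hy] at h2
  exact hunit (by simpa using memLocalIdeal_add hM h h2)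

/-- A normal `p`-subgroup of `H` lies in a defect group of every block nonzero on some character of `H`. -/
theorem le_defectGroup_of_not_small (hM : IsPModular p M) {B : Set (IrrCharacter G)} (hB : IsPBlock M B)
    {H : Subgroup G} [Fintype H] (Q : Subgroup H) [Q.Normal] (hQ : IsPGroup p Q) (ξ : IrrCharacter H)
    (hns : ¬ MemLocalIdeal M (omega (ξ : H → ℂ) (ZStar.res H (blockElt B)))) :
    ∃ E : Subgroup G, IsDefectGroup p M B E ∧ Q.map H.subtype ≤ E := by
  classical
  haveI : Fintype (ConjClasses H) := Fintype.ofFinite _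
  haveI := Fintype.ofFinite Q
  rw [omega_eq_sum_classes ξ (ZStar.isClassElt_res (isClassElt_blockElt B) H)] at hns
  obtain ⟨K, hK1, hK2⟩ : ∃ K : ConjClasses H, ¬ MemLocalIdeal M (blockCoeff B ((K.out : H) : G)) ∧
      ¬ MemLocalIdeal M (centralChar (ξ : H → ℂ) K.out) := by
    by_contra hcon
    push Not at hcon
    refine hns (memLocalIdeal_sum hM _ fun K _ => ?_)
    rw [ZStar.coeff_res, coeff_blockElt]
    by_cases h3 : MemLocalIdeal M (blockCoeff B ((K.out : H) : G))
    · exact memLocalIdeal_mul_right hM h3 (memLocalRing_centralChar hM ξ _)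
    · exact memLocalIdeal_mul_left hM (memLocalRing_blockCoeff hM hB _) (hcon _ h3)
  have hcent : (K.out : H) ∈ Subgroup.centralizer (Q : Set H) := by
    by_contra h
    exact hK2 (centralChar_mem_of_notMem_centralizer hM Q hQ ξ h)
  refine exists_defectGroup_ge hM hB hK1 (hQ.map _) ?_
  rintro _ ⟨q, hq, rfl⟩
  exact congrArg Subtype.val (Subgroup.mem_centralizer_iff.1 hcent q hq)

end CfsgLib.Blocks
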