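import Cfsg.Agent.Blocks.DefectGroup

/-!
# Conjugacy of defect groups
-/

namespace CfsgLib.Blocks

open Cfsg CfsgLib.CharBasics

variable {G : Type*} [Group G] [Fintype G] {p : ℕ} {M : Ideal AlgInt} {B : Set (IrrCharacter G)}

theorem isPGroup_of_isDefectGroup {D : Subgroup G} (hD : IsDefectGroup p M B D) : IsPGroup p D := by
  obtain ⟨g, -, S, rfl⟩ := hD
  exact S.isPGroup'.map _

/-- A `p`-subgroup of `p'`-index in the centralizer of a defect element is a defect group. -/
theorem isDefectGroup_of_relIndex (hM : IsPModular p M) {g : G} (hg : IsDefectClass M B g) {D : Subgroup G}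
    (hDp : IsPGroup p D) (hDC : D ≤ Subgroup.centralizer ({g} : Set G))
    (hidx : ¬ p ∣ D.relIndex (Subgroup.centralizer ({g} : Set G))) : IsDefectGroup p M B D := by
  haveI := Fact.mk hM.1
  refine ⟨g, hg, (hDp.of_equiv (Subgroup.subgroupOfEquivOfLe hDC).symm).toSylow hidx, ?_⟩
  show D = (D.subgroupOf _).map _
  rw [Subgroup.map_subgroupOf_eq_of_le hDC]

theorem isDefectGroup_map_conj (hM : IsPModular p M) (hB : IsPBlock M B) {D : Subgroup G}
    (hD : IsDefectGroup p M B D) (c : G) : IsDefectGroup p M B (D.map (MulAut.conj c).toMonoidHom) := by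
  haveI := Fact.mk hM.1
  obtain ⟨g, hg, S, rfl⟩ := hD
  have e : Subgroup.centralizer ({c * g * c⁻¹} : Set G) =
      (Subgroup.centralizer ({g} : Set G)).map (MulAut.conj c).toMonoidHom := by
    ext x
    rw [Subgroup.mem_map]
    constructor
    · intro hx
      refine ⟨c⁻¹ * x * c, ?_, ?_⟩
      · rw [Subgroup.mem_centralizer_singleton_iff] at hx ⊢
        calc c⁻¹ * x * c * g = c⁻¹ * (x * (c * g * c⁻¹)) * c := by group
          _ = c⁻¹ * (c * g * c⁻¹ * x) * c := by rw [hx]
          _ = _ := by group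
      · show c * (c⁻¹ * x * c) * c⁻¹ = x
        group
    · rintro ⟨y, hy, rfl⟩
      rw [Subgroup.mem_centralizer_singleton_iff] at hy ⊢
      show c * y * c⁻¹ * (c * g * c⁻¹) = c * g * c⁻¹ * (c * y * c⁻¹)
      calc c * y * c⁻¹ * (c * g * c⁻¹) = c * (y * g) * c⁻¹ := by group
        _ = c * (g * y) * c⁻¹ := by rw [hy]
        _ = _ := by group
  refine isDefectGroup_of_relIndex hM (isDefectGroup_conj hM hB hg c) ((S.isPGroup'.map _).map _) ?_ ?_
  · rw [e]; exact Subgroup.map_mono (Subgroup.map_subtype_le _)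
  · rw [e, Subgroup.relIndex_map_map_of_injective _ _ (MulAut.conj c).injective]
    simpa [Subgroup.relIndex, Subgroup.subgroupOf, Subgroup.comap_map_eq_self_of_injective
      (Subgroup.centralizer ({g} : Set G)).subtype_injective] using S.not_dvd_index

/-- Defect groups are conjugate. -/
theorem exists_conj_eq_defectGroup (hM : IsPModular p M) (hB : IsPBlock M B) {D E : Subgroup G}
    (hD : IsDefectGroup p M B D) (hE : IsDefectGroup p M B E) :
    ∃ c : G, D.map (MulAut.conj c).toMonoidHom = E := by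
  have hDp := isPGroup_of_isDefectGroup hD
  have h1 := card_defectGroup hM hB hD
  have h2 := card_defectGroup hM hB hE
  obtain ⟨g, hg, S, rfl⟩ := hD
  obtain ⟨c, hc⟩ := exists_conj_mem_defectGroup hM hB hg.2.1 hDp
    (fun q hq => Subgroup.mem_centralizer_singleton_iff.1 (Subgroup.map_subtype_le _ hq)) hE
  refine ⟨c, Subgroup.eq_of_le_of_card_ge ?_ ?_⟩
  · rintro _ ⟨q, hq, rfl⟩; exact hc q hq
  · rw [Subgroup.card_map_of_injective (MulAut.conj c).injective, h1, h2]

end CfsgLib.Blocks
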