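import Cfsg.Agent.Clifford.LinChar
import Cfsg.Agent.CharBasics.Basic
import Cfsg.Agent.DefectOne.Spectrum
import Cfsg.Agent.BrauerInd.Galois

/-!
# The determinant of a character twisted by a power map
-/

set_option autoImplicit false

namespace CfsgLib.DetTwist

open Cfsg CfsgLib.CharBasics CfsgLib.Clifford Polynomial

/-- Equal power sums force equal multisets. -/
theorem multiset_eq_of_powSums {K : Type*} [Field K] [CharZero K] [DecidableEq K] (s t : Multiset K)
    (h : ∀ j : ℕ, (s.map fun x => x ^ j).sum = (t.map fun x => x ^ j).sum) : s = t := by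
  have hP : ∀ P : K[X], (s.map fun x => P.eval x).sum = (t.map fun x => P.eval x).sum := by
    intro P
    induction P using Polynomial.induction_on' with
    | add P Q hP hQ => simp only [eval_add, Multiset.sum_map_add, hP, hQ]
    | monomial j c => simp only [eval_monomial, Multiset.sum_map_mul_left, h j]
  refine Multiset.ext' fun v => ?_
  set P : K[X] := ∏ w ∈ ((s + t).toFinset.erase v), C (v - w)⁻¹ * (X - C w) with hPdef
  have hv : P.eval v = 1 := by
    rw [hPdef, eval_prod]
    refine Finset.prod_eq_one fun w hw => ?_
    simp [inv_mul_cancel₀ (sub_ne_zero.2 (Finset.ne_of_mem_erase hw).symm)]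
  have hne : ∀ w ∈ s + t, w ≠ v → P.eval w = 0 := by
    intro w hw hwv
    rw [hPdef, eval_prod]
    exact Finset.prod_eq_zero (i := w) (Finset.mem_erase.2 ⟨hwv, Multiset.mem_toFinset.2 hw⟩) (by simp)
  have key : ∀ u : Multiset K, u ≤ s + t → (u.map fun x => P.eval x).sum = (u.count v : K) := by
    intro u hu
    induction u using Multiset.induction_on with
    | empty => simp
    | cons a u ih =>
      have ha : a ∈ s + t := Multiset.mem_of_le hu (Multiset.mem_cons_self a u)
      rw [Multiset.map_cons, Multiset.sum_cons, ih ((Multiset.le_cons_self u a).trans hu), Multiset.count_cons]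
      rcases eq_or_ne a v with rfl | hav
      · rw [hv, if_pos rfl]; push_cast; ring
      · rw [hne a ha hav, if_neg hav.symm]; simp
  have := hP P
  rw [key s (Multiset.le_add_right s t), key t (Multiset.le_add_left t s)] at this
  exact_mod_cast this

variable {G : Type*} [Group G] [Finite G]

/-- The determinant as the product of the eigenvalues. -/
theorem detChar_eq_prod {χ : G → ℂ} (hχ : IsIrrCharacter G χ) {g : G} (lam : Fin (charDegree χ) → ℂ)
    (h : ∀ j : ℕ, χ (g ^ j) = ∑ i, lam i ^ j) : detChar χ g = ∏ i, lam i := by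
  classical
  obtain ⟨n, ρ, hρ, hc⟩ := id hχ
  set A : Matrix (Fin n) (Fin n) ℂ := LinearMap.toMatrix' (ρ g) with hA
  have hcard : A.charpoly.roots.card = n := by
    rw [IsAlgClosed.card_roots_eq_natDegree, Matrix.charpoly_natDegree_eq_dim, Fintype.card_fin]
  have hn : charDegree χ = n := by
    have h1 := apply_one (isCharacter_of_irr hχ)
    rw [← hc, Representation.char_one, Module.finrank_fin_fun] at h1
    exact_mod_cast (hc ▸ h1).symm
  have heq : A.charpoly.roots = (Finset.univ : Finset (Fin (charDegree χ))).val.map lam := by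
    refine multiset_eq_of_powSums _ _ fun j => ?_
    rcases Nat.eq_zero_or_pos j with rfl | hj
    · simp only [pow_zero, Multiset.map_const', Multiset.sum_replicate, Multiset.card_map, hcard,
        Finset.card_val, Finset.card_univ, Fintype.card_fin, hn]
    · rw [← DefectOne.trace_pow_eq_sum_roots A j hj, Multiset.map_map]
      refine Eq.trans ?_ (h j)
      rw [← hc, Representation.character, map_pow, LinearMap.trace_eq_matrix_trace ℂ (Pi.basisFun ℂ (Fin n)),
        LinearMap.toMatrix_eq_toMatrix', hA]
      exact congrArg Matrix.trace (map_pow LinearMap.toMatrixAlgEquiv' (ρ g) j).symm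
  rw [detChar_eq hχ ρ hc]
  dsimp only
  rw [← LinearMap.det_toMatrix', ← hA, Matrix.det_eq_prod_roots_charpoly, heq]
  rfl

/-- The determinant of a twisted character is the power of the determinant. -/
theorem detOrder_pow_dvd {k : ℕ} (hk : k.Coprime (Nat.card G)) {χ : G → ℂ} (hχ : IsIrrCharacter G χ) :
    detOrder (fun g => χ (g ^ k)) ∣ detOrder χ := by
  classical
  have hσ := BrauerInd.isIrr_pow hk hχ
  have key : detChar (fun g => χ (g ^ k)) = detChar χ ^ k := by
    funext g
    obtain ⟨lam, -, hval⟩ := exists_eigen (isCharacter_of_irr hχ) g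
    have hdeg : charDegree (fun g => χ (g ^ k)) = charDegree χ := by
      simp only [charDegree, one_pow]
    rw [Pi.pow_apply, detChar_eq_prod hχ lam hval, ← Finset.prod_pow,
      detChar_eq_prod hσ (fun i => lam (Fin.cast hdeg i) ^ k) (fun j => ?_)]
    · exact Fintype.prod_equiv (finCongr hdeg) _ _ fun i => rfl
    · show χ ((g ^ j) ^ k) = _
      rw [← pow_mul, hval]
      exact (Fintype.sum_equiv (finCongr hdeg) _ _ fun i => by
        show (lam (Fin.cast hdeg i) ^ k) ^ j = lam (Fin.cast hdeg i) ^ (j * k)
        rw [← pow_mul, mul_comm]).symm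
  rw [detOrder, detOrder, key]
  exact orderOf_pow_dvd k

end CfsgLib.DetTwist
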