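import Cfsg.Agent.Blocks.Covering
import Cfsg.Agent.S0932
import Cfsg.Agent.S0963

/-!
# Blocks over a normal subgroup: support arguments
-/

set_option linter.unusedSectionVars false
set_option linter.style.haveILetI false

namespace CfsgLib.Blocks

open Cfsg CfsgLib.CharBasics CfsgLib.Clifford
open scoped ComplexConjugate

universe u

variable {G : Type u} [Group G] [Fintype G] {p : ℕ} {M : Ideal AlgInt}
  {N : Subgroup G} [N.Normal] [Fintype N]

/-- Every irreducible character of a subgroup lies under one of the group. -/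
theorem exists_over_character (θ : IrrCharacter N) :
    ∃ χ : IrrCharacter G, classInner (fun n : N => (χ : G → ℂ) n) (θ : N → ℂ) ≠ 0 := by
  have hc := CharBasics.isCharacter_indFun N (isCharacter_of_irr θ.2)
  obtain ⟨χ, m, hm, hχ⟩ := CharBasics.exists_constituent hc (by
    rw [CharBasics.indFun_apply_one]
    exact mul_ne_zero (Nat.cast_ne_zero.2 Subgroup.index_ne_zero_of_finite) (apply_one_ne_zero θ.2))
  refine ⟨χ, fun h0 => hm.ne' ?_⟩
  rw [CharBasics.classInner_indFun N (θ : N → ℂ) (isClassFunction (isCharacter_of_irr χ.2)),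
    classInner_comm, h0, map_zero] at hχ
  exact_mod_cast hχ.symm

/-- Outside a normal subgroup of `p`-power index the block idempotents vanish. -/
theorem blockCoeff_eq_zero_of_notMem (hM : IsPModular p M) (hidx : ∃ k : ℕ, N.index = p ^ k)
    {B : Set (IrrCharacter G)} (hB : IsPBlock M B) {g : G} (hg : g ∉ N) : blockCoeff B g = 0 := by
  by_cases hp : p ∣ orderOf g
  · exact blockCoeff_eq_zero hM hB hp
  obtain ⟨k, hk⟩ := hidx
  have h1 : orderOf (QuotientGroup.mk' N g) ∣ orderOf g := orderOf_map_dvd _ g
  have h2 : orderOf (QuotientGroup.mk' N g) ∣ p ^ k := by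
    rw [← hk, Subgroup.index_eq_card]; exact orderOf_dvd_natCard _
  have h3 : orderOf (QuotientGroup.mk' N g) = 1 :=
    Nat.dvd_one.1 (((hM.1.coprime_iff_not_dvd.2 hp).pow_left k).symm ▸ Nat.dvd_gcd h1 h2)
  exact absurd ((QuotientGroup.eq_one_iff g).1 (orderOf_eq_one_iff.1 h3)) hg

/-- Over a normal subgroup of `p`-power index, blocks below determine blocks above. -/
theorem sameBlock_of_constituents (hM : IsPModular p M) (hidx : ∃ k : ℕ, N.index = p ^ k)
    {χ ψ : IrrCharacter G} {θ φ : IrrCharacter N} (h : SameBlock M (θ : N → ℂ) (φ : N → ℂ))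
    (hθ : classInner (fun n : N => (χ : G → ℂ) n) (θ : N → ℂ) ≠ 0)
    (hφ : classInner (fun n : N => (ψ : G → ℂ) n) (φ : N → ℂ) ≠ 0) :
    SameBlock M (χ : G → ℂ) (ψ : G → ℂ) := by
  classical
  have hB := isPBlock_blockOf M χ
  have hc := isClassElt_blockElt (blockOf M (χ : G → ℂ))
  have hsupp : ∀ g, g ∉ N → (blockElt (blockOf M (χ : G → ℂ))).coeff g = 0 := fun g hg => by
    rw [coeff_blockElt]; exact blockCoeff_eq_zero_of_notMem hM hidx hB hg
  have h1 := omega_sub_mem_of_sameBlock hM h (ZStar.isClassElt_res hc N)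
    (ZStar.isIntegralElt_res (isIntegralElt_blockElt hM hB) N)
  rw [← omega_eq_res_constituent hc hsupp χ θ hθ, ← omega_eq_res_constituent hc hsupp ψ φ hφ,
    omega_blockElt, omega_blockElt, if_pos (mem_blockOf_self hM χ)] at h1
  by_contra hne
  rw [if_neg (show ψ ∉ blockOf M (χ : G → ℂ) from hne), sub_zero] at h1
  exact not_memLocalIdeal_one hM h1

/-- The class sum of a member of a normal subgroup restricts to the induced central character. -/
theorem omega_res_classElt (θ : IrrCharacter N) (n : N) :
    omega (θ : N → ℂ) (ZStar.res N (classElt (n : G))) = inducedCentralChar N (θ : N → ℂ) (n : G) := by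
  obtain ⟨χ, hχ⟩ := exists_over_character (G := G) θ
  have hsupp : ∀ g, g ∉ N → (classElt (n : G)).coeff g = 0 := fun g hg => by
    classical
    rw [coeff_classElt, if_neg]
    intro hc
    obtain ⟨c, rfl⟩ := isConj_iff.1 hc
    exact hg (Subgroup.Normal.conj_mem inferInstance _ n.2 c)
  rw [← omega_eq_res_constituent (isClassElt_classElt _) hsupp χ θ hχ, omega_classElt χ.2]
  exact (Cfsg.Agent.S0963.result N χ θ).1 hχ n

end CfsgLib.Blocks
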