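import Cfsg.Agent.Blocks.Covering
import Cfsg.Agent.Blocks.PIndex
import Cfsg.Agent.Blocks.DefectConj
import Cfsg.Agent.S0932
import Cfsg.Agent.S0917
import Cfsg.Agent.Clifford.Correspondence
import Cfsg.Prelude.Def_BrauerPairs

/-!
# The stabilizer correspondence for blocks (Fong–Reynolds)
-/

set_option linter.unusedSectionVars false
set_option linter.style.haveILetI false

namespace CfsgLib.Blocks

open Cfsg CfsgLib.CharBasics CfsgLib.Clifford
open scoped ComplexConjugate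

universe u

/-- Induction of an integral class function gives an integral class function. -/
theorem memLocalRing_indFun {G : Type u} [Group G] [Fintype G] {p : ℕ} {M : Ideal AlgInt} (hM : IsPModular p M)
    (T : Subgroup G) {y : T → ℂ} (hy : IsClassFunction T y) (hyi : ∀ t, MemLocalRing M (y t)) (g : G) :
    MemLocalRing M (indFun T y g) := by
  classical
  haveI : Fintype T := Fintype.ofFinite _
  haveI : Fintype (G ⧸ T) := Fintype.ofFinite _
  have hF : ∀ (z : G) (t : T), extendByZero T y ((t : G)⁻¹ * z * (t : G)) = extendByZero T y z := by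
    intro z t
    by_cases hz : z ∈ T
    · rw [show z = ((⟨z, hz⟩ : T) : G) from rfl, ← Subgroup.coe_inv, ← Subgroup.coe_mul, ← Subgroup.coe_mul,
        extendByZero_coe, extendByZero_coe]
      have h := hy ⟨z, hz⟩ t⁻¹
      rwa [inv_inv] at h
    · have h2 : (t : G)⁻¹ * z * (t : G) ∉ T := fun h => hz (by
        simpa [mul_assoc] using T.mul_mem (T.mul_mem t.2 h) (T.inv_mem t.2))
      rw [extendByZero_of_not_mem T y hz, extendByZero_of_not_mem T y h2]
  have hsymm : ∀ (q : G ⧸ T) (t : T), ∃ t' : T,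
      ((Subgroup.groupEquivQuotientProdSubgroup (s := T)).symm (q, t) : G) = q.out * t' := fun q t => by
    have h1 := congrArg Prod.fst ((Subgroup.groupEquivQuotientProdSubgroup (s := T)).apply_symm_apply (q, t))
    have hmk : (((Subgroup.groupEquivQuotientProdSubgroup (s := T)).symm (q, t) : G) : G ⧸ T) = q := by
      simpa [Subgroup.groupEquivQuotientProdSubgroup] using h1
    refine ⟨⟨q.out⁻¹ * _, ?_⟩, (mul_inv_cancel_left _ _).symm⟩
    exact QuotientGroup.eq.1 ((QuotientGroup.out_eq' q).trans hmk.symm)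
  rw [indFun, ← Equiv.sum_comp (Subgroup.groupEquivQuotientProdSubgroup (s := T)).symm, Fintype.sum_prod_type,
    Finset.mul_sum]
  refine memLocalRing_sum hM _ fun q _ => ?_
  have e : ∀ t : T, extendByZero T y (((Subgroup.groupEquivQuotientProdSubgroup (s := T)).symm (q, t))⁻¹ * g *
      (Subgroup.groupEquivQuotientProdSubgroup (s := T)).symm (q, t)) = extendByZero T y (q.out⁻¹ * g * q.out) := by
    intro t
    obtain ⟨t', ht'⟩ := hsymm q t
    rw [ht', ← hF (q.out⁻¹ * g * q.out) t']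
    congr 1
    group
  rw [Finset.sum_congr rfl fun t _ => e t, Finset.sum_const, Finset.card_univ, nsmul_eq_mul,
    ← Nat.card_eq_fintype_card, inv_mul_cancel_left₀ (Nat.cast_ne_zero.2 Nat.card_pos.ne')]
  by_cases hq : q.out⁻¹ * g * q.out ∈ T
  · rw [show q.out⁻¹ * g * q.out = ((⟨_, hq⟩ : T) : G) from rfl, extendByZero_coe]
    exact hyi _
  · rw [extendByZero_of_not_mem T y hq]
    exact memLocalRing_zero hM

variable {G : Type u} [Group G] [Fintype G] {p : ℕ} {M : Ideal AlgInt}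
variable {N : Subgroup G} [hN : N.Normal] [Fintype N] {b : Set (IrrCharacter N)}
variable {T : Subgroup G} [Fintype T]

/-- `T` is the stabilizer of the set `b` of characters of `N`. -/
def IsStab (b : Set (IrrCharacter N)) (T : Subgroup G) : Prop :=
  ∀ g : G, g ∈ T ↔ ∀ θ ∈ b, ∀ θ' : IrrCharacter N, (θ' : N → ℂ) = conjFun g (θ : N → ℂ) → θ' ∈ b

theorem sameBlock_conjFun (hM : IsPModular p M) (g : G) {θ φ : IrrCharacter N}
    (h : SameBlock M (θ : N → ℂ) (φ : N → ℂ)) :
    SameBlock M (conjFun g (θ : N → ℂ)) (conjFun g (φ : N → ℂ)) := by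
  classical
  intro n
  have key : ∀ ρ : IrrCharacter N, centralChar (conjFun g (ρ : N → ℂ)) n
      = omega (ρ : N → ℂ) (ofFun fun m : N => (classElt n).coeff ((MulAut.conjNormal g).symm m)) := by
    intro ρ
    rw [← omega_classElt (isIrrCharacter_conjFun g ρ.2), omega, omega, conjFun_eq_comp]
    simp only [map_one]
    congr 1
    refine Fintype.sum_equiv (MulAut.conjNormal g : MulAut N).toEquiv _ _ fun m => ?_
    simp [coeff_ofFun]
  rw [key, key]
  refine omega_sub_mem_of_sameBlock hM h (fun x y => ?_) (fun x => ?_)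
  · simp only [coeff_ofFun, map_mul, map_inv]
    exact coeff_conj (isClassElt_classElt n) _ _
  · rw [coeff_ofFun]
    exact isIntegralElt_classElt hM n _

/-- One member moved into the block puts an element in the stabilizer. -/
theorem mem_stab_of_conj (hM : IsPModular p M) (hb : IsPBlock M b) (hT : IsStab b T) {g : G}
    {θ φ : IrrCharacter N} (hθ : θ ∈ b) (hφ : φ ∈ b) (h : (φ : N → ℂ) = conjFun g (θ : N → ℂ)) : g ∈ T := by
  refine (hT g).2 fun θ' hθ' φ' hφ' => (IsPBlock.mem_iff hM hb hφ).2 ?_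
  rw [h, hφ']
  exact sameBlock_conjFun hM g ((IsPBlock.mem_iff hM hb hθ).1 hθ')

/-- The restriction to `N`. -/
abbrev resN (hNT : N ≤ T) (ψ : T → ℂ) : N → ℂ := fun n => ψ ⟨(n : G), hNT n.2⟩

theorem constituent_conj_of_le (hNT : N ≤ T) (ψ : IrrCharacter T) {θ φ : IrrCharacter N}
    (hθ : classInner (resN hNT (ψ : T → ℂ)) (θ : N → ℂ) ≠ 0)
    (hφ : classInner (resN hNT (ψ : T → ℂ)) (φ : N → ℂ) ≠ 0) :
    ∃ t : G, t ∈ T ∧ (φ : N → ℂ) = conjFun t (θ : N → ℂ) := by
  classical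
  let e : N.subgroupOf T ≃* N := Subgroup.subgroupOfEquivOfLe hNT
  have hirr : ∀ ρ : IrrCharacter N, IsIrrCharacter (N.subgroupOf T) (fun m => (ρ : N → ℂ) (e m)) := fun ρ =>
    CfsgLib.Clifford.isIrrCharacter_comp ρ.2 e.toMonoidHom e.surjective
  have hinner : ∀ ρ : IrrCharacter N, classInner (fun m : N.subgroupOf T => (ψ : T → ℂ) m)
      (fun m => (ρ : N → ℂ) (e m)) = classInner (resN hNT (ψ : T → ℂ)) (ρ : N → ℂ) := fun ρ =>
    classInner_comp_equiv e (resN hNT (ψ : T → ℂ)) (ρ : N → ℂ)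
  obtain ⟨t, ht⟩ := constituent_conj ψ.2 (hirr θ) (hirr φ) (by rw [hinner]; exact hθ) (by rw [hinner]; exact hφ)
  refine ⟨t, t.2, funext fun n => ?_⟩
  have h := congrFun ht (e.symm n)
  simp only [MulEquiv.apply_symm_apply] at h
  exact h

theorem resN_constituent (hNT : N ≤ T) (ψ : IrrCharacter T) :
    ∃ θ : IrrCharacter N, classInner (resN hNT (ψ : T → ℂ)) (θ : N → ℂ) ≠ 0 := by
  have hc : IsCharacter N (resN hNT (ψ : T → ℂ)) :=
    CharBasics.isCharacter_comp (isCharacter_of_irr ψ.2) (Subgroup.inclusion hNT)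
  obtain ⟨θ, m, hm, h⟩ := exists_constituent hc (by
    show (ψ : T → ℂ) (Subgroup.inclusion hNT 1) ≠ 0
    rw [map_one]
    exact apply_one_ne_zero ψ.2)
  exact ⟨θ, by rw [h]; exact Nat.cast_ne_zero.2 hm.ne'⟩

/-- A constituent in the stabilized block puts all of them there. -/
theorem constituent_mem (hT : IsStab b T) (hNT : N ≤ T) (ψ : IrrCharacter T) {θ : IrrCharacter N} (hθ : θ ∈ b)
    (h : classInner (resN hNT (ψ : T → ℂ)) (θ : N → ℂ) ≠ 0) {φ : IrrCharacter N}
    (hφ : classInner (resN hNT (ψ : T → ℂ)) (φ : N → ℂ) ≠ 0) : φ ∈ b := by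
  obtain ⟨t, ht, he⟩ := constituent_conj_of_le hNT ψ h hφ
  exact (hT t).1 ht θ hθ φ he

/-- The idempotent of `b` inside `T`. -/
noncomputable def idemT (b : Set (IrrCharacter N)) (T : Subgroup G) [Fintype T] : MonoidAlgebra ℂ T :=
  ofFun fun t : T => subgroupBlockCoeff N b (t : G)

theorem omega_idemT [DecidablePred (· ∈ b)] [Fintype (IrrCharacter N)] (hNT : N ≤ T) (ψ : IrrCharacter T) :
    omega (ψ : T → ℂ) (idemT b T) = (∑ φ : IrrCharacter N, if φ ∈ b then
      classInner (resN hNT (ψ : T → ℂ)) (φ : N → ℂ) * (φ : N → ℂ) 1 else 0) / (ψ : T → ℂ) 1 := by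
  classical
  rw [omega]
  congr 1
  have h1 : ∑ t : T, (idemT b T).coeff t * (ψ : T → ℂ) t = ∑ n : N, blockCoeff b n * resN hNT (ψ : T → ℂ) n := by
    symm
    rw [← Finset.sum_subset (Finset.subset_univ (Finset.univ.image (Subgroup.inclusion hNT)))]
    · rw [Finset.sum_image (fun x _ y _ h => Subgroup.inclusion_injective hNT h)]
      refine Finset.sum_congr rfl fun n _ => ?_
      rw [idemT, coeff_ofFun, subgroupBlockCoeff, dif_pos (show ((Subgroup.inclusion hNT n : T) : G) ∈ N from n.2)]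
      rfl
    · intro t _ ht
      rw [idemT, coeff_ofFun, subgroupBlockCoeff, dif_neg, zero_mul]
      exact fun hn => ht (Finset.mem_image.2 ⟨⟨_, hn⟩, Finset.mem_univ _, Subtype.ext rfl⟩)
  rw [h1]
  have hexp : resN hNT (ψ : T → ℂ) = ∑ φ : IrrCharacter N,
      classInner (resN hNT (ψ : T → ℂ)) (φ : N → ℂ) • (φ : N → ℂ) :=
    classFun_expand (isClassFunction (CharBasics.isCharacter_comp (isCharacter_of_irr ψ.2) (Subgroup.inclusion hNT)))
  conv_lhs => rw [hexp]
  simp only [Finset.sum_apply, Pi.smul_apply, smul_eq_mul, Finset.mul_sum]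
  rw [Finset.sum_comm]
  refine Finset.sum_congr rfl fun φ _ => ?_
  have h2 := omega_blockElt b φ
  simp only [omega, coeff_blockElt] at h2
  rw [div_eq_iff (apply_one_ne_zero φ.2)] at h2
  calc ∑ n : N, blockCoeff b n * (classInner (resN hNT (ψ : T → ℂ)) (φ : N → ℂ) * (φ : N → ℂ) n)
      = classInner (resN hNT (ψ : T → ℂ)) (φ : N → ℂ) * ∑ n : N, blockCoeff b n * (φ : N → ℂ) n := by
        rw [Finset.mul_sum]; exact Finset.sum_congr rfl fun n _ => by ring
    _ = _ := by rw [h2]; split_ifs <;> ring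

theorem omega_idemT_eq_zero (hNT : N ≤ T) (ψ : IrrCharacter T)
    (h : ∀ φ ∈ b, classInner (resN hNT (ψ : T → ℂ)) (φ : N → ℂ) = 0) : omega (ψ : T → ℂ) (idemT b T) = 0 := by
  classical
  haveI : Fintype (IrrCharacter N) := @Fintype.ofFinite _ finite_irrCharacter
  rw [omega_idemT hNT, Finset.sum_eq_zero, zero_div]
  intro φ _
  split_ifs with hφ
  · rw [h φ hφ, zero_mul]
  · rfl

theorem omega_idemT_eq_one (hNT : N ≤ T) (ψ : IrrCharacter T)
    (h : ∀ φ : IrrCharacter N, classInner (resN hNT (ψ : T → ℂ)) (φ : N → ℂ) ≠ 0 → φ ∈ b) :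
    omega (ψ : T → ℂ) (idemT b T) = 1 := by
  classical
  haveI : Fintype (IrrCharacter N) := @Fintype.ofFinite _ finite_irrCharacter
  have hexp : (ψ : T → ℂ) 1 = (∑ φ : IrrCharacter N,
      classInner (resN hNT (ψ : T → ℂ)) (φ : N → ℂ) • (φ : N → ℂ)) 1 :=
    congrFun (classFun_expand (isClassFunction
      (CharBasics.isCharacter_comp (isCharacter_of_irr ψ.2) (Subgroup.inclusion hNT)))) 1
  simp only [Finset.sum_apply, Pi.smul_apply, smul_eq_mul] at hexp
  rw [omega_idemT hNT, div_eq_one_iff_eq (apply_one_ne_zero ψ.2)]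
  refine Eq.trans ?_ hexp.symm
  refine Finset.sum_congr rfl fun φ _ => ?_
  split_ifs with hφ
  · rfl
  · rw [by_contra fun hne => hφ (h φ hne), zero_mul]

theorem isClassElt_idemT (hT : IsStab b T) : IsClassElt (idemT b T) := by
  classical
  intro x t
  simp only [idemT, coeff_ofFun, subgroupBlockCoeff, Subgroup.coe_mul, Subgroup.coe_inv]
  have hiff : (t : G) * (x : G) * (t : G)⁻¹ ∈ N ↔ (x : G) ∈ N :=
    ⟨fun h => by simpa [mul_assoc] using hN.conj_mem _ h (t : G)⁻¹, fun h => hN.conj_mem _ h _⟩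
  by_cases hx : (x : G) ∈ N
  · rw [dif_pos hx, dif_pos (hiff.2 hx)]
    haveI : Fintype (IrrCharacter N) := @Fintype.ofFinite _ finite_irrCharacter
    rw [blockCoeff_eq, blockCoeff_eq]
    congr 1
    let tw : G → IrrCharacter N → IrrCharacter N := fun g ρ => ⟨conjFun g (ρ : N → ℂ), isIrrCharacter_conjFun g ρ.2⟩
    have hinv : ∀ g ρ, tw g⁻¹ (tw g ρ) = ρ := fun g ρ => Subtype.ext (conjFun_inv_cancel g _)
    refine Fintype.sum_equiv
      { toFun := tw (t : G), invFun := tw (t : G)⁻¹, left_inv := hinv _,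
        right_inv := fun ρ => by have := hinv (t : G)⁻¹ ρ; rwa [inv_inv] at this } _ _ fun ρ => ?_
    have hmem : tw (t : G) ρ ∈ b ↔ ρ ∈ b :=
      ⟨fun h => hinv (t : G) ρ ▸ (hT _).1 (T.inv_mem t.2) _ h _ rfl, fun h => (hT _).1 t.2 ρ h _ rfl⟩
    show _ = if tw (t : G) ρ ∈ b then _ else _
    refine if_congr hmem.symm ?_ rfl
    show _ = conjFun (t : G) (ρ : N → ℂ) 1 * conj (conjFun (t : G) (ρ : N → ℂ) ⟨(x : G), hx⟩)
    rw [conjFun_apply, conjFun_apply]
    congr 1
    exact congrArg _ (Subtype.ext (by simp))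
  · rw [dif_neg hx, dif_neg (fun h => hx (hiff.1 h))]

theorem isIntegralElt_idemT (hM : IsPModular p M) (hb : IsPBlock M b) : IsIntegralElt M (idemT b T) := by
  intro t
  simp only [idemT, coeff_ofFun, subgroupBlockCoeff]
  split_ifs with h
  · exact memLocalRing_blockCoeff hM hb _
  · exact memLocalRing_zero hM

/-- All members of a block of `T` covering `b` have all constituents in `b`. -/
theorem constituent_mem_block (hM : IsPModular p M) (hb : IsPBlock M b) (hT : IsStab b T) (hNT : N ≤ T)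
    {B' : Set (IrrCharacter T)} (hB' : IsPBlock M B') {ψ₀ : IrrCharacter T} (hψ₀ : ψ₀ ∈ B') {θ₀ : IrrCharacter N}
    (hθ₀ : θ₀ ∈ b) (h₀ : classInner (resN hNT (ψ₀ : T → ℂ)) (θ₀ : N → ℂ) ≠ 0) {ψ : IrrCharacter T} (hψ : ψ ∈ B')
    {φ : IrrCharacter N} (hφ : classInner (resN hNT (ψ : T → ℂ)) (φ : N → ℂ) ≠ 0) : φ ∈ b := by
  have h1 := omega_idemT_eq_one hNT ψ₀ fun _ => constituent_mem hT hNT ψ₀ hθ₀ h₀
  have h2 := omega_sub_mem_of_sameBlock hM ((IsPBlock.mem_iff hM hB' hψ₀).1 hψ) (isClassElt_idemT (T := T) hT)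
    (isIntegralElt_idemT hM hb)
  obtain ⟨θ, hθ, hne⟩ : ∃ θ ∈ b, classInner (resN hNT (ψ : T → ℂ)) (θ : N → ℂ) ≠ 0 := by
    by_contra hcon
    push Not at hcon
    rw [h1, omega_idemT_eq_zero hNT ψ hcon, sub_zero] at h2
    exact not_memLocalIdeal_one hM h2
  exact constituent_mem hT hNT ψ hθ hne hφ

/-- Over `b`, induction does not change multiplicities. -/
theorem classInner_indFun_resN (hM : IsPModular p M) (hb : IsPBlock M b) (hT : IsStab b T) (hNT : N ≤ T)
    (ψ : IrrCharacter T) (hψ : ∀ φ : IrrCharacter N, classInner (resN hNT (ψ : T → ℂ)) (φ : N → ℂ) ≠ 0 → φ ∈ b)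
    {θ : IrrCharacter N} (hθ : θ ∈ b) :
    classInner (fun n : N => indFun T (ψ : T → ℂ) n) (θ : N → ℂ) = classInner (resN hNT (ψ : T → ℂ)) (θ : N → ℂ) := by
  classical
  have e : (fun n : N => indFun T (ψ : T → ℂ) n) =
      (Nat.card T : ℂ)⁻¹ • ∑ x : G, conjFun x⁻¹ (resN hNT (ψ : T → ℂ)) := by
    funext n
    simp only [indFun, Pi.smul_apply, Finset.sum_apply, smul_eq_mul, conjFun_apply, inv_inv]
    congr 1
    refine Finset.sum_congr rfl fun x _ => ?_
    exact extendByZero_coe T (ψ : T → ℂ) ⟨x⁻¹ * n * x, hNT (by simpa using hN.conj_mem (n : G) n.2 x⁻¹)⟩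
  have hterm : ∀ x : G, classInner (conjFun x⁻¹ (resN hNT (ψ : T → ℂ))) (θ : N → ℂ) =
      if x ∈ T then classInner (resN hNT (ψ : T → ℂ)) (θ : N → ℂ) else 0 := by
    intro x
    split_ifs with hx
    · congr 1
      funext n
      rw [conjFun_apply]
      have := isClassFunction (isCharacter_of_irr ψ.2) ⟨(n : G), hNT n.2⟩ ⟨x, hx⟩⁻¹
      rw [inv_inv] at this
      simp only [inv_inv]
      exact this
    · by_contra hne
      have h1 : classInner (resN hNT (ψ : T → ℂ)) (conjFun x (θ : N → ℂ)) ≠ 0 := by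
        rw [← classInner_conjFun x⁻¹, conjFun_inv_cancel]
        exact hne
      exact hx (mem_stab_of_conj hM hb hT hθ (hψ ⟨_, isIrrCharacter_conjFun x θ.2⟩ h1) rfl)
  rw [e, classInner_smul_left, classInner_sum_left, Finset.sum_congr rfl fun x _ => hterm x, ← Finset.sum_filter,
    Finset.sum_const, nsmul_eq_mul, ← Fintype.card_subtype, ← Nat.card_eq_fintype_card, ← mul_assoc]
  rw [show Nat.card {x // x ∈ T} = Nat.card T from rfl,
    inv_mul_cancel₀ (Nat.cast_ne_zero.2 Nat.card_pos.ne'), one_mul]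

/-- Induction from the stabilizer: irreducible, and the rest of the restriction avoids `b`. -/
theorem isIrr_indFun_stab (hM : IsPModular p M) (hb : IsPBlock M b) (hT : IsStab b T) (hNT : N ≤ T)
    (ψ : IrrCharacter T) (hψ : ∀ φ : IrrCharacter N, classInner (resN hNT (ψ : T → ℂ)) (φ : N → ℂ) ≠ 0 → φ ∈ b) :
    IsIrrCharacter G (indFun T (ψ : T → ℂ)) ∧ ∃ R : T → ℂ, IsCharacter T R ∧
      (fun t : T => indFun T (ψ : T → ℂ) t) = (ψ : T → ℂ) + R ∧
      ∀ φ ∈ b, classInner (resN hNT R) (φ : N → ℂ) = 0 := by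
  classical
  have hI := isCharacter_indFun T (isCharacter_of_irr ψ.2)
  obtain ⟨θ, hθne⟩ := resN_constituent hNT ψ
  have hθ := hψ θ hθne
  obtain ⟨m, hm⟩ := classInner_characters_nat
    (CharBasics.isCharacter_comp (isCharacter_of_irr ψ.2) (Subgroup.inclusion hNT)) (isCharacter_of_irr θ.2)
  change classInner (resN hNT (ψ : T → ℂ)) (θ : N → ℂ) = m at hm
  have hkey : ∀ χ : IrrCharacter G, classInner (indFun T (ψ : T → ℂ)) (χ : G → ℂ) ≠ 0 →
      ∃ r : ℕ, classInner (fun n : N => (χ : G → ℂ) n) (θ : N → ℂ) = ((m + r : ℕ) : ℂ) := by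
    intro χ hχ
    have hψc : classInner (fun t : T => (χ : G → ℂ) t) (ψ : T → ℂ) ≠ 0 := by
      rw [classInner_indFun T (ψ : T → ℂ) (isClassFunction (isCharacter_of_irr χ.2))] at hχ
      rw [classInner_comm, Ne, map_eq_zero]
      exact hχ
    obtain ⟨R, hR, -, hsplit⟩ := classInner_restrict_split hNT (isCharacter_of_irr χ.2) ψ.2 hψc (θ : N → ℂ)
    obtain ⟨r, hr⟩ := classInner_characters_nat
      (CharBasics.isCharacter_comp hR (Subgroup.inclusion hNT)) (isCharacter_of_irr θ.2)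
    change classInner (fun n : N => R ⟨(n : G), hNT n.2⟩) (θ : N → ℂ) = r at hr
    refine ⟨r, ?_⟩
    change classInner _ _ = classInner (resN hNT (ψ : T → ℂ)) (θ : N → ℂ) + _ at hsplit
    rw [hsplit, hm, hr, Nat.cast_add]
  obtain ⟨χ, k, hk, hkeq⟩ := exists_constituent hI (by
    rw [CharBasics.indFun_apply_one]
    exact mul_ne_zero (Nat.cast_ne_zero.2 Subgroup.index_ne_zero_of_finite) (apply_one_ne_zero ψ.2))
  have hχne : classInner (indFun T (ψ : T → ℂ)) (χ : G → ℂ) ≠ 0 := by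
    rw [hkeq]; exact Nat.cast_ne_zero.2 hk.ne'
  obtain ⟨R', hR', hsum⟩ := exists_eq_add_of_constituent hI χ.2 hχne
  have hθI := classInner_indFun_resN hM hb hT hNT ψ hψ hθ
  obtain ⟨r, hr⟩ := hkey χ hχne
  obtain ⟨e, he⟩ := classInner_characters_nat (CharBasics.isCharacter_restrict hR' N) (isCharacter_of_irr θ.2)
  change classInner (fun n : N => R' n) (θ : N → ℂ) = e at he
  have hre : r = 0 ∧ e = 0 := by
    rw [show (fun n : N => indFun T (ψ : T → ℂ) n) = (fun n : N => (χ : G → ℂ) n) + fun n : N => R' n from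
      funext fun n => congrFun hsum n, classInner_add_left, hr, he, hm, ← Nat.cast_add, Nat.cast_inj] at hθI
    omega
  have hm0 : m ≠ 0 := fun h0 => hθne (by rw [hm, h0, Nat.cast_zero])
  have hR0 : R' = 0 := by
    by_contra hne
    obtain ⟨χ', k', hk', hk'eq⟩ := exists_constituent hR' fun h1 => hne (eq_zero_of_apply_one hR' h1)
    have hχ'ne : classInner (indFun T (ψ : T → ℂ)) (χ' : G → ℂ) ≠ 0 := by
      rw [hsum, classInner_add_left, hk'eq]
      obtain ⟨j, hj⟩ := classInner_characters_nat (isCharacter_of_irr χ.2) (isCharacter_of_irr χ'.2)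
      rw [hj, ← Nat.cast_add]
      exact Nat.cast_ne_zero.2 (by omega)
    obtain ⟨r', hr'⟩ := hkey χ' hχ'ne
    obtain ⟨R'', hR'', hsum'⟩ := exists_eq_add_of_constituent hR' χ'.2 (by
      rw [hk'eq]; exact Nat.cast_ne_zero.2 hk'.ne')
    obtain ⟨e', he'⟩ := classInner_characters_nat (CharBasics.isCharacter_restrict hR'' N) (isCharacter_of_irr θ.2)
    change classInner (fun n : N => R'' n) (θ : N → ℂ) = e' at he'
    rw [show (fun n : N => R' n) = (fun n : N => (χ' : G → ℂ) n) + fun n : N => R'' n from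
      funext fun n => congrFun hsum' n, classInner_add_left, hr', he', ← Nat.cast_add, Nat.cast_inj] at he
    omega
  have heq : indFun T (ψ : T → ℂ) = (χ : G → ℂ) := by rw [hsum, hR0, add_zero]
  have hψc : classInner (fun t : T => indFun T (ψ : T → ℂ) t) (ψ : T → ℂ) ≠ 0 := by
    rw [heq] at hχne ⊢
    rw [← heq, classInner_comm, ← classInner_indFun T (ψ : T → ℂ) (isClassFunction hI), heq,
      classInner_self χ.2, map_one]
    exact one_ne_zero
  obtain ⟨R, hR, hRsum⟩ := exists_eq_add_of_constituent (CharBasics.isCharacter_restrict hI T) ψ.2 hψc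
  refine ⟨heq ▸ χ.2, R, hR, hRsum, fun φ hφ => ?_⟩
  have h1 := classInner_indFun_resN hM hb hT hNT ψ hψ hφ
  rw [show (fun n : N => indFun T (ψ : T → ℂ) n) = resN hNT (ψ : T → ℂ) + resN hNT R from
    funext fun n => congrFun hRsum ⟨(n : G), hNT n.2⟩, classInner_add_left, add_eq_left] at h1
  exact h1

/-- Central characters of `T` over `b` are read off from those of the induced characters. -/
theorem omega_indFun_transfer (hM : IsPModular p M) (hb : IsPBlock M b) (hT : IsStab b T) (hNT : N ≤ T)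
    (ψ : IrrCharacter T) (hψ : ∀ φ : IrrCharacter N, classInner (resN hNT (ψ : T → ℂ)) (φ : N → ℂ) ≠ 0 → φ ∈ b)
    {z : MonoidAlgebra ℂ T} (hz : IsClassElt z) :
    omega (indFun T (ψ : T → ℂ)) (ofFun (indFun T fun t => (z * idemT b T).coeff t)) = omega (ψ : T → ℂ) z := by
  classical
  obtain ⟨hirr, R, hR, hsum, hRb⟩ := isIrr_indFun_stab hM hb hT hNT ψ hψ
  set χ := indFun T (ψ : T → ℂ) with hχ
  set y : T → ℂ := fun t => (z * idemT b T).coeff t with hy
  have hyc : IsClassFunction T y := hz.mul (isClassElt_idemT hT)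
  have hG : (Nat.card G : ℂ) ≠ 0 := Nat.cast_ne_zero.2 Nat.card_pos.ne'
  have hTc : (Nat.card T : ℂ) ≠ 0 := Nat.cast_ne_zero.2 Nat.card_pos.ne'
  have hsum1 : ∑ g : G, indFun T y g * χ g = (T.index : ℂ) * ∑ t : T, y t * χ t := by
    have hf : IsClassFunction G fun g => conj (χ g) := fun g h =>
      congrArg _ (isClassFunction (isCharacter_of_irr hirr) g h)
    have h := classInner_indFun T y hf
    simp only [classInner_eq, Complex.conj_conj] at h
    rw [inv_mul_eq_iff_eq_mul₀ hG] at h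
    rw [h, ← T.index_mul_card, Nat.cast_mul, mul_assoc, mul_inv_cancel_left₀ hTc]
  obtain ⟨r, f, hf, hdec⟩ := exists_decomp hR
  have hterm : ∀ i, ∑ t : T, y t * f i t = 0 := by
    intro i
    have h0 : omega (f i) (z * idemT b T) = 0 := by
      rw [omega_mul (hf i) hz, omega_idemT_eq_zero hNT ⟨f i, hf i⟩ ?_, mul_zero]
      intro φ hφ
      have hRφ := hRb φ hφ
      rw [show resN hNT R = ∑ j, resN hNT (f j) from funext fun n => by
        simp [resN, hdec, Finset.sum_apply], classInner_sum_left] at hRφ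
      choose m hm using fun j => classInner_characters_nat
        (CharBasics.isCharacter_comp (isCharacter_of_irr (hf j)) (Subgroup.inclusion hNT)) (isCharacter_of_irr φ.2)
      have hm' : ∀ j, classInner (resN hNT (f j)) (φ : N → ℂ) = m j := hm
      simp only [hm'] at hRφ
      rw [← Nat.cast_sum, Nat.cast_eq_zero, Finset.sum_eq_zero_iff] at hRφ
      exact (hm' i).trans (by rw [hRφ i (Finset.mem_univ _), Nat.cast_zero])
    rw [omega, div_eq_zero_iff] at h0
    exact h0.resolve_right (apply_one_ne_zero (hf i))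
  have hψy : ∑ t : T, y t * (ψ : T → ℂ) t = (ψ : T → ℂ) 1 * omega (ψ : T → ℂ) z := by
    have h0 : omega (ψ : T → ℂ) (z * idemT b T) = omega (ψ : T → ℂ) z := by
      rw [omega_mul ψ.2 hz, omega_idemT_eq_one hNT ψ hψ, mul_one]
    rw [omega, div_eq_iff (apply_one_ne_zero ψ.2)] at h0
    rw [hy, h0, mul_comm]
  have hall : ∑ t : T, y t * χ t = (ψ : T → ℂ) 1 * omega (ψ : T → ℂ) z := by
    have e : ∀ t : T, χ t = (ψ : T → ℂ) t + ∑ i, f i t := fun t => by
      have := congrFun hsum t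
      rw [Pi.add_apply] at this
      rw [this, hdec, Finset.sum_apply]
    simp only [e, mul_add, Finset.mul_sum, Finset.sum_add_distrib]
    rw [hψy, Finset.sum_comm, Finset.sum_eq_zero (fun i _ => hterm i), add_zero]
  show (∑ g, (ofFun (indFun T y)).coeff g * χ g) / χ 1 = _
  simp only [coeff_ofFun]
  rw [hsum1, hall, hχ, CharBasics.indFun_apply_one, ← mul_assoc, mul_div_assoc]
  field_simp [apply_one_ne_zero ψ.2, Subgroup.index_ne_zero_of_finite]

/-- Induced characters in one block come from one block. -/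
theorem sameBlock_of_indFun (hM : IsPModular p M) (hb : IsPBlock M b) (hT : IsStab b T) (hNT : N ≤ T)
    {ψ φ : IrrCharacter T} (hψ : ∀ θ : IrrCharacter N, classInner (resN hNT (ψ : T → ℂ)) (θ : N → ℂ) ≠ 0 → θ ∈ b)
    (hφ : ∀ θ : IrrCharacter N, classInner (resN hNT (φ : T → ℂ)) (θ : N → ℂ) ≠ 0 → θ ∈ b)
    (h : SameBlock M (indFun T (ψ : T → ℂ)) (indFun T (φ : T → ℂ))) : SameBlock M (ψ : T → ℂ) (φ : T → ℂ) := by
  intro t
  rw [← omega_classElt ψ.2, ← omega_classElt φ.2,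
    ← omega_indFun_transfer hM hb hT hNT ψ hψ (isClassElt_classElt t),
    ← omega_indFun_transfer hM hb hT hNT φ hφ (isClassElt_classElt t)]
  exact omega_sub_mem_of_sameBlock hM (φ := ⟨_, (isIrr_indFun_stab hM hb hT hNT ψ hψ).1⟩)
    (ψ := ⟨_, (isIrr_indFun_stab hM hb hT hNT φ hφ).1⟩) h
    (fun g x => by simp only [coeff_ofFun]; exact CharBasics.isClassFunction_indFun T _ g x)
    (fun g => by
      rw [coeff_ofFun]
      exact memLocalRing_indFun hM T ((isClassElt_classElt t).mul (isClassElt_idemT hT))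
        ((isIntegralElt_classElt hM t).mul hM (isIntegralElt_idemT hM hb)) g)

/-- A block of the stabilizer over `b` induces the block of its induced characters. -/
theorem isInduced_stab (hM : IsPModular p M) {B' : Set (IrrCharacter T)}
    (hB' : IsPBlock M B') {ψ : IrrCharacter T} (hψ : ψ ∈ B') (hirr : IsIrrCharacter G (indFun T (ψ : T → ℂ))) :
    IsInducedBlock M T B' (blockOf M (indFun T (ψ : T → ℂ))) := by
  classical
  refine ⟨hB', isPBlock_blockOf M ⟨_, hirr⟩, fun ξ hξ χ hχ g => ?_⟩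
  have h1 := Cfsg.Agent.S0932.result T (ψ : T → ℂ) (isCharacter_of_irr ψ.2) g
  have h2 : MemLocalIdeal M (inducedCentralChar T (ξ : T → ℂ) g - inducedCentralChar T (ψ : T → ℂ) g) := by
    rw [← ZStar.omega_res_classElt, ← ZStar.omega_res_classElt]
    exact omega_sub_mem_of_sameBlock hM ((IsPBlock.mem_iff hM hB' hξ).1 hψ)
      (ZStar.isClassElt_res (isClassElt_classElt g) T) (ZStar.isIntegralElt_res (isIntegralElt_classElt hM g) T)
  have h3 : MemLocalIdeal M (centralChar (indFun T (ψ : T → ℂ)) g - centralChar (χ : G → ℂ) g) := hχ g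
  rw [h1] at h2
  simpa using memLocalIdeal_add hM h2 h3

/-- Characters over `b` are induced from the stabilizer. -/
theorem exists_eq_indFun_stab (hM : IsPModular p M) (hb : IsPBlock M b) (hT : IsStab b T) (hNT : N ≤ T)
    (χ : IrrCharacter G) {θ : IrrCharacter N} (hθ : θ ∈ b)
    (h : classInner (fun n : N => (χ : G → ℂ) n) (θ : N → ℂ) ≠ 0) :
    ∃ ψ : IrrCharacter T, (∀ φ : IrrCharacter N, classInner (resN hNT (ψ : T → ℂ)) (φ : N → ℂ) ≠ 0 → φ ∈ b) ∧
      (χ : G → ℂ) = indFun T (ψ : T → ℂ) := by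
  classical
  have hχc := isCharacter_of_irr χ.2
  obtain ⟨r, f, hf, hdec⟩ := exists_decomp (CharBasics.isCharacter_restrict hχc T)
  have hres : (fun n : N => (χ : G → ℂ) n) = ∑ i, resN hNT (f i) := by
    funext n
    have := congrFun hdec ⟨(n : G), hNT n.2⟩
    simpa [resN, Finset.sum_apply] using this
  obtain ⟨i, hi⟩ : ∃ i, classInner (resN hNT (f i)) (θ : N → ℂ) ≠ 0 := by
    by_contra hne
    push Not at hne
    exact h (by rw [hres, classInner_sum_left]; exact Finset.sum_eq_zero fun i _ => hne i)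
  have hψ : ∀ φ : IrrCharacter N, classInner (resN hNT (f i)) (φ : N → ℂ) ≠ 0 → φ ∈ b :=
    fun φ => constituent_mem hT hNT ⟨f i, hf i⟩ hθ hi
  refine ⟨⟨f i, hf i⟩, hψ, ?_⟩
  obtain ⟨hirr, -⟩ := isIrr_indFun_stab hM hb hT hNT ⟨f i, hf i⟩ hψ
  have hne : classInner (indFun T (f i)) (χ : G → ℂ) ≠ 0 := by
    rw [classInner_indFun T (f i) (isClassFunction hχc), hdec, classInner_sum_right,
      ← Finset.add_sum_erase _ _ (Finset.mem_univ i), classInner_self (hf i)]
    obtain ⟨k, hk⟩ := classInner_characters_nat (isCharacter_of_irr (hf i))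
      (CharBasics.isCharacter_sum (Finset.univ.erase i) f fun j _ => isCharacter_of_irr (hf j))
    rw [← classInner_sum_right, hk]
    exact_mod_cast (by omega : 1 + k ≠ 0)
  by_contra hne'
  exact hne (classInner_ne hirr χ.2 fun e => hne' e.symm)

/-- The members of a block covering `b` all lie over `b`. -/
theorem exists_constituent_mem_block (hM : IsPModular p M) (hb : IsPBlock M b) {B : Set (IrrCharacter G)}
    (hB : IsPBlock M B) {χ₀ : IrrCharacter G} (hχ₀ : χ₀ ∈ B) {θ₀ : IrrCharacter N} (hθ₀ : θ₀ ∈ b)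
    (h₀ : classInner (fun n : N => (χ₀ : G → ℂ) n) (θ₀ : N → ℂ) ≠ 0) {χ : IrrCharacter G} (hχ : χ ∈ B) :
    ∃ θ ∈ b, classInner (fun n : N => (χ : G → ℂ) n) (θ : N → ℂ) ≠ 0 := by
  obtain ⟨φ, hφ⟩ := exists_constituent_restrict N χ
  obtain ⟨g, φ', hφ', he⟩ := exists_conj_mem_blockOf hM θ₀ φ fun z hz hzi hsupp => by
    rw [← omega_eq_res_constituent hz hsupp χ₀ θ₀ h₀, ← omega_eq_res_constituent hz hsupp χ φ hφ]
    exact omega_sub_mem_of_sameBlock hM ((IsPBlock.mem_iff hM hB hχ₀).1 hχ) hz hzi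
  refine ⟨φ', (IsPBlock.mem_iff hM hb hθ₀).2 hφ', ?_⟩
  rw [he, ← conjFun_restrict (isClassFunction (isCharacter_of_irr χ.2)) g, classInner_conjFun]
  exact hφ

/-- The block induced from a covering block of the stabilizer. -/
theorem stab_block_spec (hM : IsPModular p M) (hb : IsPBlock M b) (hT : IsStab b T) (hNT : N ≤ T)
    {B' : Set (IrrCharacter T)} (hB' : IsPBlock M B')
    (hcov : ∃ ψ ∈ B', ∃ θ ∈ b, classInner (resN hNT (ψ : T → ℂ)) (θ : N → ℂ) ≠ 0)
    {B : Set (IrrCharacter G)} (hind : IsInducedBlock M T B' B) :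
    (∃ χ ∈ B, ∃ θ ∈ b, classInner (fun n : N => (χ : G → ℂ) n) (θ : N → ℂ) ≠ 0) ∧
      (∀ ψ ∈ B', IsIrrCharacter G (indFun T (ψ : T → ℂ))) ∧
      ∀ χ : IrrCharacter G, χ ∈ B ↔ ∃ ψ ∈ B', (χ : G → ℂ) = indFun T (ψ : T → ℂ) := by
  classical
  obtain ⟨ψ₀, hψ₀, θ₀, hθ₀, h₀⟩ := hcov
  have hall : ∀ ψ ∈ B', ∀ φ : IrrCharacter N, classInner (resN hNT (ψ : T → ℂ)) (φ : N → ℂ) ≠ 0 → φ ∈ b :=
    fun ψ hψ φ => constituent_mem_block hM hb hT hNT hB' hψ₀ hθ₀ h₀ hψ
  have hirr : ∀ ψ ∈ B', IsIrrCharacter G (indFun T (ψ : T → ℂ)) := fun ψ hψ =>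
    (isIrr_indFun_stab hM hb hT hNT ψ (hall ψ hψ)).1
  have hmem : ∀ ψ (hψ : ψ ∈ B'), (⟨_, hirr ψ hψ⟩ : IrrCharacter G) ∈ B := by
    intro ψ hψ
    obtain ⟨χ, hχ⟩ := IsPBlock.nonempty hM hind.2.1
    refine (IsPBlock.mem_iff hM hind.2.1 hχ).2 fun g => ?_
    show MemLocalIdeal M (centralChar (χ : G → ℂ) g - centralChar (indFun T (ψ : T → ℂ)) g)
    rw [← Cfsg.Agent.S0932.result T (ψ : T → ℂ) (isCharacter_of_irr ψ.2) g, ← neg_sub]
    exact memLocalIdeal_neg (hind.2.2 ψ hψ χ hχ g)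
  have hcovG : classInner (fun n : N => indFun T (ψ₀ : T → ℂ) n) (θ₀ : N → ℂ) ≠ 0 := by
    rw [classInner_indFun_resN hM hb hT hNT ψ₀ (hall ψ₀ hψ₀) hθ₀]; exact h₀
  refine ⟨⟨⟨_, hirr ψ₀ hψ₀⟩, hmem ψ₀ hψ₀, θ₀, hθ₀, hcovG⟩, hirr, fun χ => ⟨fun hχ => ?_, ?_⟩⟩
  · obtain ⟨θ, hθ, hne⟩ := exists_constituent_mem_block hM hb hind.2.1 (hmem ψ₀ hψ₀) hθ₀ hcovG hχ
    obtain ⟨ψ, hψ, he⟩ := exists_eq_indFun_stab hM hb hT hNT χ hθ hne
    refine ⟨ψ, (IsPBlock.mem_iff hM hB' hψ₀).2 (sameBlock_of_indFun hM hb hT hNT (hall ψ₀ hψ₀) hψ ?_), he⟩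
    rw [← he]
    exact (IsPBlock.mem_iff hM hind.2.1 (hmem ψ₀ hψ₀)).1 hχ
  · rintro ⟨ψ, hψ, he⟩
    rw [show χ = ⟨_, hirr ψ hψ⟩ from Subtype.ext he]
    exact hmem ψ hψ

/-- Defect and heights along the correspondence. -/
theorem stab_block_degExp (hp : p.Prime) {ψ : IrrCharacter T} {χ : IrrCharacter G}
    (h : (χ : G → ℂ) = indFun T (ψ : T → ℂ)) : degExp p χ = T.index.factorization p + degExp p ψ := by
  have h1 : charDegree (χ : G → ℂ) = T.index * charDegree (ψ : T → ℂ) := by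
    have := congrFun h 1
    rw [CharBasics.indFun_apply_one, apply_one (isCharacter_of_irr χ.2), apply_one (isCharacter_of_irr ψ.2)] at this
    exact_mod_cast this
  rw [degExp, degExp, h1, Nat.factorization_mul Subgroup.index_ne_zero_of_finite (charDegree_pos ψ.2).ne',
    Finsupp.add_apply]

theorem stab_block_defect (hM : IsPModular p M) {B' : Set (IrrCharacter T)} (hB' : IsPBlock M B')
    {B : Set (IrrCharacter G)} (hB : IsPBlock M B)
    (hiff : ∀ χ : IrrCharacter G, χ ∈ B ↔ ∃ ψ ∈ B', (χ : G → ℂ) = indFun T (ψ : T → ℂ))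
    (hirr : ∀ ψ ∈ B', IsIrrCharacter G (indFun T (ψ : T → ℂ))) :
    blockDefect p B = blockDefect p B' ∧ ∀ ψ ∈ B', blockHeight p B (indFun T (ψ : T → ℂ)) =
      blockHeight p B' (ψ : T → ℂ) := by
  classical
  obtain ⟨χm, hχm, hmin, hs⟩ := exists_min_degExp hM hB
  obtain ⟨ψm, hψm, hmin', hs'⟩ := exists_min_degExp hM hB'
  obtain ⟨ψ₁, hψ₁, he₁⟩ := (hiff χm).1 hχm
  have h1 := stab_block_degExp hM.1 he₁
  have h2 := stab_block_degExp (χ := ⟨_, hirr ψm hψm⟩) (ψ := ψm) hM.1 rfl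
  have h3 := hmin' ψ₁ hψ₁
  have h4 := hmin ⟨_, hirr ψm hψm⟩ ((hiff _).2 ⟨ψm, hψm, rfl⟩)
  have hcard : (Nat.card G).factorization p = T.index.factorization p + (Nat.card T).factorization p := by
    rw [← T.index_mul_card, Nat.factorization_mul Subgroup.index_ne_zero_of_finite Nat.card_pos.ne', Finsupp.add_apply]
  refine ⟨by rw [blockDefect_eq hs, blockDefect_eq hs']; omega, fun ψ hψ => ?_⟩
  have h5 := stab_block_degExp (χ := ⟨_, hirr ψ hψ⟩) (ψ := ψ) hM.1 rfl
  have h6 := blockHeight_eq (B := B) hs ⟨_, hirr ψ hψ⟩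
  rw [blockHeight_eq hs' ψ, h6]
  omega

theorem stab_defectGroup (hM : IsPModular p M) {B' : Set (IrrCharacter T)} {B : Set (IrrCharacter G)}
    (hind : IsInducedBlock M T B' B) (hd : blockDefect p B = blockDefect p B') {D : Subgroup T}
    (hD : IsDefectGroup p M B' D) : IsDefectGroup p M B (D.map T.subtype) := by
  haveI := Fact.mk hM.1
  obtain ⟨E, hE, hle⟩ := Cfsg.Agent.S0917.result p M hM T B' hind.1 B hind.2.1 hind D hD
  rw [Subgroup.eq_of_le_of_card_ge hle]
  · exact hE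
  · rw [Subgroup.card_map_of_injective T.subtype_injective, card_defectGroup hM hind.1 hD,
      card_defectGroup hM hind.2.1 hE, hd]

end CfsgLib.Blocks
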