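import Cfsg.Agent.Blocks.Residue
import Cfsg.Agent.ZStar.Congr
import Mathlib.RingTheory.Artinian.Ring
import Mathlib.RingTheory.Nilpotent.Lemmas

/-!
# Nilpotency in graded rings and reduction of the group algebra modulo `M`
-/

set_option linter.unusedSectionVars false
set_option linter.style.haveILetI false

namespace CfsgLib.Blocks

open Cfsg CfsgLib.CharBasics

/-- Sums of homogeneous elements are nilpotent when the products in degree one are. -/
theorem pow_eq_zero_of_graded {R : Type*} [Ring R] {Q : Type*} [Group Q] [Fintype Q] (S : Q → Set R)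
    (hmul : ∀ a b x y, x ∈ S a → y ∈ S b → x * y ∈ S (a * b)) {K : ℕ}
    (hK : ∀ l : List R, l.length = K → (∀ y ∈ l, y ∈ S 1) → l.prod = 0)
    (x : Q → R) (hx : ∀ t, x t ∈ S t) : (∑ t, x t) ^ (K * Fintype.card Q + 1) = 0 := by
  classical
  let Inv : ℕ → R → Prop := fun L π => π = 0 ∨ ∃ (D : Q) (c : Q → ℕ), π ∈ S D ∧ L ≤ ∑ d, c d ∧
    (∀ d, c d ≤ K) ∧ ∀ d, c d ≠ 0 → ∃ (a : R) (l : List R), l.length + 1 = c d ∧ (∀ y ∈ l, y ∈ S 1) ∧
      ((d = D ∧ π = a * l.prod) ∨ ∃ r, r ∈ S (d⁻¹ * D) ∧ π = a * l.prod * r)
  have hzero : ∀ (a : R) (l : List R), K ≤ l.length → (∀ y ∈ l, y ∈ S 1) → a * l.prod = 0 := by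
    intro a l hl hS
    rw [← List.take_append_drop K l, List.prod_append,
      hK (l.take K) (by simp [hl]) (fun y hy => hS y (List.mem_of_mem_take hy)), zero_mul, mul_zero]
  have hstep : ∀ L π s, Inv L π → Inv (L + 1) (π * x s) := by
    rintro L π s (rfl | ⟨D, c, hπ, hsum, hle, hdec⟩)
    · exact Or.inl (zero_mul _)
    by_cases h0 : π * x s = 0
    · exact Or.inl h0
    refine Or.inr ⟨D * s, Function.update c (D * s) (c (D * s) + 1), hmul _ _ _ _ hπ (hx s), ?_, ?_, ?_⟩
    · rw [Finset.sum_update_of_mem (Finset.mem_univ _), ← Finset.erase_eq,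
        add_right_comm, Finset.add_sum_erase _ c (Finset.mem_univ _)]
      omega
    · intro d
      by_cases hd : d = D * s
      · subst hd
        rw [Function.update_self]
        by_contra hlt
        push Not at hlt
        have hle' := hle (D * s)
        by_cases hc : c (D * s) = 0
        · have h1 := hK [] (by rw [List.length_nil]; omega) (by simp)
          rw [List.prod_nil] at h1
          exact h0 (by rw [← mul_one (π * x s), h1, mul_zero])
        obtain ⟨a, l, hl, hlS, hcase⟩ := hdec _ hc
        rcases hcase with ⟨hD, rfl⟩ | ⟨r, hr, rfl⟩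
        · have h1 : x s ∈ S 1 := congrArg S (mul_eq_left.1 hD : s = 1) ▸ hx s
          refine h0 ?_
          rw [mul_assoc, ← List.prod_singleton (x := x s), ← List.prod_append]
          exact hzero a _ (by simp; omega) (by simp; exact fun y hy => hy.elim (hlS y) (fun e => e ▸ h1))
        · have h1 : r * x s ∈ S 1 := by
            have := hmul _ _ _ _ hr (hx s); rwa [mul_assoc, inv_mul_cancel] at this
          refine h0 ?_
          rw [mul_assoc, mul_assoc, ← List.prod_singleton (x := r * x s), ← List.prod_append]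
          exact hzero a _ (by simp; omega) (by simp; exact fun y hy => hy.elim (hlS y) (fun e => e ▸ h1))
      · rw [Function.update_of_ne hd]; exact hle d
    · intro d hd
      by_cases hd' : d = D * s
      · subst hd'
        rw [Function.update_self] at hd ⊢
        by_cases hc : c (D * s) = 0
        · exact ⟨π * x s, [], by simp [hc], by simp, Or.inl ⟨rfl, by simp⟩⟩
        obtain ⟨a, l, hl, hlS, hcase⟩ := hdec _ hc
        rcases hcase with ⟨hD, rfl⟩ | ⟨r, hr, rfl⟩
        · have h1 : x s ∈ S 1 := congrArg S (mul_eq_left.1 hD : s = 1) ▸ hx s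
          refine ⟨a, l ++ [x s], by simp; omega, ?_, Or.inl ⟨rfl, by simp [mul_assoc]⟩⟩
          simp; exact fun y hy => hy.elim (hlS y) (fun e => e ▸ h1)
        · have h1 : r * x s ∈ S 1 := by
            have := hmul _ _ _ _ hr (hx s); rwa [mul_assoc, inv_mul_cancel] at this
          refine ⟨a, l ++ [r * x s], by simp; omega, ?_, Or.inl ⟨rfl, by simp [mul_assoc]⟩⟩
          simp; exact fun y hy => hy.elim (hlS y) (fun e => e ▸ h1)
      · rw [Function.update_of_ne hd'] at hd ⊢
        obtain ⟨a, l, hl, hlS, hcase⟩ := hdec d hd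
        refine ⟨a, l, hl, hlS, Or.inr ?_⟩
        rcases hcase with ⟨hD, rfl⟩ | ⟨r, hr, rfl⟩
        · refine ⟨x s, ?_, rfl⟩
          rw [hD, inv_mul_cancel_left]; exact hx s
        · refine ⟨r * x s, ?_, mul_assoc _ _ _⟩
          rw [← mul_assoc]; exact hmul _ _ _ _ hr (hx s)
  have hmain : ∀ L, (∑ t, x t) ^ (L + 1) ∈ AddSubmonoid.closure {π | Inv (L + 1) π} := by
    intro L
    induction L with
    | zero =>
      rw [pow_one]
      refine sum_mem fun t _ => AddSubmonoid.subset_closure ?_
      by_cases hK0 : K = 0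
      · subst hK0
        have h1 := hK [] rfl (by simp)
        rw [List.prod_nil] at h1
        exact Or.inl (by rw [← mul_one (x t), h1, mul_zero])
      refine Or.inr ⟨t, fun d => if d = t then 1 else 0, hx t, by simp, fun d => ?_, fun d hd => ?_⟩
      · show (if d = t then 1 else 0) ≤ K
        split_ifs <;> omega
      · simp only [ne_eq, ite_eq_right_iff, one_ne_zero, imp_false, not_not] at hd
        exact ⟨x t, [], by simp [hd], by simp, Or.inl ⟨hd, by simp⟩⟩
    | succ L ih =>
      rw [pow_succ]
      generalize (∑ t, x t) ^ (L + 1) = u at ih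
      induction ih using AddSubmonoid.closure_induction with
      | mem u hu =>
        rw [Finset.mul_sum]
        exact sum_mem fun t _ => AddSubmonoid.subset_closure (hstep _ _ t hu)
      | zero => rw [zero_mul]; exact zero_mem _
      | add u v _ _ hu hv => rw [add_mul]; exact add_mem hu hv
  refine AddSubmonoid.mem_bot.1 ((AddSubmonoid.closure_le (S := ⊥)).2 ?_ (hmain (K * Fintype.card Q)))
  rintro π (rfl | ⟨D, c, -, hsum, hle, -⟩)
  · rfl
  have : ∑ d, c d ≤ ∑ _d : Q, K := Finset.sum_le_sum fun d _ => hle d
  rw [Finset.sum_const, Finset.card_univ, smul_eq_mul, mul_comm] at this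
  omega

section Reduction

variable {p : ℕ} {M : Ideal AlgInt} {G : Type*} [Group G] [Fintype G]

/-- The reduction of an integral element as an element of the residue group algebra. -/
noncomputable def redElt (hM : IsPModular p M) {z : MonoidAlgebra ℂ G} (hz : IsIntegralElt M z) :
    MonoidAlgebra (Residue hM) G :=
  ∑ g, MonoidAlgebra.single g (red hM hz g)

theorem coeff_redElt (hM : IsPModular p M) {z : MonoidAlgebra ℂ G} (hz : IsIntegralElt M z) (g : G) :
    (redElt hM hz).coeff g = red hM hz g := by
  classical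
  simp [redElt, MonoidAlgebra.coeff_sum, Finset.sum_apply', MonoidAlgebra.coeff_single, Finsupp.single_apply]

theorem redElt_congr (hM : IsPModular p M) {z w : MonoidAlgebra ℂ G} (hz : IsIntegralElt M z) (hw : IsIntegralElt M w) :
    redElt hM hz = redElt hM hw ↔ ∀ g, MemLocalIdeal M (z.coeff g - w.coeff g) := by
  constructor
  · intro h g
    have := congrArg (fun u => u.coeff g) h
    simp only [coeff_redElt, red] at this
    exact Ideal.Quotient.eq.1 this
  · intro h
    ext g
    rw [coeff_redElt, coeff_redElt]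
    exact Ideal.Quotient.eq.2 (h g)

theorem redElt_eq_zero (hM : IsPModular p M) {z : MonoidAlgebra ℂ G} (hz : IsIntegralElt M z) :
    redElt hM hz = 0 ↔ ZStar.IsSmall M z := by
  constructor
  · intro h g
    have := congrArg (fun u => u.coeff g) h
    simp only [coeff_redElt] at this
    exact (red_eq_zero hM hz g).1 this
  · intro h
    ext g
    rw [coeff_redElt, (red_eq_zero hM hz g).2 (h g)]
    simp

theorem redElt_mul (hM : IsPModular p M) {z w : MonoidAlgebra ℂ G} (hz : IsIntegralElt M z) (hw : IsIntegralElt M w) :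
    redElt hM (hz.mul hM hw) = redElt hM hz * redElt hM hw := by
  classical
  ext c
  rw [coeff_redElt, red_mul hM hz hw]
  conv_rhs => rw [redElt]
  simp only [Finset.sum_mul, MonoidAlgebra.coeff_sum, Finset.sum_apply', MonoidAlgebra.coeff_single_mul_apply,
    coeff_redElt]

theorem redElt_pow_eq_zero (hM : IsPModular p M) {z : MonoidAlgebra ℂ G} (hz : IsIntegralElt M z) {n : ℕ}
    (h : ZStar.IsSmall M (z ^ (n + 1))) : redElt hM hz ^ (n + 1) = 0 := by
  have key : ∀ m, redElt hM (hz.pow hM (m + 1)) = redElt hM hz ^ (m + 1) := by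
    intro m
    induction m with
    | zero => simp only [zero_add, pow_one]
    | succ m ih =>
      rw [pow_succ (redElt hM hz) (m + 1), ← ih, ← redElt_mul]
      simp only [← pow_succ]
  rw [← key, redElt_eq_zero]
  exact h

theorem redElt_mem_center (hM : IsPModular p M) {z : MonoidAlgebra ℂ G} (hz : IsIntegralElt M z)
    (hc : IsClassElt z) : redElt hM hz ∈ Subalgebra.center (Residue hM) (MonoidAlgebra (Residue hM) G) := by
  classical
  rw [Subalgebra.mem_center_iff]
  intro u
  ext c
  simp only [redElt, Finset.mul_sum, Finset.sum_mul, MonoidAlgebra.coeff_sum, Finset.sum_apply',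
    MonoidAlgebra.coeff_single_mul_apply, MonoidAlgebra.coeff_mul_single_apply]
  refine Fintype.sum_equiv (MulAut.conj c).toEquiv _ _ fun g => ?_
  show u.coeff (c * g⁻¹) * red hM hz g = red hM hz (c * g * c⁻¹) * u.coeff ((c * g * c⁻¹)⁻¹ * c)
  rw [mul_comm]
  congr 1
  · exact Ideal.Quotient.eq.2 (by
      show MemLocalIdeal M (z.coeff g - z.coeff (c * g * c⁻¹))
      rw [coeff_conj hc, sub_self]; exact memLocalIdeal_zero hM)
  · congr 1; group

/-- Products of many nilpotent central elements vanish, uniformly. -/
theorem exists_nilpotent_bound (k : Type*) [Field k] (A : Type*) [Group A] [Finite A] :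
    ∃ K : ℕ, ∀ l : List (Subalgebra.center k (MonoidAlgebra k A)), l.length = K → (∀ v ∈ l, IsNilpotent v) →
      l.prod = 0 := by
  haveI := Fintype.ofFinite A
  haveI : Module.Finite k (MonoidAlgebra k A) := Module.Finite.of_basis (MonoidAlgebra.basis A k)
  haveI : IsArtinianRing (Subalgebra.center k (MonoidAlgebra k A)) :=
    IsArtinianRing.of_finite k (Subalgebra.center k (MonoidAlgebra k A))
  obtain ⟨K, hK⟩ := IsNoetherianRing.isNilpotent_nilradical (Subalgebra.center k (MonoidAlgebra k A))
  refine ⟨K, fun l hl hnil => ?_⟩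
  have h : ∀ l : List (Subalgebra.center k (MonoidAlgebra k A)), (∀ v ∈ l, IsNilpotent v) →
      l.prod ∈ nilradical (Subalgebra.center k (MonoidAlgebra k A)) ^ l.length := by
    intro l
    induction l with
    | nil => simp
    | cons v l ih =>
      intro hv
      rw [List.prod_cons, List.length_cons, pow_succ']
      exact Ideal.mul_mem_mul (mem_nilradical.2 (hv v (List.mem_cons_self ..)))
        (ih fun w hw => hv w (List.mem_cons_of_mem _ hw))
  have := h l hnil
  rwa [hl, hK, Submodule.zero_eq_bot, Ideal.mem_bot] at this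

end Reduction

end CfsgLib.Blocks
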