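import Cfsg.Agent.Blocks.DefectGroup
import Cfsg.Agent.Blocks.Subsection
import Cfsg.Agent.ZStar.Second

/-!
# Defects along block induction from centralizers of `p`-subgroups

Induction is everywhere defined, cannot lower the defect, and a `p`-subgroup inside a defect group
(centralized by it) gives an inducing block of no smaller defect.
-/

set_option autoImplicit false
set_option linter.style.haveILetI false
set_option linter.unusedSectionVars false

namespace CfsgLib.Blocks

open Cfsg CfsgLib.CharBasics CfsgLib.ZStar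

variable {p : ℕ} {M : Ideal AlgInt} {G : Type*} [Group G] [Fintype G] {Q : Subgroup G} {H : Subgroup G}
  [Fintype H]

theorem sum_blockElt_eq_one (hM : IsPModular p M) [Fintype (IrrCharacter G)] :
    ∑ B ∈ blockFinset M G, blockElt B = (1 : MonoidAlgebra ℂ G) := by
  classical
  refine eq_of_omega_eq (fun g h => ?_) isClassElt_one fun ψ => ?_
  · simp only [MonoidAlgebra.coeff_sum, Finsupp.finsetSum_apply]
    exact Finset.sum_congr rfl fun B _ => isClassElt_blockElt B g h
  · rw [ZStar.omega_sum, omega_one ψ.2,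
      Finset.sum_eq_single_of_mem (blockOf M (ψ : G → ℂ)) (mem_blockFinset.2 (isPBlock_blockOf M ψ))
        (fun B hB hne => ?_), omega_blockElt, if_pos (mem_blockOf_self hM ψ)]
    rw [omega_blockElt, if_neg fun h => hne (IsPBlock.eq_blockOf hM (mem_blockFinset.1 hB) h)]

/-- Induction from the centralizer of a `p`-subgroup is always defined. -/
theorem exists_induced_of_centralizer (hM : IsPModular p M) (hQ : IsPGroup p Q)
    (hH : ∀ g, g ∈ H ↔ ∀ q ∈ Q, q * g = g * q) {b : Set (IrrCharacter H)} (hb : IsPBlock M b) :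
    ∃ B, IsInducedBlock M H b B := by
  classical
  haveI : Fintype (IrrCharacter G) := @Fintype.ofFinite _ finite_irrCharacter
  obtain ⟨ξ, hξ⟩ := IsPBlock.nonempty hM hb
  by_contra hcon
  push Not at hcon
  refine not_memLocalIdeal_one hM ?_
  rw [← omega_one ξ.2, ← ZStar.res_one H, ← sum_blockElt_eq_one (M := M) hM, ZStar.res_sum, ZStar.omega_sum]
  exact memLocalIdeal_sum hM _ fun B hB => by_contra fun hns =>
    hcon B (isInducedBlock_of_not_small hM hQ hH hb (mem_blockFinset.1 hB) hξ hns)

/-- Induction does not lower the defect. -/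
theorem blockDefect_le_induced (hM : IsPModular p M) {b : Set (IrrCharacter H)} {B : Set (IrrCharacter G)}
    (hind : IsInducedBlock M H b B) : blockDefect p b ≤ blockDefect p B := by
  classical
  obtain ⟨g, hg⟩ := exists_defectClass hM hind.2.1
  obtain ⟨χ, hχ⟩ := IsPBlock.nonempty hM hind.2.1
  obtain ⟨ξ, hξ, hmin, hs⟩ := exists_min_degExp hM hind.1
  haveI : Fintype (ConjClasses H) := Fintype.ofFinite _
  have h1 := omega_res_induced hM hind hξ hχ (isClassElt_classElt g) (isIntegralElt_classElt hM g)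
  rw [omega_classElt χ.2] at h1
  obtain ⟨h, hgh, hu⟩ : ∃ h : H, IsConj g (h : G) ∧ ¬ MemLocalIdeal M (centralChar (ξ : H → ℂ) h) := by
    by_contra hcon
    push Not at hcon
    refine hg.2.2 χ hχ ?_
    have h2 : MemLocalIdeal M (omega (ξ : H → ℂ) (res H (classElt g))) := by
      rw [omega_eq_sum_classes ξ (isClassElt_res (isClassElt_classElt g) H)]
      refine memLocalIdeal_sum hM _ fun C _ => ?_
      by_cases hC : IsConj g ((C.out : H) : G)
      · exact memLocalIdeal_mul_left hM (isIntegralElt_res (isIntegralElt_classElt hM g) H _) (hcon _ hC)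
      · rw [coeff_res, coeff_classElt, if_neg hC, zero_mul]
        exact memLocalIdeal_zero hM
    simpa using memLocalIdeal_sub hM h2 h1
  have h2 := le_centExp hM ξ hu
  rw [← centExp_eq_blockDefect hM hind.2.1 hg, blockDefect_eq hs]
  refine h2.trans ?_
  obtain ⟨c, hc⟩ := isConj_iff.1 hgh
  rw [centExp, centExp, card_centralizer_eq hgh]
  refine (Nat.factorization_le_iff_dvd Nat.card_pos.ne' Nat.card_pos.ne').2 ?_ p
  rw [← Subgroup.card_map_of_injective H.subtype_injective]
  refine Subgroup.card_dvd_of_le ?_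
  rintro _ ⟨w, hw, rfl⟩
  exact Subgroup.mem_centralizer_singleton_iff.2 (congrArg Subtype.val (Subgroup.mem_centralizer_singleton_iff.1 hw))

/-- Products of idempotents killed by all central characters are small. -/
theorem isSmall_res_mul (hM : IsPModular p M) (hQ : IsPGroup p Q) (hH : ∀ g, g ∈ H ↔ ∀ q ∈ Q, q * g = g * q)
    {e : MonoidAlgebra ℂ G} (he : IsIdempotentElem e) (hec : IsClassElt e) (hei : IsIntegralElt M e)
    {f : MonoidAlgebra ℂ H} (hf : IsIdempotentElem f) (hfc : IsClassElt f) (hfi : IsIntegralElt M f)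
    (h : ∀ ξ : IrrCharacter H, MemLocalIdeal M (omega (ξ : H → ℂ) (res H e) * omega (ξ : H → ℂ) f)) :
    IsSmall M (res H e * f) := by
  obtain ⟨N, hN0, hN⟩ := exists_pow_isSmall hM ((isClassElt_res hec H).mul hfc) (fun ξ => by
    rw [omega_mul ξ.2 (isClassElt_res hec H)]; exact h ξ)
  obtain ⟨n, rfl⟩ : ∃ n, N = n + 1 := ⟨N - 1, by omega⟩
  have hpow := res_pow_congr hM hQ hH hei (IsClassElt.conjInv hec Q) (n + 1)
  rw [he.pow_succ_eq n] at hpow
  rw [(isClassElt_res hec H).commute f |>.mul_pow, hf.pow_succ_eq n] at hN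
  refine IsSmall.of_congr hM (w := res H e ^ (n + 1) * f) ?_ hN
  intro c
  have := IsSmall.mul_right hM (z := res H e - res H e ^ (n + 1)) (fun d => by
    rw [MonoidAlgebra.coeff_sub, Finsupp.sub_apply]; exact hpow d) hfi c
  rwa [sub_mul, MonoidAlgebra.coeff_sub, Finsupp.sub_apply] at this

/-- A `p`-subgroup centralized by a defect group has an inducing block of no smaller defect in its centralizer. -/
theorem exists_inducing_defect_ge (hM : IsPModular p M) (hQ : IsPGroup p Q)
    (hH : ∀ g, g ∈ H ↔ ∀ q ∈ Q, q * g = g * q) {B : Set (IrrCharacter G)} (hB : IsPBlock M B) {D : Subgroup G}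
    (hD : IsDefectGroup p M B D) (hQD : Q ≤ D) (hDH : D ≤ H) :
    ∃ b, IsInducedBlock M H b B ∧ blockDefect p B ≤ blockDefect p b := by
  classical
  haveI : Fintype (IrrCharacter H) := @Fintype.ofFinite _ finite_irrCharacter
  haveI := Fact.mk hM.1
  have hDcard := card_defectGroup hM hB hD
  obtain ⟨g, hg, P, hP⟩ := hD
  have hDC : D ≤ Subgroup.centralizer ({g} : Set G) := hP ▸ Subgroup.map_subtype_le _
  have hgH : g ∈ H := (hH g).2 fun q hq => Subgroup.mem_centralizer_singleton_iff.1 (hDC (hQD hq))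
  set e := blockElt B with he
  set S := (blockFinset M H).filter fun b => IsInducedBlock M H b B with hS
  set f := ∑ b ∈ S, blockElt b with hf
  have hωf : ∀ ξ : IrrCharacter H,
      omega (ξ : H → ℂ) f = if IsInducedBlock M H (blockOf M (ξ : H → ℂ)) B then 1 else 0 := by
    intro ξ
    rw [hf, ZStar.omega_sum]
    by_cases hi : IsInducedBlock M H (blockOf M (ξ : H → ℂ)) B
    · rw [if_pos hi, Finset.sum_eq_single_of_mem (blockOf M (ξ : H → ℂ))
        (Finset.mem_filter.2 ⟨mem_blockFinset.2 (isPBlock_blockOf M ξ), hi⟩) (fun b hb hne => ?_),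
        omega_blockElt, if_pos (mem_blockOf_self hM ξ)]
      rw [omega_blockElt, if_neg fun h =>
        hne (IsPBlock.eq_blockOf hM (mem_blockFinset.1 (Finset.mem_filter.1 hb).1) h)]
    · rw [if_neg hi]
      refine Finset.sum_eq_zero fun b hb => ?_
      rw [omega_blockElt, if_neg fun h => hi ?_]
      rw [← IsPBlock.eq_blockOf hM (mem_blockFinset.1 (Finset.mem_filter.1 hb).1) h]
      exact (Finset.mem_filter.1 hb).2
  have hfc : IsClassElt f := fun x y => by
    simp only [hf, MonoidAlgebra.coeff_sum, Finsupp.finsetSum_apply]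
    exact Finset.sum_congr rfl fun b _ => isClassElt_blockElt b x y
  have hfi : IsIntegralElt M f := fun x => by
    simp only [hf, MonoidAlgebra.coeff_sum, Finsupp.finsetSum_apply]
    exact memLocalRing_sum hM _ fun b hb => isIntegralElt_blockElt hM (mem_blockFinset.1 (Finset.mem_filter.1 hb).1) x
  have hfid : IsIdempotentElem f := eq_of_omega_eq (hfc.mul hfc) hfc fun ξ => by
    rw [omega_mul ξ.2 hfc, hωf]; split_ifs <;> simp
  have hec := isClassElt_blockElt B
  have hei := isIntegralElt_blockElt hM hB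
  have hkey : ∀ ξ : IrrCharacter H, MemLocalIdeal M (omega (ξ : H → ℂ) (res H e) - omega (ξ : H → ℂ) f) := by
    intro ξ
    obtain ⟨χ, hχ⟩ := IsPBlock.nonempty hM hB
    rw [hωf]
    split_ifs with hi
    · have h1 := omega_res_induced hM hi (mem_blockOf_self hM ξ) hχ hec hei
      rwa [omega_blockElt, if_pos hχ] at h1
    · rw [sub_zero]
      exact by_contra fun hns => hi (isInducedBlock_of_not_small hM hQ hH (isPBlock_blockOf M ξ) hB
        (mem_blockOf_self hM ξ) hns)
  have hA := isSmall_res_mul hM hQ hH (isIdempotentElem_blockElt B) hec hei hfid.one_sub (isClassElt_one.sub hfc)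
    ((isIntegralElt_one hM).sub hM hfi) (fun ξ => by
      rw [omega_sub, omega_one ξ.2]
      have h1 := hkey ξ
      rw [hωf] at h1 ⊢
      split_ifs at h1 ⊢
      · rw [sub_self, mul_zero]; exact memLocalIdeal_zero hM
      · rw [sub_zero] at h1; simpa using h1)
  have hB' := isSmall_res_mul hM hQ hH (isIdempotentElem_blockElt B).one_sub (isClassElt_one.sub hec)
    ((isIntegralElt_one hM).sub hM hei) hfid hfc hfi (fun ξ => by
      rw [res_sub, res_one, omega_sub, omega_one ξ.2]
      have h1 := hkey ξ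
      rw [hωf] at h1 ⊢
      split_ifs at h1 ⊢
      · rw [mul_one]; simpa using memLocalIdeal_neg h1
      · rw [mul_zero]; exact memLocalIdeal_zero hM)
  obtain ⟨b, hb, hunit⟩ : ∃ b ∈ S, ¬ MemLocalIdeal M (blockCoeff b ⟨g, hgH⟩) := by
    by_contra hcon
    push Not at hcon
    refine hg.2.1 ?_
    have h1 := memLocalIdeal_sub hM (hA ⟨g, hgH⟩) (hB' ⟨g, hgH⟩)
    have e1 : res H e * (1 - f) - res H (1 - e) * f = res H e - f := by
      rw [res_sub, res_one, mul_sub, mul_one, sub_mul, one_mul]; abel
    rw [← Finsupp.sub_apply, ← MonoidAlgebra.coeff_sub, e1, MonoidAlgebra.coeff_sub, Finsupp.sub_apply,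
      coeff_res, he, coeff_blockElt] at h1
    have h2 : MemLocalIdeal M (f.coeff ⟨g, hgH⟩) := by
      simp only [hf, MonoidAlgebra.coeff_sum, Finsupp.finsetSum_apply, coeff_blockElt]
      exact memLocalIdeal_sum hM _ hcon
    simpa using memLocalIdeal_add hM h1 h2
  have hind := (Finset.mem_filter.1 hb).2
  refine ⟨b, hind, ?_⟩
  obtain ⟨y, hy⟩ := exists_defectClass hM hind.1
  obtain ⟨ξ, hξ⟩ := IsPBlock.nonempty hM hind.1
  have h3 := centExp_le hM hind.1 hξ hunit (hy.2.2 ξ hξ)
  rw [centExp_eq_blockDefect hM hind.1 hy] at h3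
  refine le_trans ?_ h3
  refine (hM.1.pow_dvd_iff_le_factorization Nat.card_pos.ne').1 ?_
  rw [← hDcard, ← Subgroup.card_map_of_injective H.subtype_injective]
  refine Subgroup.card_dvd_of_le fun d hd => ?_
  exact ⟨⟨d, hDH hd⟩, Subgroup.mem_centralizer_singleton_iff.2
    (Subtype.ext (Subgroup.mem_centralizer_singleton_iff.1 (hDC hd))), rfl⟩

end CfsgLib.Blocks
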