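import Cfsg.Agent.Blocks.PCentralProd

/-!
# The inertial index criterion for full defect
-/

set_option linter.unusedSectionVars false
set_option linter.style.haveILetI false

namespace CfsgLib.Blocks

open Cfsg CfsgLib.CharBasics CfsgLib.ZStar

universe u

variable {G : Type u} [Group G] [Fintype G] {p : ℕ} {M : Ideal AlgInt} {P : Subgroup G}

/-- A pair on a defect group is maximal. -/
theorem isMaximal_of_defectGroup (hM : IsPModular p M) {B : Set (IrrCharacter G)} (hBP : IsDefectGroup p M B P)
    {e : Set (IrrCharacter (Subgroup.centralizer (P : Set G)))} (hpair : IsBrauerPairOf p M B P e) :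
    IsMaximalBrauerPair p M B P e := by
  refine ⟨hpair, fun R g hg hle => ?_⟩
  obtain ⟨w, hw, hwu⟩ := exists_pair_unit_coeff hM hg
  obtain ⟨D, hD, hRD⟩ := exists_defectGroup_ge hM hg.2.1 hwu hg.1.1 fun q hq => Subgroup.mem_centralizer_iff.1 hw q hq
  refine (Subgroup.eq_of_le_of_card_ge (subpairLE_le hM hle) ?_).symm
  rw [card_defectGroup hM hg.2.1 hBP, ← card_defectGroup hM hg.2.1 hD]
  exact Subgroup.card_le_of_le hRD

section Fixed

variable {A : Type u} [Group A] [Fintype A]

theorem conjClasses_map_id (C : ConjClasses A) : ConjClasses.map (MulEquiv.refl A).toMonoidHom C = C := by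
  induction C using Quotient.inductionOn
  rfl

theorem conjClasses_map_trans (φ ψ : A ≃* A) (C : ConjClasses A) :
    ConjClasses.map (φ.trans ψ).toMonoidHom C = ConjClasses.map ψ.toMonoidHom (ConjClasses.map φ.toMonoidHom C) := by
  induction C using Quotient.inductionOn
  rfl

theorem isConj_map_out (φ : A ≃* A) (C : ConjClasses A) :
    IsConj ((ConjClasses.map φ.toMonoidHom C).out) (φ C.out) := by
  refine ConjClasses.mk_eq_mk_iff_isConj.1 ?_
  refine Eq.trans (Quotient.out_eq (ConjClasses.map φ.toMonoidHom C)) ?_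
  exact (congrArg (ConjClasses.map φ.toMonoidHom) (Quotient.out_eq C).symm).trans rfl

theorem blockCoeff_isConj (B : Set (IrrCharacter A)) {x y : A} (h : IsConj x y) : blockCoeff B x = blockCoeff B y := by
  obtain ⟨c, rfl⟩ := isConj_iff.1 h
  rw [← coeff_blockElt, ← coeff_blockElt, coeff_conj (isClassElt_blockElt B)]

theorem centralChar_isConj (χ : IrrCharacter A) {x y : A} (h : IsConj x y) :
    centralChar (χ : A → ℂ) x = centralChar (χ : A → ℂ) y := by
  rw [← omega_classElt χ.2, ← omega_classElt χ.2]
  congr 1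
  classical
  ext z
  rw [coeff_classElt, coeff_classElt]
  exact if_congr ⟨fun k => h.symm.trans k, fun k => h.trans k⟩ rfl rfl

variable {R : Type*} [Group R] [Finite R]

/-- A defect class of a stable block fixed by a `p`-group of automorphisms. -/
theorem exists_fixed_defectClass (hM : IsPModular p M) (hR : IsPGroup p R) (σ : R → A ≃* A)
    (h1 : σ 1 = MulEquiv.refl A) (hmul : ∀ r s, σ (r * s) = (σ s).trans (σ r)) {b : Set (IrrCharacter A)}
    (hb : IsPBlock M b) (hst : ∀ r, pushBlock (σ r) b = b) :
    ∃ y : A, IsDefectClass M b y ∧ ∀ r, IsConj y (σ r y) := by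
  classical
  haveI : Fintype (ConjClasses A) := Fintype.ofFinite _
  letI : MulAction R (ConjClasses A) :=
    { smul := fun r C => ConjClasses.map (σ r).toMonoidHom C
      one_smul := fun C => by
        show ConjClasses.map (σ 1).toMonoidHom C = C
        rw [h1, conjClasses_map_id]
      mul_smul := fun r s C => by
        show ConjClasses.map (σ (r * s)).toMonoidHom C =
          ConjClasses.map (σ r).toMonoidHom (ConjClasses.map (σ s).toMonoidHom C)
        rw [hmul, conjClasses_map_trans] }
  obtain ⟨ξ, hξ⟩ := IsPBlock.nonempty hM hb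
  let rep : ConjClasses A → ConjClasses A := fun C => (Quotient.mk'' C : MulAction.orbitRel.Quotient R (ConjClasses A)).out
  let F : ConjClasses A → ℂ := fun C => blockCoeff b C.out * centralChar (ξ : A → ℂ) (rep C).out
  have hbc : ∀ (r : R) (a : A), blockCoeff b (σ r a) = blockCoeff b a := fun r a => by
    conv_lhs => rw [← hst r]
    exact blockCoeff_pushBlock _ _ _
  have hcc : ∀ (r : R) (a : A),
      MemLocalIdeal M (centralChar (ξ : A → ℂ) (σ r a) - centralChar (ξ : A → ℂ) a) := by
    intro r a
    obtain ⟨η, hη, he⟩ : ξ ∈ pushBlock (σ r) b := (hst r).symm ▸ hξ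
    rw [← he, centralChar_pushChar, he]
    exact (IsPBlock.mem_iff hM hb hη).1 hξ a
  have hF : ∀ (r : R) (C : ConjClasses A), F (r • C) = F C := by
    intro r C
    have e1 : rep (r • C) = rep C := congrArg Quotient.out
      (Quotient.eq''.2 (⟨r, rfl⟩ : r • C ∈ MulAction.orbit R C))
    simp only [F, e1]
    have h3 : IsConj (r • C).out (σ r C.out) := isConj_map_out (σ r) C
    rw [blockCoeff_isConj b h3, hbc]
  have hFR : ∀ C, MemLocalRing M (F C) := fun C =>
    memLocalRing_mul hM (memLocalRing_blockCoeff hM hb _) (memLocalRing_centralChar hM ξ _)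
  have hdiff : ∀ C, MemLocalIdeal M (F C - blockCoeff b C.out * centralChar (ξ : A → ℂ) C.out) := by
    intro C
    obtain ⟨r, hr⟩ : rep C ∈ MulAction.orbit R C :=
      Quotient.eq''.1 (Quotient.out_eq' (Quotient.mk'' C : MulAction.orbitRel.Quotient R (ConjClasses A)))
    have hr' : r • C = rep C := hr
    simp only [F, ← mul_sub, ← hr']
    have h3 : IsConj (r • C).out (σ r C.out) := isConj_map_out (σ r) C
    rw [centralChar_isConj ξ h3]
    exact memLocalIdeal_mul_left hM (memLocalRing_blockCoeff hM hb _) (hcc r _)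
  have hsum := sum_sub_fixed_mem hM hR F hF hFR
  by_contra hcon
  push Not at hcon
  refine not_memLocalIdeal_one hM ?_
  have h0 : omega (ξ : A → ℂ) (blockElt b) = 1 := by rw [omega_blockElt, if_pos hξ]
  rw [omega_eq_sum_classes ξ (isClassElt_blockElt b)] at h0
  simp only [coeff_blockElt] at h0
  have hfix : MemLocalIdeal M (∑ C, if (∀ r : R, r • C = C) then F C else 0) := by
    refine memLocalIdeal_sum hM _ fun C _ => ?_
    split_ifs with hC
    swap
    · exact memLocalIdeal_zero hM
    by_cases hu : MemLocalIdeal M (blockCoeff b C.out)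
    · exact memLocalIdeal_mul_right hM hu (memLocalRing_centralChar hM ξ _)
    by_cases hω : MemLocalIdeal M (centralChar (ξ : A → ℂ) C.out)
    · have := memLocalIdeal_add hM (hdiff C) (memLocalIdeal_mul_left hM (memLocalRing_blockCoeff hM hb C.out) hω)
      simpa using this
    obtain ⟨r, hr⟩ := hcon C.out ⟨memLocalRing_blockCoeff hM hb _, hu, fun χ hχ h => hω (by
      simpa using memLocalIdeal_add hM ((IsPBlock.mem_iff hM hb hξ).1 hχ C.out) h)⟩
    refine absurd ?_ hr
    have h3 := isConj_map_out (σ r) C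
    rw [show ConjClasses.map (σ r).toMonoidHom C = C from hC r] at h3
    exact h3
  have h4 : MemLocalIdeal M (∑ C, F C) := by simpa using memLocalIdeal_add hM hsum hfix
  have h5 : MemLocalIdeal M (∑ C : ConjClasses A, (F C - blockCoeff b C.out * centralChar (ξ : A → ℂ) C.out)) :=
    memLocalIdeal_sum hM _ fun C _ => hdiff C
  rw [Finset.sum_sub_distrib, h0] at h5
  simpa using memLocalIdeal_sub hM h4 h5

end Fixed

variable {H T : Subgroup G} [Fintype H]

/-- `P` is a defect group of the induced block iff the inertial index is prime to `p`. -/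
theorem isDefectGroup_induced_iff (hM : IsPModular p M) (hP : IsPGroup p P)
    (hH : H = P ⊔ Subgroup.centralizer (P : Set G)) {b : Set (IrrCharacter H)} (hb : IsPBlock M b)
    (hbP : IsDefectGroup p M b (P.subgroupOf H)) {B : Set (IrrCharacter G)} (hind : IsInducedBlock M H b B)
    (hT : ∀ g : G, g ∈ T ↔ g ∈ Subgroup.normalizer (P : Set G) ∧ StabilizesBlock H b g) :
    IsDefectGroup p M B P ↔ ¬ p ∣ H.relIndex T := by
  classical
  haveI := Fact.mk hM.1
  have hp := hM.1
  have hCH : Subgroup.centralizer (P : Set G) ≤ H := hH ▸ le_sup_right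
  have hPH : P ≤ H := hH ▸ le_sup_left
  have hHN : H ≤ Subgroup.normalizer (P : Set G) := by
    rw [hH]; exact sup_le Subgroup.le_normalizer (Subgroup.centralizer_le_normalizer _)
  have hNH : Subgroup.normalizer (P : Set G) ≤ Subgroup.normalizer (H : Set G) :=
    hH ▸ normalizer_le_normalizer_sup P
  have hHT : H ≤ T := fun x hx => (hT x).2 ⟨hHN hx, stabilizes_of_mem hH hCH b hx⟩
  have hTN : T ≤ Subgroup.normalizer (H : Set G) := fun x hx => hNH ((hT x).1 hx).1
  haveI hHn : (H.subgroupOf T).Normal := (Subgroup.normal_subgroupOf_iff_le_normalizer hHT).2 hTN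
  obtain ⟨ξ, hξ⟩ := IsPBlock.nonempty hM hb
  obtain ⟨θ, hl⟩ := exists_liesOver hH hCH ξ
  set e := blockOf M (θ : Subgroup.centralizer (P : Set G) → ℂ) with he
  have hpair : IsBrauerPairOf p M B P e := isBrauerPairOf_of_induced hH hCH hM hP hind hξ hl
  have hcardP : Nat.card P = p ^ blockDefect p b := by
    rw [← card_defectGroup hM hb hbP, Nat.card_congr (Subgroup.subgroupOfEquivOfLe hPH).toEquiv]
  constructor
  · intro hBP hdvd
    set S : Subgroup T := ((default : Sylow p T) : Subgroup T)
    have hSp : IsPGroup p S := (default : Sylow p T).2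
    let σ : S → H ≃* H := fun r => conjK (hTN (r : T).2)
    have h1 : σ 1 = MulEquiv.refl H := MulEquiv.ext fun k => Subtype.ext (by simp [σ, coe_conjK])
    have hmul : ∀ r s, σ (r * s) = (σ s).trans (σ r) := fun r s =>
      MulEquiv.ext fun k => Subtype.ext (by simp [σ, coe_conjK, mul_assoc])
    have hst : ∀ r, pushBlock (σ r) b = b := fun r => by
      obtain ⟨hx, hxe⟩ := stabilizesBlock_iff.1 ((hT _).1 (r : T).2).2
      exact hxe
    obtain ⟨y, hy, hfix⟩ := exists_fixed_defectClass hM hSp σ h1 hmul hb hst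
    have hyC : (y : G) ∈ Subgroup.centralizer (P : Set G) := by
      by_contra h
      exact hy.2.2 ξ hξ (centralChar_mem_of_notMem hH hCH hM hP ξ h)
    let y' : T := ⟨(y : G), hHT y.2⟩
    set C' := Subgroup.centralizer ({y'} : Set T) with hC'
    set H' := H.subgroupOf T with hH'
    have hSle : S ≤ H' ⊔ C' := by
      intro s hs
      obtain ⟨k, hk⟩ := isConj_iff.1 (hfix ⟨s, hs⟩)
      have hk' : (k : G) * (y : G) * (k : G)⁻¹ = (s : G) * (y : G) * (s : G)⁻¹ := congrArg Subtype.val hk
      have hmem : (⟨(k : G), hHT k.2⟩ : T)⁻¹ * s ∈ C' := by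
        rw [hC', Subgroup.mem_centralizer_singleton_iff]
        apply Subtype.ext
        show (k : G)⁻¹ * (s : G) * (y : G) = (y : G) * ((k : G)⁻¹ * (s : G))
        calc (k : G)⁻¹ * (s : G) * (y : G) = (k : G)⁻¹ * ((s : G) * (y : G) * (s : G)⁻¹) * (s : G) := by group
          _ = (k : G)⁻¹ * ((k : G) * (y : G) * (k : G)⁻¹) * (s : G) := by rw [hk']
          _ = _ := by group
      have := mul_mem (Subgroup.mem_sup_left (T := C') (show (⟨(k : G), hHT k.2⟩ : T) ∈ H' from k.2))
        (Subgroup.mem_sup_right (S := H') hmem)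
      simpa using this
    -- count
    have hnd : ¬ p ∣ (H' ⊔ C').index := fun h =>
      (default : Sylow p T).not_dvd_index (h.trans (Subgroup.index_dvd_of_le hSle))
    have hsup : Nat.card (H' ⊔ C' : Subgroup T) * Nat.card (H' ⊓ C' : Subgroup T) = Nat.card H' * Nat.card C' := by
      have hr := Subgroup.relIndex_sup_right C' H'
      have e1 := Subgroup.card_mul_index (H'.subgroupOf (C' ⊔ H'))
      have e2 := Subgroup.card_mul_index (H'.subgroupOf C')
      rw [show (H'.subgroupOf (C' ⊔ H')).index = H'.relIndex (C' ⊔ H') from rfl, hr,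
        Nat.card_congr (Subgroup.subgroupOfEquivOfLe (le_sup_right : H' ≤ C' ⊔ H')).toEquiv] at e1
      rw [show (H'.subgroupOf C').index = H'.relIndex C' from rfl,
        ← Subgroup.inf_subgroupOf_right H' C',
        Nat.card_congr (Subgroup.subgroupOfEquivOfLe (inf_le_right : H' ⊓ C' ≤ C')).toEquiv] at e2
      rw [sup_comm, ← e1, ← e2]
      ring
    have hinter : Nat.card (H' ⊓ C' : Subgroup T) = Nat.card (Subgroup.centralizer ({y} : Set H)) := by
      refine Nat.card_congr
        { toFun := fun t => ⟨⟨((t : T) : G), t.2.1⟩, Subgroup.mem_centralizer_singleton_iff.2 (Subtype.ext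
            (congrArg Subtype.val (Subgroup.mem_centralizer_singleton_iff.1 t.2.2) :))⟩
          invFun := fun k => ⟨⟨((k : H) : G), hHT (k : H).2⟩, ((k : H).2 : _), Subgroup.mem_centralizer_singleton_iff.2
            (Subtype.ext (congrArg Subtype.val (Subgroup.mem_centralizer_singleton_iff.1 k.2) :))⟩
          left_inv := fun t => rfl
          right_inv := fun k => rfl }
    have hd : (Nat.card (Subgroup.centralizer ({y} : Set H))).factorization p = blockDefect p b :=
      centExp_eq_blockDefect hM hb hy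
    have hlt : blockDefect p b < (Nat.card C').factorization p := by
      have e1 := congrArg (fun n => n.factorization p) hsup
      simp only [Nat.factorization_mul Nat.card_pos.ne' Nat.card_pos.ne', Finsupp.add_apply] at e1
      rw [hinter, hd, Nat.card_congr (Subgroup.subgroupOfEquivOfLe hHT).toEquiv] at e1
      have e2 := congrArg (fun n => n.factorization p) (Subgroup.card_mul_index (H' ⊔ C'))
      simp only [Nat.factorization_mul Nat.card_pos.ne' Subgroup.index_ne_zero_of_finite, Finsupp.add_apply,
        Nat.factorization_eq_zero_of_not_dvd hnd, add_zero] at e2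
      have e3 := congrArg (fun n => n.factorization p) (Subgroup.card_mul_index H')
      simp only [Nat.factorization_mul Nat.card_pos.ne' Subgroup.index_ne_zero_of_finite, Finsupp.add_apply] at e3
      rw [Nat.card_congr (Subgroup.subgroupOfEquivOfLe hHT).toEquiv] at e3
      have e4 : 1 ≤ H'.index.factorization p :=
        hp.factorization_pos_of_dvd Subgroup.index_ne_zero_of_finite hdvd
      omega
    have hPT : P ≤ T := hPH.trans hHT
    have hPC' : P.subgroupOf T ≤ C' := fun q hq => by
      rw [hC', Subgroup.mem_centralizer_singleton_iff]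
      exact Subtype.ext (Subgroup.mem_centralizer_iff.1 hyC _ hq)
    obtain ⟨Q, hQ⟩ :=
      (((hP.of_equiv (Subgroup.subgroupOfEquivOfLe hPT).symm)).of_equiv
        (Subgroup.subgroupOfEquivOfLe hPC').symm).exists_le_sylow
    set R := ((Q : Subgroup C').map C'.subtype).map T.subtype with hR
    have hRp : IsPGroup p R := (Q.2.map _).map _
    have hPR : P ≤ R := fun q hq =>
      ⟨⟨q, hPT hq⟩, ⟨⟨⟨q, hPT hq⟩, hPC' hq⟩, hQ hq, rfl⟩, rfl⟩
    have hRT : R ≤ T := Subgroup.map_subtype_le _
    have hRy : ∀ r ∈ R, r * (y : G) = (y : G) * r := by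
      rintro _ ⟨t, ⟨c, -, rfl⟩, rfl⟩
      exact congrArg Subtype.val (Subgroup.mem_centralizer_singleton_iff.1 c.2)
    have hRcard : Nat.card P < Nat.card R := by
      rw [hR, Subgroup.card_map_of_injective T.subtype_injective, Subgroup.card_map_of_injective C'.subtype_injective,
        Q.card_eq_multiplicity, hcardP]
      exact Nat.pow_lt_pow_right hp.one_lt hlt
    have hRN : R ≤ Subgroup.normalizer (P : Set G) := fun r hr => ((hT r).1 (hRT hr)).1
    have hRst : ∀ x ∈ R, StabilizesBlock (Subgroup.centralizer (P : Set G)) e x := fun x hx =>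
      (stable_liesOver hH hCH hb hM hP hξ hl (hRN hx) (hTN (hRT hx))).1 ((hT x).1 (hRT hx)).2
    have hyR : (y : G) ∈ Subgroup.centralizer (R : Set G) := Subgroup.mem_centralizer_iff.2 hRy
    obtain ⟨g, hg⟩ := exists_normal_above hM hpair.1 hRp hPR hRN hRst (v := ⟨(y : G), hyC⟩) hyR
      (by rw [← blockCoeff_of_liesOver hH hCH hM hP hb hξ hl]; exact hy.2.1)
    have hmax := isMaximal_of_defectGroup hM hBP hpair
    have := hmax.2 R g ((brauerPairOf_step hM hg hind.2.1).2 hpair) (Relation.ReflTransGen.single hg)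
    rw [this] at hRcard
    exact lt_irrefl _ hRcard
  · intro hidx
    obtain ⟨D, g, hg, hle⟩ := exists_maximal_above hM hpair
    have hPD : P ≤ D := subpairLE_le hM hle
    by_cases heq : D = P
    · exact heq ▸ (maximal_key hM hg).2
    exfalso
    have hDp := hg.1.1.1
    set R := D ⊓ Subgroup.normalizer (P : Set G) with hR
    have hRN : R ≤ Subgroup.normalizer (P : Set G) := inf_le_right
    have hPR : P ≤ R := le_inf hPD Subgroup.le_normalizer
    have hlt : P < R := by
      refine lt_of_le_of_ne hPR fun h => ?_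
      haveI : Group.IsNilpotent D := hDp.isNilpotent
      have hne : P.subgroupOf D < ⊤ := lt_top_iff_ne_top.2 fun h' =>
        heq (le_antisymm (Subgroup.subgroupOf_eq_top.1 h') hPD)
      have hn := Group.normalizerCondition_of_isNilpotent (P.subgroupOf D) hne
      rw [← Subgroup.subgroupOf_normalizer_eq hPD] at hn
      refine hn.not_ge fun z hz => ?_
      rw [Subgroup.mem_subgroupOf] at hz ⊢
      rw [h]
      exact ⟨z.2, hz⟩
    obtain ⟨g₁, hg₁, hg₁le⟩ := exists_below hM hDp hg.1.1.2 (inf_le_left : R ≤ D)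
    have hRp : IsPGroup p R := hDp.to_le inf_le_left
    obtain ⟨f, hf, -⟩ := existsUnique_normalSubpair hM hRp hPR hRN hg₁
    have hfe : f = e := below_unique hM hDp hg.1.1.2
      ((show SubpairLE p M P f R g₁ from Relation.ReflTransGen.single hf).trans hg₁le) hle
    subst hfe
    haveI := Fintype.ofFinite (Subgroup.centralizer (P : Set G))
    haveI := Fintype.ofFinite (Subgroup.centralizer (R : Set G))
    obtain ⟨η, hη⟩ := IsPBlock.nonempty hM hg₁
    obtain ⟨-, hst, h1⟩ := (isNormalSubpair_iff hM hRp hPR hRN hg₁ hη).1 hf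
    have hCR : Subgroup.centralizer (R : Set G) ≤ Subgroup.centralizer (P : Set G) :=
      Subgroup.centralizer_le (SetLike.coe_subset_coe.2 hPR)
    obtain ⟨v, hv⟩ : ∃ v : Subgroup.centralizer (R : Set G),
        ¬ MemLocalIdeal M (blockCoeff e ⟨(v : G), hCR v.2⟩) := by
      by_contra hcon
      push Not at hcon
      refine not_memLocalIdeal_one hM ?_
      have h2 : MemLocalIdeal M (phi R (Subgroup.centralizer (P : Set G)) η (blockElt e)) := by
        refine memLocalIdeal_omega hM η (isClassElt_res_extElt (P := R) hCR (isClassElt_blockElt e)) fun c => ?_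
        rw [coeff_res, coeff_extElt_mem _ _ (hCR c.2), coeff_blockElt]
        exact hcon c
      simpa using memLocalIdeal_sub hM h2 h1
    have hRT : R ≤ T := fun x hx =>
      (hT x).2 ⟨hRN hx, (stable_liesOver hH hCH hb hM hP hξ hl (hRN hx) (hNH (hRN hx))).2 (hst x hx)⟩
    have hRH : R ≤ H := by
      intro x hx
      obtain ⟨k, hk⟩ := hRp ⟨x, hx⟩
      have hxk : (⟨x, hRT hx⟩ : T) ^ p ^ k = 1 := Subtype.ext (congrArg Subtype.val hk :)
      have hpow := Subgroup.pow_index_mem (H.subgroupOf T) (⟨x, hRT hx⟩ : T)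
      have hcop : Nat.Coprime (H.subgroupOf T).index (p ^ k) :=
        ((hp.coprime_iff_not_dvd.2 hidx).symm).pow_right k
      have hord : (orderOf (⟨x, hRT hx⟩ : T)) ∣ p ^ k := orderOf_dvd_of_pow_eq_one hxk
      obtain ⟨j, hj⟩ := exists_pow_eq_self_of_coprime (Nat.Coprime.coprime_dvd_right hord hcop)
      have := Subgroup.pow_mem _ hpow j
      rw [hj] at this
      exact this
    have hle' := card_le_of_unit_coeff hH hCH hM hb hRp hRH (v := ⟨(v : G), hCH (hCR v.2)⟩)
      (fun r hr => Subgroup.mem_centralizer_iff.1 v.2 r hr)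
      (by rw [blockCoeff_of_liesOver hH hCH hM hP hb hξ hl ⟨(v : G), hCR v.2⟩]; exact hv)
    rw [← hcardP] at hle'
    exact hlt.ne (Subgroup.eq_of_le_of_card_ge hPR hle')

end CfsgLib.Blocks
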