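import Cfsg.Prelude.Def_BrauerPairs
import Cfsg.Agent.Blocks.Transport
import Cfsg.Agent.Blocks.InducedDefect
import Cfsg.Agent.Blocks.Glauberman

/-!
# The Brauer map on the blocks of a subgroup and Brauer pairs
-/

set_option linter.unusedSectionVars false
set_option linter.style.haveILetI false

namespace CfsgLib.Blocks

open Cfsg CfsgLib.CharBasics CfsgLib.ZStar
open scoped ComplexConjugate

universe u

variable {G : Type u} [Group G] [Fintype G] {p : ℕ} {M : Ideal AlgInt}

/-- Extension by zero from a subgroup. -/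
noncomputable def extElt (K : Subgroup G) (z : MonoidAlgebra ℂ K) : MonoidAlgebra ℂ G := by
  classical exact ofFun fun g => if h : g ∈ K then z.coeff ⟨g, h⟩ else 0

theorem coeff_extElt_coe (K : Subgroup G) (z : MonoidAlgebra ℂ K) (k : K) :
    (extElt K z).coeff (k : G) = z.coeff k := by
  rw [extElt, coeff_ofFun, dif_pos k.2]

theorem coeff_extElt_of_notMem (K : Subgroup G) (z : MonoidAlgebra ℂ K) {g : G} (hg : g ∉ K) :
    (extElt K z).coeff g = 0 := by
  rw [extElt, coeff_ofFun, dif_neg hg]

theorem coeff_extElt_mem (K : Subgroup G) (z : MonoidAlgebra ℂ K) {g : G} (hg : g ∈ K) :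
    (extElt K z).coeff g = z.coeff ⟨g, hg⟩ := coeff_extElt_coe K z ⟨g, hg⟩

theorem extElt_sub (K : Subgroup G) (z w : MonoidAlgebra ℂ K) : extElt K (z - w) = extElt K z - extElt K w := by
  ext g
  by_cases hg : g ∈ K
  · simp [coeff_extElt_mem K _ hg]
  · simp [coeff_extElt_of_notMem K _ hg]

theorem extElt_smul (K : Subgroup G) (c : ℂ) (z : MonoidAlgebra ℂ K) : extElt K (c • z) = c • extElt K z := by
  ext g
  by_cases hg : g ∈ K
  · simp [coeff_extElt_mem K _ hg]
  · simp [coeff_extElt_of_notMem K _ hg]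

theorem extElt_sum (K : Subgroup G) {ι : Type*} (s : Finset ι) (z : ι → MonoidAlgebra ℂ K) :
    extElt K (∑ i ∈ s, z i) = ∑ i ∈ s, extElt K (z i) := by
  ext g
  by_cases hg : g ∈ K
  · simp [coeff_extElt_mem K _ hg, MonoidAlgebra.coeff_sum, Finset.sum_apply']
  · simp [coeff_extElt_of_notMem K _ hg, MonoidAlgebra.coeff_sum, Finset.sum_apply']

theorem extElt_one (K : Subgroup G) : extElt K (1 : MonoidAlgebra ℂ K) = 1 := by
  classical
  ext g
  simp only [MonoidAlgebra.one_def, MonoidAlgebra.coeff_single, Finsupp.single_apply]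
  by_cases hg : g ∈ K
  · rw [coeff_extElt_mem K _ hg, MonoidAlgebra.coeff_single, Finsupp.single_apply]
    exact if_congr ⟨fun h => congrArg Subtype.val h, fun h => Subtype.ext h⟩ rfl rfl
  · rw [coeff_extElt_of_notMem K _ hg, if_neg]
    rintro rfl; exact hg K.one_mem

theorem extElt_mul (K : Subgroup G) [Fintype K] (z w : MonoidAlgebra ℂ K) :
    extElt K (z * w) = extElt K z * extElt K w := by
  classical
  ext g
  rw [ZStar.coeff_mul_eq]
  have h1 : ∑ h : G, (extElt K z).coeff h * (extElt K w).coeff (h⁻¹ * g) =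
      ∑ k : K, z.coeff k * (extElt K w).coeff ((k : G)⁻¹ * g) := by
    rw [← Finset.sum_filter_add_sum_filter_not Finset.univ (· ∈ K)]
    rw [Finset.sum_eq_zero (s := Finset.univ.filter fun x => ¬ x ∈ K) fun h hh => by
      rw [coeff_extElt_of_notMem K _ (Finset.mem_filter.1 hh).2, zero_mul], add_zero,
      Finset.sum_subtype (p := (· ∈ K)) (Finset.univ.filter (· ∈ K)) (by simp)]
    exact Finset.sum_congr rfl fun k _ => by rw [coeff_extElt_coe]
  rw [h1]
  by_cases hg : g ∈ K
  · rw [coeff_extElt_mem K _ hg, ZStar.coeff_mul_eq]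
    exact Finset.sum_congr rfl fun k _ => by
      rw [show ((k : G)⁻¹ * g) = ((k⁻¹ * ⟨g, hg⟩ : K) : G) from rfl, coeff_extElt_coe]
  · rw [coeff_extElt_of_notMem K _ hg]
    exact (Finset.sum_eq_zero fun k _ => by
      rw [coeff_extElt_of_notMem K _ fun h => hg (by simpa using K.mul_mem k.2 h), mul_zero]).symm

theorem isIntegralElt_extElt (hM : IsPModular p M) (K : Subgroup G) [Fintype K] {z : MonoidAlgebra ℂ K}
    (hz : IsIntegralElt M z) : IsIntegralElt M (extElt K z) := fun g => by
  by_cases hg : g ∈ K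
  · rw [coeff_extElt_mem K _ hg]; exact hz _
  · rw [coeff_extElt_of_notMem K _ hg]; exact memLocalRing_zero hM

/-- Conjugation inside a normalized subgroup. -/
def conjK {K : Subgroup G} {x : G} (hx : x ∈ Subgroup.normalizer (K : Set G)) : K ≃* K where
  toFun k := ⟨x * k * x⁻¹, (Subgroup.mem_normalizer_iff.1 hx _).1 k.2⟩
  invFun k := ⟨x⁻¹ * k * x, (Subgroup.mem_normalizer_iff.1 hx _).2 (by simp [mul_assoc])⟩
  left_inv k := Subtype.ext (by simp [mul_assoc])
  right_inv k := Subtype.ext (by simp [mul_assoc])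
  map_mul' k l := Subtype.ext (by simp [mul_assoc])

theorem coe_conjK {K : Subgroup G} {x : G} (hx : x ∈ Subgroup.normalizer (K : Set G)) (k : K) :
    (conjK hx k : G) = x * k * x⁻¹ := rfl

theorem conjK_mul {K : Subgroup G} {x y : G} (hx : x ∈ Subgroup.normalizer (K : Set G))
    (hy : y ∈ Subgroup.normalizer (K : Set G)) :
    (conjK hy).trans (conjK hx) = conjK ((Subgroup.normalizer (K : Set G)).mul_mem hx hy) :=
  MulEquiv.ext fun k => Subtype.ext (by simp [coe_conjK, mul_assoc])

theorem conjK_one {K : Subgroup G} (h : (1 : G) ∈ Subgroup.normalizer (K : Set G)) :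
    conjK h = MulEquiv.refl K :=
  MulEquiv.ext fun k => Subtype.ext (by simp [coe_conjK])

theorem stabilizesBlock_iff {K : Subgroup G} {f : Set (IrrCharacter K)} {x : G} :
    StabilizesBlock K f x ↔ ∃ hx : x ∈ Subgroup.normalizer (K : Set G), pushBlock (conjK hx) f = f := by
  haveI : Finite (IrrCharacter K) := finite_irrCharacter
  constructor
  · rintro ⟨hx, h⟩
    refine ⟨hx, Set.eq_of_subset_of_ncard_le ?_ ?_⟩
    · rintro _ ⟨χ, hχ, rfl⟩
      obtain ⟨χ', hχ', hc⟩ := h χ hχ
      convert hχ' using 1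
      refine Subtype.ext (funext fun k => ?_)
      obtain ⟨l, rfl⟩ := (conjK hx).surjective k
      rw [pushChar_apply, MulEquiv.symm_apply_apply]
      exact (hc l _ (coe_conjK hx l)).symm
    · exact (Set.ncard_image_of_injective f (pushChar_injective _)).ge
  · rintro ⟨hx, h⟩
    refine ⟨hx, fun χ hχ => ⟨pushChar (conjK hx) χ, h ▸ Set.mem_image_of_mem _ hχ, fun k k' hk => ?_⟩⟩
    rw [show k' = conjK hx k from Subtype.ext hk, pushChar_apply, MulEquiv.symm_apply_apply]

theorem blockCoeff_of_stable {K : Subgroup G} {f : Set (IrrCharacter K)} {x : G} (h : StabilizesBlock K f x)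
    (k k' : K) (hk : (k' : G) = x * k * x⁻¹) : blockCoeff f k' = blockCoeff f k := by
  obtain ⟨hx, hf⟩ := stabilizesBlock_iff.1 h
  rw [show k' = conjK hx k from Subtype.ext hk]
  conv_lhs => rw [← hf]
  exact blockCoeff_pushBlock _ f k

section Brauer

variable {P K : Subgroup G} [Fintype (Subgroup.centralizer (P : Set G))] [Fintype K]

/-- The central character of `ξ` at the Brauer image of an element of `ℂ K`. -/
noncomputable def phi (P K : Subgroup G) [Fintype (Subgroup.centralizer (P : Set G))]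
    (ξ : IrrCharacter (Subgroup.centralizer (P : Set G))) (z : MonoidAlgebra ℂ K) : ℂ :=
  omega (ξ : Subgroup.centralizer (P : Set G) → ℂ) (res (Subgroup.centralizer (P : Set G)) (extElt K z))

theorem brauerOmega_eq_omega (β : G → ℂ) (ξ : IrrCharacter (Subgroup.centralizer (P : Set G))) :
    brauerOmega P β (ξ : Subgroup.centralizer (P : Set G) → ℂ) =
      omega (ξ : Subgroup.centralizer (P : Set G) → ℂ) (res (Subgroup.centralizer (P : Set G)) (ofFun β)) := by
  rw [omega_res, brauerOmega, finsum_eq_sum_of_fintype, Finset.sum_div]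
  simp only [coeff_ofFun]

theorem brauerOmega_blockCoeff (B : Set (IrrCharacter G)) (ξ : IrrCharacter (Subgroup.centralizer (P : Set G))) :
    brauerOmega P (blockCoeff B) (ξ : Subgroup.centralizer (P : Set G) → ℂ) =
      omega (ξ : Subgroup.centralizer (P : Set G) → ℂ) (res (Subgroup.centralizer (P : Set G)) (blockElt B)) := by
  rw [brauerOmega_eq_omega]; rfl

theorem brauerOmega_subgroupBlockCoeff (f : Set (IrrCharacter K))
    (ξ : IrrCharacter (Subgroup.centralizer (P : Set G))) :
    brauerOmega P (subgroupBlockCoeff K f) (ξ : Subgroup.centralizer (P : Set G) → ℂ) = phi P K ξ (blockElt f) := by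
  rw [brauerOmega_eq_omega, phi]
  congr 2
  ext g
  rw [coeff_ofFun, subgroupBlockCoeff]
  by_cases hg : g ∈ K
  · rw [dif_pos hg, coeff_extElt_mem K _ hg, coeff_blockElt]
  · rw [dif_neg hg, coeff_extElt_of_notMem K _ hg]

theorem isClassElt_res_extElt (hCK : Subgroup.centralizer (P : Set G) ≤ K) {z : MonoidAlgebra ℂ K}
    (hz : IsClassElt z) : IsClassElt (res (Subgroup.centralizer (P : Set G)) (extElt K z)) := by
  intro a b
  simp only [coeff_res, Subgroup.coe_mul, Subgroup.coe_inv]
  rw [show ((b : G) * a * (b : G)⁻¹) = (((⟨b, hCK b.2⟩ : K) * ⟨a, hCK a.2⟩ * (⟨b, hCK b.2⟩ : K)⁻¹ : K) : G) from rfl,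
    coeff_extElt_coe, coeff_extElt_mem K z (hCK a.2)]
  exact coeff_conj hz _ _

theorem phi_one (ξ : IrrCharacter (Subgroup.centralizer (P : Set G))) :
    phi P K ξ (1 : MonoidAlgebra ℂ K) = 1 := by
  rw [phi, extElt_one, res_one, omega_one ξ.2]

theorem phi_sum (ξ : IrrCharacter (Subgroup.centralizer (P : Set G))) {ι : Type*} (s : Finset ι)
    (z : ι → MonoidAlgebra ℂ K) : phi P K ξ (∑ i ∈ s, z i) = ∑ i ∈ s, phi P K ξ (z i) := by
  rw [phi, extElt_sum, res_sum, ZStar.omega_sum]; rfl

theorem phi_sub (ξ : IrrCharacter (Subgroup.centralizer (P : Set G))) (z w : MonoidAlgebra ℂ K) :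
    phi P K ξ (z - w) = phi P K ξ z - phi P K ξ w := by
  rw [phi, extElt_sub, res_sub, omega_sub]; rfl

theorem phi_smul (ξ : IrrCharacter (Subgroup.centralizer (P : Set G))) (c : ℂ) (z : MonoidAlgebra ℂ K) :
    phi P K ξ (c • z) = c * phi P K ξ z := by
  rw [phi, extElt_smul, res_smul, omega_smul]; rfl

variable (hM : IsPModular p M) (hP : IsPGroup p P) (hCK : Subgroup.centralizer (P : Set G) ≤ K)
  (hPK : P ≤ Subgroup.normalizer (K : Set G))
include hM hP hCK

theorem memLocalRing_phi (ξ : IrrCharacter (Subgroup.centralizer (P : Set G))) {z : MonoidAlgebra ℂ K}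
    (hz : IsClassElt z) (hzi : IsIntegralElt M z) : MemLocalRing M (phi P K ξ z) :=
  memLocalRing_omega hM ξ (isClassElt_res_extElt hCK hz) (isIntegralElt_res (isIntegralElt_extElt hM K hzi) _)

theorem phi_mul_congr (ξ : IrrCharacter (Subgroup.centralizer (P : Set G))) {z w : MonoidAlgebra ℂ K}
    (hz : IsClassElt z) (hw : IsClassElt w) (hzi : IsIntegralElt M z) (hwi : IsIntegralElt M w)
    (hzP : ConjInv P (extElt K z)) (hwP : ConjInv P (extElt K w)) :
    MemLocalIdeal M (phi P K ξ (z * w) - phi P K ξ z * phi P K ξ w) := by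
  simp only [phi]
  rw [← omega_mul ξ.2 (isClassElt_res_extElt hCK hz)]
  refine omega_congr hM ξ (isClassElt_res_extElt hCK (hz.mul hw))
    ((isClassElt_res_extElt hCK hz).mul (isClassElt_res_extElt hCK hw)) ?_
  rw [extElt_mul]
  exact res_mul_congr hM hP (fun g => Subgroup.mem_centralizer_iff) (isIntegralElt_extElt hM K hzi)
    (isIntegralElt_extElt hM K hwi) hzP hwP

/-- The Brauer map kills what every character of `K` sends into the ideal. -/
theorem phi_small (ξ : IrrCharacter (Subgroup.centralizer (P : Set G))) {z : MonoidAlgebra ℂ K}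
    (hz : IsClassElt z) (hzi : IsIntegralElt M z) (hzP : ConjInv P (extElt K z))
    (h : ∀ χ : IrrCharacter K, MemLocalIdeal M (omega (χ : K → ℂ) z)) :
    MemLocalIdeal M (phi P K ξ z) := by
  obtain ⟨N, -, hN⟩ := exists_pow_isSmall hM hz h
  have hrc := isClassElt_res_extElt hCK hz
  have hri := isIntegralElt_res (isIntegralElt_extElt hM K hzi) (Subgroup.centralizer (P : Set G))
  refine memLocalIdeal_of_pow hM (memLocalRing_omega hM ξ hrc hri) N ?_
  have he : ∀ n : ℕ, extElt K (z ^ n) = extElt K z ^ n := by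
    intro n
    induction n with
    | zero => rw [pow_zero, pow_zero, extElt_one]
    | succ n ih => rw [pow_succ, pow_succ, extElt_mul, ih]
  have h1 : MemLocalIdeal M (omega (ξ : Subgroup.centralizer (P : Set G) → ℂ)
      (res (Subgroup.centralizer (P : Set G)) (extElt K (z ^ N)))) :=
    memLocalIdeal_omega hM ξ (isClassElt_res_extElt hCK (hz.pow N)) fun c => by
      rw [coeff_res, coeff_extElt_mem K _ (hCK c.2)]; exact hN _
  have h2 : MemLocalIdeal M (omega (ξ : Subgroup.centralizer (P : Set G) → ℂ)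
      (res (Subgroup.centralizer (P : Set G)) (extElt K (z ^ N))) -
      omega (ξ : Subgroup.centralizer (P : Set G) → ℂ) (res (Subgroup.centralizer (P : Set G)) (extElt K z)) ^ N) := by
    rw [← omega_pow ξ.2 hrc]
    refine omega_congr hM ξ (isClassElt_res_extElt hCK (hz.pow N)) (hrc.pow N) ?_
    rw [he]
    exact res_pow_congr hM hP (fun g => Subgroup.mem_centralizer_iff) (isIntegralElt_extElt hM K hzi) hzP N
  show MemLocalIdeal M (_ ^ N)
  simpa [phi] using memLocalIdeal_sub hM h1 h2

omit hM hP hCK in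
theorem conjInv_extElt_blockElt {f : Set (IrrCharacter K)} (hf : ∀ x ∈ P, StabilizesBlock K f x) :
    ConjInv P (extElt K (blockElt f)) := by
  intro q hq g
  have hqn : q ∈ Subgroup.normalizer (K : Set G) := (hf q hq).1
  by_cases hg : g ∈ K
  · rw [coeff_extElt_mem K _ hg, coeff_extElt_mem K _ ((Subgroup.mem_normalizer_iff.1 hqn g).1 hg),
      coeff_blockElt, coeff_blockElt]
    exact blockCoeff_of_stable (hf q hq) _ _ rfl
  · rw [coeff_extElt_of_notMem K _ hg,
      coeff_extElt_of_notMem K _ fun h => hg ((Subgroup.mem_normalizer_iff.1 hqn g).2 h)]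

/-- A stable block maps to `0` or `1`. -/
theorem phi_blockElt_zero_or_one (ξ : IrrCharacter (Subgroup.centralizer (P : Set G))) {f : Set (IrrCharacter K)}
    (hf : IsPBlock M f) (hst : ∀ x ∈ P, StabilizesBlock K f x) :
    MemLocalIdeal M (phi P K ξ (blockElt f)) ∨ MemLocalIdeal M (phi P K ξ (blockElt f) - 1) := by
  have hi := isIntegralElt_blockElt hM hf
  have hc := isClassElt_blockElt f
  have h := phi_mul_congr hM hP hCK ξ hc hc hi hi (conjInv_extElt_blockElt hst) (conjInv_extElt_blockElt hst)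
  rw [(isIdempotentElem_blockElt f).eq] at h
  have hr := memLocalRing_phi hM hP hCK ξ hc hi
  rw [show phi P K ξ (blockElt f) - phi P K ξ (blockElt f) * phi P K ξ (blockElt f) =
    phi P K ξ (blockElt f) * (-(phi P K ξ (blockElt f) - 1)) by ring] at h
  rcases memLocalIdeal_of_mul hM hr (memLocalRing_neg (by
    rw [sub_eq_add_neg]; exact memLocalRing_add hM hr (memLocalRing_neg (memLocalRing_one hM)))) h with h1 | h1
  · exact Or.inl h1
  · exact Or.inr (by simpa using memLocalIdeal_neg h1)

/-- At most one stable block maps to `1`. -/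
theorem eq_of_phi_one (ξ : IrrCharacter (Subgroup.centralizer (P : Set G))) {f f' : Set (IrrCharacter K)}
    (hf : IsPBlock M f) (hf' : IsPBlock M f') (hst : ∀ x ∈ P, StabilizesBlock K f x)
    (hst' : ∀ x ∈ P, StabilizesBlock K f' x) (h : ¬ MemLocalIdeal M (phi P K ξ (blockElt f)))
    (h' : ¬ MemLocalIdeal M (phi P K ξ (blockElt f'))) : f = f' := by
  classical
  by_contra hne
  have hprod : blockElt f * blockElt f' = (0 : MonoidAlgebra ℂ K) := by
    refine eq_of_omega_eq ((isClassElt_blockElt f).mul (isClassElt_blockElt f')) (fun _ _ => rfl) fun χ => ?_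
    rw [omega_mul χ.2 (isClassElt_blockElt f), omega_blockElt, omega_blockElt]
    have h0 : omega (χ : K → ℂ) 0 = 0 := by simp [omega]
    rw [h0]
    split_ifs with h1 h2
    · exact absurd (IsPBlock.eq_of_mem hM hf hf' h1 h2) hne
    all_goals simp
  have h1 := phi_mul_congr hM hP hCK ξ (isClassElt_blockElt f) (isClassElt_blockElt f') (isIntegralElt_blockElt hM hf)
    (isIntegralElt_blockElt hM hf') (conjInv_extElt_blockElt hst) (conjInv_extElt_blockElt hst')
  rw [hprod] at h1
  have h2 : phi P K ξ (0 : MonoidAlgebra ℂ K) = 0 := by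
    rw [show (0 : MonoidAlgebra ℂ K) = (1 : MonoidAlgebra ℂ K) - 1 from (sub_self _).symm, phi_sub, sub_self]
  rw [h2, zero_sub] at h1
  have h3 := memLocalIdeal_neg h1
  rw [neg_neg] at h3
  rcases memLocalIdeal_of_mul hM (memLocalRing_phi hM hP hCK ξ (isClassElt_blockElt f) (isIntegralElt_blockElt hM hf))
    (memLocalRing_phi hM hP hCK ξ (isClassElt_blockElt f') (isIntegralElt_blockElt hM hf')) h3 with h4 | h4
  · exact h h4
  · exact h' h4

include hPK in
/-- Some stable block maps to a unit. -/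
theorem exists_phi_one (ξ : IrrCharacter (Subgroup.centralizer (P : Set G))) :
    ∃ f : Set (IrrCharacter K), IsPBlock M f ∧ (∀ x ∈ P, StabilizesBlock K f x) ∧
      MemLocalIdeal M (phi P K ξ (blockElt f) - 1) := by
  classical
  haveI : Fintype (IrrCharacter K) := @Fintype.ofFinite _ finite_irrCharacter
  suffices ∃ f : Set (IrrCharacter K), IsPBlock M f ∧ (∀ x ∈ P, StabilizesBlock K f x) ∧
      ¬ MemLocalIdeal M (phi P K ξ (blockElt f)) by
    obtain ⟨f, hf, hst, hns⟩ := this
    exact ⟨f, hf, hst, (phi_blockElt_zero_or_one hM hP hCK ξ hf hst).resolve_left hns⟩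
  by_contra hcon
  push Not at hcon
  let W := {f : Set (IrrCharacter K) // f ∈ blockFinset M K}
  letI : MulAction P W :=
    { smul := fun x f => ⟨pushBlock (conjK (hPK x.2)) f.1,
        mem_blockFinset.2 (isPBlock_pushBlock _ (mem_blockFinset.1 f.2))⟩
      one_smul := fun f => Subtype.ext (by
        show pushBlock (conjK (hPK (1 : P).2)) f.1 = f.1
        have e : conjK (hPK (1 : P).2) = MulEquiv.refl K :=
          MulEquiv.ext fun k => Subtype.ext (by simp [coe_conjK])
        rw [e, pushBlock_refl])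
      mul_smul := fun x y f => Subtype.ext (by
        show pushBlock (conjK (hPK (x * y).2)) f.1 = pushBlock (conjK (hPK x.2)) (pushBlock (conjK (hPK y.2)) f.1)
        rw [← pushBlock_trans, conjK_mul]) }
  let F : W → ℂ := fun f => phi P K ξ (blockElt f.1)
  have hFR : ∀ f, MemLocalRing M (F f) := fun f =>
    memLocalRing_phi hM hP hCK ξ (isClassElt_blockElt _) (isIntegralElt_blockElt hM (mem_blockFinset.1 f.2))
  have hFinv : ∀ (x : P) (f : W), F (x • f) = F f := by
    intro x f
    simp only [F, phi]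
    congr 1
    ext c
    rw [coeff_res, coeff_res, coeff_extElt_mem K _ (hCK c.2), coeff_extElt_mem K _ (hCK c.2), coeff_blockElt,
      coeff_blockElt]
    show blockCoeff (pushBlock (conjK (hPK x.2)) f.1) _ = _
    have e : (⟨c, hCK c.2⟩ : K) = conjK (hPK x.2) ⟨c, hCK c.2⟩ := Subtype.ext (by
      rw [coe_conjK]
      show (c : G) = (x : G) * c * (x : G)⁻¹
      rw [Subgroup.mem_centralizer_iff.1 c.2 x x.2, mul_inv_cancel_right])
    conv_lhs => rw [e]
    exact blockCoeff_pushBlock _ _ _
  have hsum : ∑ f : W, F f = 1 := by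
    rw [← phi_one (P := P) (K := K) ξ, ← sum_blockElt_eq_one (M := M) hM, phi_sum]
    exact Finset.sum_coe_sort (blockFinset M K) fun f => phi P K ξ (blockElt f)
  have h1 := sum_sub_fixed_mem hM hP F hFinv hFR
  rw [hsum] at h1
  have h2 : MemLocalIdeal M (∑ f : W, if (∀ x : P, x • f = f) then F f else 0) := by
    refine memLocalIdeal_sum hM _ fun f _ => ?_
    split_ifs with hfix
    · exact hcon f.1 (mem_blockFinset.1 f.2) fun x hx =>
        stabilizesBlock_iff.2 ⟨hPK hx, congrArg Subtype.val (hfix ⟨x, hx⟩)⟩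
    · exact memLocalIdeal_zero hM
  exact not_memLocalIdeal_one hM (by simpa using memLocalIdeal_add hM h1 h2)

end Brauer

end CfsgLib.Blocks
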