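import Cfsg.Agent.Blocks.FongReynolds
import Cfsg.Agent.Blocks.PIndex
import Cfsg.Agent.Blocks.Pairs
import Cfsg.Agent.Blocks.DefectGroup
import Cfsg.Agent.Transfer.Residual

/-!
# Stable blocks of normal subgroups
-/

set_option linter.unusedSectionVars false
set_option linter.style.haveILetI false

namespace CfsgLib.Blocks

open Cfsg CfsgLib.CharBasics CfsgLib.ZStar CfsgLib.Clifford
open scoped ComplexConjugate

universe u

variable {G : Type u} [Group G] [Fintype G] {p : ℕ} {M : Ideal AlgInt}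
  {N : Subgroup G} [hN : N.Normal] [Fintype N] {c : Set (IrrCharacter N)}

theorem res_extElt (z : MonoidAlgebra ℂ N) : res N (extElt N z) = z := by
  ext n
  rw [coeff_res, coeff_extElt_coe]

/-- Conjugates of members of a stable set are members. -/
theorem mem_of_stable (hst : ∀ x : G, StabilizesBlock N c x) {θ φ : IrrCharacter N} (hθ : θ ∈ c) {g : G}
    (h : (φ : N → ℂ) = conjFun g (θ : N → ℂ)) : φ ∈ c := by
  obtain ⟨θ', hθ', hc⟩ := (hst g⁻¹).2 θ hθ
  convert hθ' using 1
  refine Subtype.ext (funext fun n => ?_)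
  rw [h, conjFun_apply]
  exact (hc ⟨g * n * g⁻¹, hN.conj_mem _ n.2 g⟩ n (by simp [mul_assoc])).symm

theorem isClassElt_extElt_stable (hst : ∀ x : G, StabilizesBlock N c x) : IsClassElt (extElt N (blockElt c)) := by
  intro g x
  show (extElt N (blockElt c)).coeff (x * g * x⁻¹) = (extElt N (blockElt c)).coeff g
  by_cases hg : g ∈ N
  · rw [coeff_extElt_mem N _ hg, coeff_extElt_mem N _ (hN.conj_mem _ hg x), coeff_blockElt, coeff_blockElt]
    exact blockCoeff_of_stable (hst x) _ _ rfl
  · rw [coeff_extElt_of_notMem N _ hg, coeff_extElt_of_notMem N _ fun h => hg ?_]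
    have := hN.conj_mem _ h x⁻¹
    simpa [mul_assoc] using this

/-- The idempotent of a stable block at a character of the group. -/
theorem omega_extElt_stable (hst : ∀ x : G, StabilizesBlock N c x) [DecidablePred (· ∈ c)] (χ : IrrCharacter G)
    {θ : IrrCharacter N} (hθ : classInner (fun n : N => (χ : G → ℂ) n) (θ : N → ℂ) ≠ 0) :
    omega (χ : G → ℂ) (extElt N (blockElt c)) = if θ ∈ c then 1 else 0 := by
  rw [omega_eq_res_constituent (isClassElt_extElt_stable hst)
    (fun g hg => coeff_extElt_of_notMem N _ hg) χ θ hθ, res_extElt, omega_blockElt]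

/-- Over a normal subgroup of `p`-power index a stable block has one block above, with the same idempotent. -/
theorem exists_block_above (hM : IsPModular p M) (hidx : ∃ k : ℕ, N.index = p ^ k) (hc : IsPBlock M c)
    (hst : ∀ x : G, StabilizesBlock N c x) :
    ∃ B : Set (IrrCharacter G), IsPBlock M B ∧ ∀ g : G, blockCoeff B g = subgroupBlockCoeff N c g := by
  classical
  obtain ⟨θ₀, hθ₀⟩ := IsPBlock.nonempty hM hc
  obtain ⟨χ₀, hχ₀⟩ := exists_over_character (G := G) θ₀
  have hB := isPBlock_blockOf M χ₀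
  refine ⟨_, hB, fun g => ?_⟩
  have key : blockElt (blockOf M (χ₀ : G → ℂ)) = extElt N (blockElt c) := by
    refine eq_of_omega_eq (isClassElt_blockElt _) (isClassElt_extElt_stable hst) fun ψ => ?_
    rw [omega_blockElt]
    by_cases hψ : ψ ∈ blockOf M (χ₀ : G → ℂ)
    · obtain ⟨θ, hθ, hne⟩ := exists_constituent_mem_block hM hc hB (mem_blockOf_self hM χ₀) hθ₀ hχ₀ hψ
      rw [if_pos hψ, omega_extElt_stable hst ψ hne, if_pos hθ]
    · obtain ⟨φ, hφ⟩ := exists_constituent_restrict N ψ
      rw [if_neg hψ, omega_extElt_stable hst ψ hφ, if_neg]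
      exact fun h => hψ (sameBlock_of_constituents hM hidx ((IsPBlock.mem_iff hM hc hθ₀).1 h) hχ₀ hφ)
  rw [← coeff_blockElt, key, subgroupBlockCoeff]
  by_cases hg : g ∈ N
  · rw [coeff_extElt_mem N _ hg, coeff_blockElt, dif_pos hg]
  · rw [coeff_extElt_of_notMem N _ hg, dif_neg hg]

/-- A class of the group meeting `N` splits into `p'`-many classes of `N` when a character over a stable block is a unit on it. -/
theorem stable_unit_class (hM : IsPModular p M) (hc : IsPBlock M c) (hst : ∀ x : G, StabilizesBlock N c x)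
    {χ : IrrCharacter G} {θ : IrrCharacter N} (hθc : θ ∈ c)
    (hθ : classInner (fun n : N => (χ : G → ℂ) n) (θ : N → ℂ) ≠ 0) (g : N)
    (hu : ¬ MemLocalIdeal M (centralChar (χ : G → ℂ) (g : G))) :
    ¬ MemLocalIdeal M (centralChar (θ : N → ℂ) g) ∧
      ∃ w : ℕ, ¬ p ∣ w ∧ N.index = w * N.relIndex (Subgroup.centralizer ({(g : G)} : Set G)) := by
  classical
  haveI : Fintype (ConjClasses N) := Fintype.ofFinite _
  set W := Finset.univ.filter fun K : ConjClasses N => IsConj (g : G) ((K.out : N) : G) with hW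
  have hsupp : ∀ x, x ∉ N → (classElt (g : G)).coeff x = 0 := fun x hx => by
    rw [coeff_classElt, if_neg]
    intro hc'
    obtain ⟨y, rfl⟩ := isConj_iff.1 hc'
    exact hx (hN.conj_mem _ g.2 y)
  have hres : ∀ φ : IrrCharacter N, omega (φ : N → ℂ) (res N (classElt (g : G))) =
      ∑ K ∈ W, centralChar (φ : N → ℂ) K.out := by
    intro φ
    rw [omega_eq_sum_classes φ (isClassElt_res (isClassElt_classElt _) N), hW, Finset.sum_filter]
    refine Finset.sum_congr rfl fun K _ => ?_
    rw [coeff_res, coeff_classElt]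
    split_ifs <;> simp
  have hconj : ∀ K ∈ W, ∃ φ : N ≃* N, φ g = K.out ∧ ∀ ψ ∈ c, pushChar φ.symm ψ ∈ c := by
    intro K hK
    obtain ⟨x, hx⟩ := isConj_iff.1 (Finset.mem_filter.1 hK).2
    obtain ⟨hxn, hst'⟩ := stabilizesBlock_iff.1 (hst x)
    refine ⟨conjK hxn, Subtype.ext (by rw [coe_conjK]; exact hx), fun ψ hψ => ?_⟩
    rw [← mem_pushBlock, hst']
    exact hψ
  have hsum : MemLocalIdeal M (omega (θ : N → ℂ) (res N (classElt (g : G))) - W.card * centralChar (θ : N → ℂ) g) := by
    rw [hres, ← nsmul_eq_mul, ← Finset.sum_const, ← Finset.sum_sub_distrib]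
    refine memLocalIdeal_sum hM _ fun K hK => ?_
    obtain ⟨φ, hφ, hφc⟩ := hconj K hK
    rw [← hφ]
    conv => arg 2; arg 1; rw [← pushChar_symm φ θ, centralChar_pushChar]
    exact (IsPBlock.mem_iff hM hc (hφc θ hθc)).1 hθc g
  have h1 : omega (θ : N → ℂ) (res N (classElt (g : G))) = centralChar (χ : G → ℂ) (g : G) := by
    rw [← omega_eq_res_constituent (isClassElt_classElt _) hsupp χ θ hθ, omega_classElt χ.2]
  rw [h1] at hsum
  have hwu : ¬ MemLocalIdeal M ((W.card : ℂ) * centralChar (θ : N → ℂ) g) := fun h => hu (by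
    simpa using memLocalIdeal_add hM hsum h)
  refine ⟨fun h => hwu (memLocalIdeal_mul_left hM (memLocalRing_natCast hM _) h), W.card,
    fun h => hwu (memLocalIdeal_mul_right hM ((memLocalIdeal_natCast_iff hM _).2 h) (memLocalRing_centralChar hM θ g)), ?_⟩
  have hone : classInner (fun n : N => ((oneChar : IrrCharacter G) : G → ℂ) n) ((oneChar : IrrCharacter N) : N → ℂ) ≠ 0 := by
    have e : (fun n : N => ((oneChar : IrrCharacter G) : G → ℂ) n) = ((oneChar : IrrCharacter N) : N → ℂ) := rfl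
    rw [e, classInner_self (oneChar : IrrCharacter N).2]
    exact one_ne_zero
  have h2 := omega_eq_res_constituent (isClassElt_classElt (g : G)) hsupp oneChar oneChar hone
  rw [omega_classElt (oneChar : IrrCharacter G).2, hres] at h2
  have h3 : ∀ K ∈ W, centralChar ((oneChar : IrrCharacter N) : N → ℂ) K.out =
      (((Subgroup.centralizer ({g} : Set N)).index : ℕ) : ℂ) := by
    intro K hK
    obtain ⟨φ, hφ, -⟩ := hconj K hK
    rw [← hφ]
    conv_lhs => rw [← pushChar_symm φ (oneChar : IrrCharacter N), centralChar_pushChar]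
    simp [centralChar, oneChar]
  rw [Finset.sum_congr rfl h3, Finset.sum_const, nsmul_eq_mul] at h2
  have h4 : (Subgroup.centralizer ({(g : G)} : Set G)).index = W.card * (Subgroup.centralizer ({g} : Set N)).index := by
    have e : centralChar ((oneChar : IrrCharacter G) : G → ℂ) (g : G) =
        (((Subgroup.centralizer ({(g : G)} : Set G)).index : ℕ) : ℂ) := by simp [centralChar, oneChar]
    rw [e] at h2
    exact_mod_cast h2
  set C := Subgroup.centralizer ({(g : G)} : Set G) with hC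
  have h5 : (Subgroup.centralizer ({g} : Set N)).index = C.relIndex N := by
    rw [Subgroup.relIndex]
    congr 1
    ext n
    rw [Subgroup.mem_subgroupOf, hC, Subgroup.mem_centralizer_singleton_iff, Subgroup.mem_centralizer_singleton_iff]
    exact ⟨fun h => congrArg Subtype.val h, fun h => Subtype.ext h⟩
  have h6 : (C ⊓ N).relIndex C * C.index = (C ⊓ N).index := Subgroup.relIndex_mul_index inf_le_left
  have h7 : (C ⊓ N).relIndex N * N.index = (C ⊓ N).index := Subgroup.relIndex_mul_index inf_le_right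
  rw [Subgroup.inf_relIndex_left] at h6
  rw [Subgroup.inf_relIndex_right] at h7
  have hne : C.relIndex N ≠ 0 := by
    rw [Subgroup.relIndex]; exact Subgroup.index_ne_zero_of_finite
  rw [h4, h5, ← h7] at h6
  exact mul_left_cancel₀ hne (by rw [← h6]; ring)

/-- The defect groups of the block above a stable block of `p`-power index. -/
theorem defectGroup_above (hM : IsPModular p M) (hidx : ∃ k : ℕ, N.index = p ^ k) (hc : IsPBlock M c)
    (hst : ∀ x : G, StabilizesBlock N c x) {B : Set (IrrCharacter G)} (hB : IsPBlock M B)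
    (hBc : ∀ g : G, blockCoeff B g = subgroupBlockCoeff N c g) {P : Subgroup G} (hP : IsDefectGroup p M B P) :
    N ⊔ P = ⊤ ∧ IsDefectGroup p M c ((P ⊓ N).subgroupOf N) := by
  classical
  haveI := Fact.mk hM.1
  obtain ⟨g, ⟨hg1, hg2, hg3⟩, S, hPS⟩ := hP
  have hgN : g ∈ N := by
    by_contra hn
    rw [hBc, subgroupBlockCoeff, dif_neg hn] at hg2
    exact hg2 (memLocalIdeal_zero hM)
  obtain ⟨χ, hχ⟩ := IsPBlock.nonempty hM hB
  have hBelt : blockElt B = extElt N (blockElt c) := by
    ext x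
    rw [coeff_blockElt, hBc, subgroupBlockCoeff]
    by_cases hx : x ∈ N
    · rw [coeff_extElt_mem N _ hx, coeff_blockElt, dif_pos hx]
    · rw [coeff_extElt_of_notMem N _ hx, dif_neg hx]
  obtain ⟨θ, hθ⟩ := exists_constituent_restrict N χ
  have hθc : θ ∈ c := by
    by_contra hn
    have h := omega_extElt_stable hst χ hθ
    rw [← hBelt, omega_blockElt, if_pos hχ, if_neg hn] at h
    exact one_ne_zero h
  obtain ⟨hu, w, hw, hidx'⟩ := stable_unit_class hM hc hst hθc hθ ⟨g, hgN⟩ (hg3 χ hχ)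
  obtain ⟨k, hk⟩ := hidx
  have hw1 : w = 1 := by
    have hdvd : w ∣ p ^ k := hk ▸ Dvd.intro _ hidx'.symm
    obtain ⟨j, -, rfl⟩ := (Nat.dvd_prime_pow hM.1).1 hdvd
    rcases Nat.eq_zero_or_pos j with rfl | hj
    · exact pow_zero p
    · exact absurd (dvd_pow_self p hj.ne') hw
  rw [hw1, one_mul] at hidx'
  obtain ⟨C, hC, S, hPS⟩ : ∃ (C : Subgroup G) (_ : C = Subgroup.centralizer ({g} : Set G)) (T : Sylow p C),
      P = (T : Subgroup C).map C.subtype := ⟨_, rfl, S, hPS⟩
  rw [← hC] at hidx'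
  obtain ⟨D, hD⟩ : ∃ D : Subgroup G, D = (S : Subgroup C).map C.subtype := ⟨_, rfl⟩
  rw [show P = D from hPS.trans hD.symm]
  have hrel : (N.subgroupOf C).index = p ^ k := hk ▸ hidx'.symm
  have htop := CfsgLib.Transfer.sup_sylow_eq_top hrel S
  have hCle : C ≤ N ⊔ D := by
    intro x hx
    have hx' : (⟨x, hx⟩ : C) ∈ N.subgroupOf C ⊔ (S : Subgroup C) := htop ▸ Subgroup.mem_top _
    have : x ∈ (N.subgroupOf C ⊔ (S : Subgroup C)).map C.subtype := ⟨⟨x, hx⟩, hx', rfl⟩
    rw [Subgroup.map_sup] at this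
    rw [hD]
    exact sup_le_sup_right (Subgroup.map_le_iff_le_comap.2 le_rfl) _ this
  have hNC : N ⊔ C = ⊤ := by
    rw [← Subgroup.index_eq_one]
    have h := Subgroup.relIndex_mul_index (le_sup_left : N ≤ N ⊔ C)
    rw [sup_comm, Subgroup.relIndex_sup_right, ← hidx', sup_comm] at h
    exact Nat.eq_of_mul_eq_mul_left (Nat.pos_of_ne_zero Subgroup.index_ne_zero_of_finite) (h.trans (mul_one _).symm)
  have hND : N ⊔ D = ⊤ := top_le_iff.1 (hNC ▸ sup_le le_sup_left hCle)
  refine ⟨hND, ⟨g, hgN⟩, ⟨?_, ?_, fun φ hφ h => hu ?_⟩, ?_⟩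
  · have := hBc g; rw [subgroupBlockCoeff, dif_pos hgN] at this; rwa [← this]
  · have := hBc g; rw [subgroupBlockCoeff, dif_pos hgN] at this; rwa [← this]
  · simpa using memLocalIdeal_sub hM h ((IsPBlock.mem_iff hM hc hφ).1 hθc ⟨g, hgN⟩)
  obtain ⟨C₁, hC₁⟩ : ∃ C₁ : Subgroup N, C₁ = Subgroup.centralizer ({(⟨g, hgN⟩ : N)} : Set N) := ⟨_, rfl⟩
  have hmemC₁ : ∀ n : N, n ∈ C₁ ↔ (n : G) ∈ C := fun n => by
    rw [hC₁, hC, Subgroup.mem_centralizer_singleton_iff, Subgroup.mem_centralizer_singleton_iff]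
    exact ⟨fun h => congrArg Subtype.val h, fun h => Subtype.ext h⟩
  set Q := (D ⊓ N).subgroupOf N with hQ
  have hQC : Q ≤ C₁ := fun n hn => (hmemC₁ n).2 ((hD ▸ Subgroup.map_subtype_le _) (Subgroup.mem_subgroupOf.1 hn).1)
  have hcardD : Nat.card D = p ^ (Nat.card C).factorization p := by
    rw [hD, Subgroup.card_map_of_injective C.subtype_injective, S.card_eq_multiplicity]
  have hDrel : N.relIndex D = p ^ k := by
    rw [← Subgroup.relIndex_sup_right (H := D) (K := N), sup_comm, hND, Subgroup.relIndex_top_right, hk]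
  have hcard1 : Nat.card Q * p ^ k = Nat.card D := by
    rw [hQ, Nat.card_congr (Subgroup.subgroupOfEquivOfLe (inf_le_right : D ⊓ N ≤ N)).toEquiv, ← hDrel, inf_comm,
      Subgroup.relIndex, ← Nat.card_congr (Subgroup.subgroupOfEquivOfLe (inf_le_right : N ⊓ D ≤ D)).toEquiv,
      Subgroup.inf_subgroupOf_right]
    exact Subgroup.card_mul_index _
  have hcard2 : Nat.card C₁ * p ^ k = Nat.card C := by
    have e : Nat.card C₁ = Nat.card (N.subgroupOf C) := Nat.card_congr
      { toFun := fun n => ⟨⟨((n : N) : G), (hmemC₁ n).1 n.2⟩, (n : N).2⟩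
        invFun := fun n => ⟨⟨((n : C) : G), n.2⟩, (hmemC₁ _).2 (n : C).2⟩
        left_inv := fun _ => rfl
        right_inv := fun _ => rfl }
    rw [e, ← hrel]
    exact Subgroup.card_mul_index _
  have hQcard : Nat.card (Q.subgroupOf C₁) = p ^ (Nat.card C₁).factorization p := by
    rw [Nat.card_congr (Subgroup.subgroupOfEquivOfLe hQC).toEquiv]
    have hne : Nat.card C₁ ≠ 0 := Nat.card_pos.ne'
    have h := congrArg (fun n => n.factorization p) hcard2
    simp only [Nat.factorization_mul hne (pow_ne_zero k hM.1.ne_zero), Finsupp.add_apply,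
      hM.1.factorization_pow, Finsupp.single_eq_same] at h
    refine Nat.eq_of_mul_eq_mul_right (pow_pos hM.1.pos k) ?_
    rw [hcard1, hcardD, ← pow_add, h]
  subst hC₁
  refine ⟨Sylow.ofCard (Q.subgroupOf _) hQcard, ?_⟩
  rw [Sylow.coe_ofCard, Subgroup.subgroupOf_map_subtype, inf_eq_left.2 hQC]

end CfsgLib.Blocks
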