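import Cfsg.Agent.Blocks.GradedNil
import Cfsg.Agent.Blocks.StableCover
import Cfsg.Agent.Blocks.Pairs
import Cfsg.Agent.Blocks.FongReynolds
import Cfsg.Agent.Blocks.DefectConj

/-!
# Defect groups of covering blocks meet the normal subgroup in a defect group

For a stable block `b` of `N` the idempotent of a covering block `B` decomposes along the cosets of `N`;
if all coefficients on the centralizer of the defect group of `b` were small it would be nilpotent mod `M`.
-/

set_option linter.unusedSectionVars false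
set_option linter.style.haveILetI false

namespace CfsgLib.Blocks

open Cfsg CfsgLib.CharBasics CfsgLib.ZStar CfsgLib.Clifford

universe u

variable {G : Type u} [Group G] [Fintype G] {p : ℕ} {M : Ideal AlgInt}
variable {N : Subgroup G} [hN : N.Normal] [Fintype N] {b : Set (IrrCharacter N)}

theorem mem_normalizer_of_normal (x : G) : x ∈ Subgroup.normalizer (N : Set G) := by
  rw [Subgroup.normalizer_eq_top_iff.2 hN]; trivial

theorem conjFun_mem_of_stable (hst : ∀ x : G, StabilizesBlock N b x) {θ : IrrCharacter N} (hθ : θ ∈ b) (g : G)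
    {φ : IrrCharacter N} (hφ : (φ : N → ℂ) = conjFun g (θ : N → ℂ)) : φ ∈ b := by
  obtain ⟨hx, hb⟩ := stabilizesBlock_iff.1 (hst g⁻¹)
  have : φ = pushChar (conjK hx) θ := by
    refine Subtype.ext (funext fun k => ?_)
    obtain ⟨l, rfl⟩ := (conjK hx).surjective k
    rw [pushChar_apply, MulEquiv.symm_apply_apply, hφ, conjFun_apply]
    exact congrArg _ (Subtype.ext (by simp [coe_conjK, mul_assoc]))
  exact this ▸ hb ▸ Set.mem_image_of_mem _ hθ

section Covering

variable (hM : IsPModular p M) (hb : IsPBlock M b) (hst : ∀ x : G, StabilizesBlock N b x)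
  {B : Set (IrrCharacter G)} (hB : IsPBlock M B)
  (hcov : ∃ χ ∈ B, ∃ θ ∈ b, classInner (fun n : N => (χ : G → ℂ) n) (θ : N → ℂ) ≠ 0)
include hM hb hst hB hcov

theorem constituent_mem_stable {χ : IrrCharacter G} (hχ : χ ∈ B) {φ : IrrCharacter N}
    (hφ : classInner (fun n : N => (χ : G → ℂ) n) (φ : N → ℂ) ≠ 0) : φ ∈ b := by
  obtain ⟨χ₀, hχ₀, θ₀, hθ₀, h₀⟩ := hcov
  obtain ⟨θ, hθ, hne⟩ := exists_constituent_mem_block hM hb hB hχ₀ hθ₀ h₀ hχ
  obtain ⟨g, hg⟩ := constituent_conj χ.2 θ.2 φ.2 hne hφ
  exact conjFun_mem_of_stable hst hθ g hg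

theorem omega_extElt_covering {χ : IrrCharacter G} (hχ : χ ∈ B) :
    omega (χ : G → ℂ) (extElt N (blockElt b)) = 1 := by
  classical
  obtain ⟨φ, hφ⟩ := exists_constituent_restrict N χ
  rw [omega_eq_res_constituent (isClassElt_extElt_stable hst) (fun g hg => coeff_extElt_of_notMem _ _ hg) χ φ hφ,
    show res N (extElt N (blockElt b)) = blockElt b from by ext n; rw [coeff_res, coeff_extElt_coe],
    omega_blockElt, if_pos (constituent_mem_stable hM hb hst hB hcov hχ hφ)]

theorem blockElt_mul_extElt : blockElt B * extElt N (blockElt b) = blockElt B := by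
  classical
  refine eq_of_omega_eq ((isClassElt_blockElt B).mul (isClassElt_extElt_stable hst)) (isClassElt_blockElt B) fun χ => ?_
  rw [omega_mul χ.2 (isClassElt_blockElt B), omega_blockElt]
  split_ifs with hχ
  · rw [omega_extElt_covering hM hb hst hB hcov hχ, mul_one]
  · rw [zero_mul]

/-- A covering block has a unit coefficient centralizing the defect group of the block below. -/
theorem exists_unit_coeff_centralizer {Q : Subgroup G} (hQN : Q ≤ N) (hQ : IsDefectGroup p M b (Q.subgroupOf N)) :
    ∃ c ∈ Subgroup.centralizer (Q : Set G), ¬ MemLocalIdeal M (blockCoeff B c) := by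
  classical
  letI := residueField hM
  haveI : Fintype (G ⧸ N) := Fintype.ofFinite _
  haveI : Fintype (ConjClasses N) := Fintype.ofFinite _
  haveI := Fintype.ofFinite (Subgroup.centralizer (Q : Set G))
  have hQp : IsPGroup p Q := (isPGroup_of_isDefectGroup hQ).of_equiv (Subgroup.subgroupOfEquivOfLe hQN)
  obtain ⟨y₀, hy₀, S₀, hQeq⟩ := id hQ
  have hy₀C : ∀ q ∈ Q.subgroupOf N, q * y₀ = y₀ * q := fun q hq =>
    Subgroup.mem_centralizer_singleton_iff.1 (Subgroup.map_subtype_le _ (hQeq ▸ hq))
  by_contra hcon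
  push Not at hcon
  set E := extElt N (blockElt b) with hE
  have hEi : IsIntegralElt M E := isIntegralElt_extElt hM N (isIntegralElt_blockElt hM hb)
  have hEc : IsClassElt E := isClassElt_extElt_stable hst
  let Good : G ⧸ N → MonoidAlgebra ℂ G → Prop := fun t z =>
    (∀ g : G, (g : G ⧸ N) ≠ t → z.coeff g = 0) ∧ ConjInv N z ∧
      (∀ c ∈ Subgroup.centralizer (Q : Set G), MemLocalIdeal M (z.coeff c)) ∧ IsSmall M (z * E - z)
  let S : G ⧸ N → Set (MonoidAlgebra (Residue hM) G) := fun t =>
    {u | ∃ (z : MonoidAlgebra ℂ G) (hz : IsIntegralElt M z), Good t z ∧ redElt hM hz = u}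
  have hGmul : ∀ t s z w, IsIntegralElt M z → IsIntegralElt M w → Good t z → Good s w → Good (t * s) (z * w) := by
    intro t s z w hzi hwi ⟨hz1, hz2, hz3, hz4⟩ ⟨hw1, hw2, hw3, hw4⟩
    refine ⟨fun g hg => ?_, hz2.mul hw2, fun c hc => ?_, ?_⟩
    · rw [coeff_mul_eq]
      refine Finset.sum_eq_zero fun h _ => ?_
      by_cases hh : (h : G ⧸ N) = t
      · rw [hw1 _ (fun hs => hg ?_), mul_zero]
        rw [← hh, ← hs, ← QuotientGroup.mk_mul, mul_inv_cancel_left]
      · rw [hz1 h hh, zero_mul]
    · have hzQ : ConjInv Q z := fun q hq => hz2 q (hQN hq)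
      have hwQ : ConjInv Q w := fun q hq => hw2 q (hQN hq)
      have h := res_mul_congr hM hQp (fun g => Subgroup.mem_centralizer_iff) hzi hwi hzQ hwQ ⟨c, hc⟩
      rw [coeff_res] at h
      have h2 := IsSmall.mul_right hM (z := res (Subgroup.centralizer (Q : Set G)) z)
        (fun d => by rw [coeff_res]; exact hz3 _ d.2) (isIntegralElt_res hwi _) ⟨c, hc⟩
      simpa using memLocalIdeal_add hM h h2
    · rw [show z * w * E - z * w = z * (w * E - w) by rw [mul_sub, mul_assoc]]
      exact IsSmall.mul_left hM hzi hw4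
  have hSmul : ∀ t s u v, u ∈ S t → v ∈ S s → u * v ∈ S (t * s) := by
    rintro t s _ _ ⟨z, hz, gz, rfl⟩ ⟨w, hw, gw, rfl⟩
    exact ⟨z * w, hz.mul hM hw, hGmul _ _ _ _ hz hw gz gw, redElt_mul hM hz hw⟩
  -- degree one
  let ι : MonoidAlgebra (Residue hM) N →+* MonoidAlgebra (Residue hM) G :=
    MonoidAlgebra.mapDomainRingHom (Residue hM) N.subtype
  have hone : ∀ u ∈ S 1, ∃ v : Subalgebra.center (Residue hM) (MonoidAlgebra (Residue hM) N),
      IsNilpotent v ∧ ι (v : MonoidAlgebra (Residue hM) N) = u := by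
    rintro _ ⟨z, hz, ⟨hz1, hz2, hz3, hz4⟩, rfl⟩
    have hsupp : ∀ g, g ∉ N → z.coeff g = 0 := fun g hg => hz1 g fun h => hg ((QuotientGroup.eq_one_iff g).1 h)
    set zN := res N z with hzN
    have hzNi : IsIntegralElt M zN := isIntegralElt_res hz N
    have hzNc : IsClassElt zN := fun n m => by
      simp only [hzN, coeff_res, Subgroup.coe_mul, Subgroup.coe_inv]
      exact hz2 _ m.2 _
    have hω : ∀ φ : IrrCharacter N, MemLocalIdeal M (omega (φ : N → ℂ) zN) := by
      intro φ
      by_cases hφ : φ ∈ b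
      · rw [omega_eq_sum_classes φ hzNc]
        refine memLocalIdeal_sum hM _ fun C _ => ?_
        by_cases hcc : MemLocalIdeal M (centralChar (φ : N → ℂ) C.out)
        · exact memLocalIdeal_mul_left hM (hzNi _) hcc
        refine memLocalIdeal_mul_right hM ?_ (memLocalRing_centralChar hM φ _)
        obtain ⟨h, hh, hcent⟩ := exists_conj_centralizing hM hb hφ hy₀.2.1 hcc (isPGroup_of_isDefectGroup hQ) hy₀C
        obtain ⟨e, he⟩ := isConj_iff.1 hh
        rw [← coeff_conj hzNc (C.out : N) e, he, hzN, coeff_res]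
        exact hz3 _ (Subgroup.mem_centralizer_iff.2 fun q hq => congrArg Subtype.val (hcent ⟨q, hQN hq⟩ hq))
      · have h1 : omega (φ : N → ℂ) (zN * blockElt b) = 0 := by
          rw [omega_mul φ.2 hzNc, omega_blockElt, if_neg hφ, mul_zero]
        have h2 : MemLocalIdeal M (omega (φ : N → ℂ) (zN * blockElt b) - omega (φ : N → ℂ) zN) := by
          refine omega_congr hM φ (hzNc.mul (isClassElt_blockElt b)) hzNc fun n => ?_
          have h3 := hz4 (n : G)
          have hext : extElt N zN = z := by
            ext g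
            by_cases hg : g ∈ N
            · rw [coeff_extElt_mem _ _ hg, hzN, coeff_res]
            · rw [coeff_extElt_of_notMem _ _ hg, hsupp g hg]
          conv at h3 => rw [← hext, hE, ← extElt_mul, ← extElt_sub, coeff_extElt_coe]
          rwa [MonoidAlgebra.coeff_sub, Finsupp.sub_apply] at h3
        rw [h1, zero_sub] at h2
        simpa using memLocalIdeal_neg h2
    obtain ⟨m, hm0, hm⟩ := exists_pow_isSmall hM hzNc hω
    obtain ⟨m, rfl⟩ : ∃ k, m = k + 1 := ⟨m - 1, by omega⟩
    refine ⟨⟨_, redElt_mem_center hM hzNi hzNc⟩, ⟨m + 1, Subtype.ext ?_⟩, ?_⟩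
    · exact redElt_pow_eq_zero hM hzNi hm
    · show ι (redElt hM hzNi) = _
      ext g
      rw [redElt, map_sum, redElt]
      simp only [ι, MonoidAlgebra.mapDomainRingHom_apply, MonoidAlgebra.mapDomain_single, MonoidAlgebra.coeff_sum,
        Finset.sum_apply', MonoidAlgebra.coeff_single, Finsupp.single_apply, Subgroup.coe_subtype]
      rw [Finset.sum_ite_eq' Finset.univ g, if_pos (Finset.mem_univ _)]
      by_cases hg : g ∈ N
      · rw [Finset.sum_eq_single ⟨g, hg⟩ (fun n _ hn => if_neg fun h => hn (Subtype.ext h)) (by simp), if_pos (by rfl)]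
        simp [red, hzN, coeff_res]
      · rw [Finset.sum_eq_zero fun (n : N) _ => if_neg fun (h : (n : G) = g) => hg (h ▸ n.2),
          (red_eq_zero hM hz g).2 (by rw [hsupp g hg]; exact memLocalIdeal_zero hM)]
  obtain ⟨K, hK⟩ := exists_nilpotent_bound (Residue hM) N
  have hSK : ∀ l : List (MonoidAlgebra (Residue hM) G), l.length = K → (∀ u ∈ l, u ∈ S 1) → l.prod = 0 := by
    intro l hl hlS
    have h : ∀ l : List (MonoidAlgebra (Residue hM) G), (∀ u ∈ l, u ∈ S 1) →
        ∃ l' : List (Subalgebra.center (Residue hM) (MonoidAlgebra (Residue hM) N)),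
          l'.length = l.length ∧ (∀ v ∈ l', IsNilpotent v) ∧ ι ((l'.prod : Subalgebra.center _ _) : MonoidAlgebra (Residue hM) N) = l.prod := by
      intro l
      induction l with
      | nil => exact fun _ => ⟨[], rfl, by simp, by simp⟩
      | cons u l ih =>
        intro hu
        obtain ⟨v, hv, hvu⟩ := hone u (hu u (List.mem_cons_self ..))
        obtain ⟨l', h1, h2, h3⟩ := ih fun w hw => hu w (List.mem_cons_of_mem _ hw)
        refine ⟨v :: l', by simp [h1], fun w hw => ?_, ?_⟩
        · rcases List.mem_cons.1 hw with rfl | hw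
          · exact hv
          · exact h2 w hw
        · rw [List.prod_cons, List.prod_cons, MulMemClass.coe_mul, map_mul, hvu, h3]
    obtain ⟨l', h1, h2, h3⟩ := h l hlS
    rw [← h3, hK l' (h1.trans hl) h2]
    simp
  -- the decomposition of the idempotent
  set e := blockElt B with he
  have hei : IsIntegralElt M e := isIntegralElt_blockElt hM hB
  let x : G ⧸ N → MonoidAlgebra ℂ G := fun t => ofFun fun g => if (g : G ⧸ N) = t then blockCoeff B g else 0
  have hxi : ∀ t, IsIntegralElt M (x t) := fun t g => by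
    simp only [x, coeff_ofFun]
    split_ifs
    · exact memLocalRing_blockCoeff hM hB g
    · exact memLocalRing_zero hM
  have hxE : ∀ t, x t * E = x t := by
    intro t
    ext g
    rw [coeff_mul_eq]
    simp only [x, coeff_ofFun]
    by_cases hg : (g : G ⧸ N) = t
    · rw [if_pos hg]
      conv_rhs => rw [← coeff_blockElt, ← blockElt_mul_extElt hM hb hst hB hcov, coeff_mul_eq]
      refine Finset.sum_congr rfl fun h _ => ?_
      by_cases hh : h⁻¹ * g ∈ N
      · rw [if_pos (by rw [← hg]; exact QuotientGroup.eq.2 hh), coeff_blockElt]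
      · rw [hE, coeff_extElt_of_notMem _ _ hh, mul_zero, mul_zero]
    · rw [if_neg hg]
      refine Finset.sum_eq_zero fun h _ => ?_
      by_cases hh : h⁻¹ * g ∈ N
      · rw [if_neg (by rw [QuotientGroup.eq.2 hh]; exact hg), zero_mul]
      · rw [hE, coeff_extElt_of_notMem _ _ hh, mul_zero]
  have hxGood : ∀ t, Good t (x t) := by
    intro t
    refine ⟨fun g hg => by simp only [x, coeff_ofFun]; exact if_neg hg, fun n hn g => ?_, fun c hc => ?_, ?_⟩
    · simp only [x, coeff_ofFun]
      refine if_congr ?_ ?_ rfl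
      · rw [QuotientGroup.mk_mul, QuotientGroup.mk_mul, (QuotientGroup.eq_one_iff n).2 hn,
          (QuotientGroup.eq_one_iff n⁻¹).2 (N.inv_mem hn), one_mul, mul_one]
      · rw [← coeff_blockElt, ← coeff_blockElt, coeff_conj (isClassElt_blockElt B)]
    · simp only [x, coeff_ofFun]
      split_ifs
      · exact hcon c hc
      · exact memLocalIdeal_zero hM
    · intro g
      rw [hxE, sub_self]
      simpa using memLocalIdeal_zero hM
  have hsum : ∑ t, redElt hM (hxi t) = redElt hM hei := by
    ext g
    simp only [MonoidAlgebra.coeff_sum, Finset.sum_apply', coeff_redElt]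
    rw [Finset.sum_eq_single (g : G ⧸ N) (fun t _ ht => ?_) (by simp)]
    · simp [red, x, coeff_ofFun, he, coeff_blockElt]
    · exact (red_eq_zero hM _ g).2 (by simp only [x, coeff_ofFun, if_neg (Ne.symm ht)]; exact memLocalIdeal_zero hM)
  have hzero := pow_eq_zero_of_graded S hSmul hSK (fun t => redElt hM (hxi t)) fun t => ⟨_, hxi t, hxGood t, rfl⟩
  have hid : IsIdempotentElem (redElt hM hei) := by
    rw [IsIdempotentElem, ← redElt_mul, redElt_congr]
    intro g
    rw [he, (isIdempotentElem_blockElt B).eq, sub_self]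
    exact memLocalIdeal_zero hM
  rw [hsum, hid.pow_succ_eq, redElt_eq_zero] at hzero
  obtain ⟨χ, hχ⟩ := IsPBlock.nonempty hM hB
  have := memLocalIdeal_omega hM χ (isClassElt_blockElt B) hzero
  rw [omega_blockElt, if_pos hχ] at this
  exact not_memLocalIdeal_one hM this

/-- The meet of a defect group with `N` is a defect group of the stable block below. -/
theorem isDefectGroup_inf {P : Subgroup G} (hP : IsDefectGroup p M B P) :
    IsDefectGroup p M b ((P ⊓ N).subgroupOf N) := by
  classical
  haveI := Fact.mk hM.1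
  obtain ⟨y, hy⟩ := exists_defectClass hM hb
  obtain ⟨S⟩ : Nonempty (Sylow p (Subgroup.centralizer ({y} : Set N))) := inferInstance
  set Qs := (S : Subgroup (Subgroup.centralizer ({y} : Set N))).map (Subgroup.centralizer ({y} : Set N)).subtype
  have hQs : IsDefectGroup p M b Qs := ⟨y, hy, S, rfl⟩
  clear_value Qs
  set Q := Qs.map N.subtype with hQdef
  have hQN : Q ≤ N := Subgroup.map_subtype_le _
  have hQeq : Q.subgroupOf N = Qs := Subgroup.comap_map_eq_self_of_injective N.subtype_injective _
  obtain ⟨c, hc, hcu⟩ := exists_unit_coeff_centralizer hM hb hst hB hcov hQN (hQeq.symm ▸ hQs)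
  have hQp : IsPGroup p Q := (isPGroup_of_isDefectGroup hQs).map _
  obtain ⟨a, ha⟩ := exists_conj_mem_defectGroup hM hB hcu hQp
    (fun q hq => Subgroup.mem_centralizer_iff.1 hc q hq) hP
  have hPp := isPGroup_of_isDefectGroup hP
  set R := P ⊓ N with hR
  have hRp : IsPGroup p R := hPp.to_le inf_le_left
  have hQR : Nat.card Q ≤ Nat.card R := by
    rw [← Subgroup.card_map_of_injective (f := (MulAut.conj a).toMonoidHom) (K := Q) (MulAut.conj a).injective]
    refine Subgroup.card_le_of_le ?_
    rintro _ ⟨q, hq, rfl⟩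
    exact ⟨ha q hq, hN.conj_mem q (hQN hq) a⟩
  obtain ⟨g, hg, T, hT⟩ := id hP
  haveI := Fintype.ofFinite (Subgroup.centralizer (R : Set G))
  have hgR : g ∈ Subgroup.centralizer (R : Set G) := Subgroup.mem_centralizer_iff.2 fun r hr =>
    Subgroup.mem_centralizer_singleton_iff.1 (Subgroup.map_subtype_le _ (hT ▸ (hr.1 : r ∈ P)))
  have hEi : IsIntegralElt M (extElt N (blockElt b)) := isIntegralElt_extElt hM N (isIntegralElt_blockElt hM hb)
  obtain ⟨v, hv⟩ : ∃ v : Subgroup.centralizer (R : Set G),
      ¬ MemLocalIdeal M ((extElt N (blockElt b)).coeff (v : G)) := by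
    by_contra hcon
    push Not at hcon
    have h := res_mul_congr hM hRp (fun g => Subgroup.mem_centralizer_iff) (isIntegralElt_blockElt hM hB) hEi
      (IsClassElt.conjInv (isClassElt_blockElt B) R) (IsClassElt.conjInv (isClassElt_extElt_stable hst) R) ⟨g, hgR⟩
    rw [coeff_res, blockElt_mul_extElt hM hb hst hB hcov, coeff_blockElt] at h
    have h2 := IsSmall.mul_left hM (isIntegralElt_res (isIntegralElt_blockElt hM hB) (Subgroup.centralizer (R : Set G)))
      (w := res (Subgroup.centralizer (R : Set G)) (extElt N (blockElt b)))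
      (fun d => by rw [coeff_res]; exact hcon d) ⟨g, hgR⟩
    exact hg.2.1 (by simpa using memLocalIdeal_add hM h h2)
  have hvN : (v : G) ∈ N := by
    by_contra h
    exact hv (by rw [coeff_extElt_of_notMem _ _ h]; exact memLocalIdeal_zero hM)
  rw [coeff_extElt_mem _ _ hvN, coeff_blockElt] at hv
  have hRN : R ≤ N := inf_le_right
  obtain ⟨e, he⟩ := exists_conj_mem_defectGroup hM hb hv (hRp.of_equiv (Subgroup.subgroupOfEquivOfLe hRN).symm)
    (fun q hq => Subtype.ext (Subgroup.mem_centralizer_iff.1 v.2 _ hq)) hQs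
  have hmap : (R.subgroupOf N).map (MulAut.conj e).toMonoidHom = Qs := by
    refine Subgroup.eq_of_le_of_card_ge ?_ ?_
    · rintro _ ⟨q, hq, rfl⟩; exact he q hq
    · rw [Subgroup.card_map_of_injective (MulAut.conj e).injective,
        Nat.card_congr (Subgroup.subgroupOfEquivOfLe hRN).toEquiv,
        ← Subgroup.card_map_of_injective (f := N.subtype) (K := Qs) N.subtype_injective]
      exact hQR
  have h := isDefectGroup_map_conj hM hb hQs e⁻¹
  rw [← hmap, Subgroup.map_map] at h
  convert h using 1
  ext n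
  simp [mul_assoc]

end Covering

end CfsgLib.Blocks
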