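import Cfsg.Agent.Blocks.PairsConj
import Cfsg.Agent.Blocks.DefectGroup

/-!
# Maximal Brauer pairs
-/

set_option linter.unusedSectionVars false
set_option linter.style.haveILetI false

namespace CfsgLib.Blocks

open Cfsg CfsgLib.CharBasics CfsgLib.ZStar
open scoped ComplexConjugate

universe u

variable {G : Type u} [Group G] [Fintype G] {p : ℕ} {M : Ideal AlgInt}

set_option maxHeartbeats 1600000 in
/-- A block unit at a `p`-group fixed element gives a pair above. -/
theorem exists_normal_above (hM : IsPModular p M) {P R : Subgroup G}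
    {e : Set (IrrCharacter (Subgroup.centralizer (P : Set G)))} (hPe : IsBrauerPair p M P e)
    (hR : IsPGroup p R) (hPR : P ≤ R) (hRN : R ≤ Subgroup.normalizer (P : Set G))
    (hst : ∀ x ∈ R, StabilizesBlock (Subgroup.centralizer (P : Set G)) e x)
    {v : Subgroup.centralizer (P : Set G)} (hv : (v : G) ∈ Subgroup.centralizer (R : Set G))
    (hu : ¬ MemLocalIdeal M (blockCoeff e v)) :
    ∃ g, IsNormalSubpair p M P e R g := by
  classical
  haveI := Fintype.ofFinite (Subgroup.centralizer (P : Set G))
  haveI := Fintype.ofFinite (Subgroup.centralizer (R : Set G))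
  have hCK : Subgroup.centralizer (R : Set G) ≤ Subgroup.centralizer (P : Set G) :=
    Subgroup.centralizer_le (SetLike.coe_subset_coe.2 hPR)
  have hc := isClassElt_blockElt e
  have hi := isIntegralElt_blockElt hM hPe.2
  obtain ⟨ξ, hξ⟩ : ∃ ξ : IrrCharacter (Subgroup.centralizer (R : Set G)),
      ¬ MemLocalIdeal M (phi R (Subgroup.centralizer (P : Set G)) ξ (blockElt e)) := by
    by_contra hcon
    push Not at hcon
    obtain ⟨N, hN0, hN⟩ := exists_pow_isSmall hM (isClassElt_res_extElt (P := R) hCK hc) hcon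
    obtain ⟨n, rfl⟩ : ∃ n, N = n + 1 := ⟨N - 1, by omega⟩
    have hid : IsIdempotentElem (extElt (Subgroup.centralizer (P : Set G)) (blockElt e)) := by
      rw [IsIdempotentElem, ← extElt_mul, (isIdempotentElem_blockElt e).eq]
    have h := res_pow_congr hM hR (fun g => Subgroup.mem_centralizer_iff)
      (isIntegralElt_extElt hM _ hi) (conjInv_extElt_blockElt hst) (n + 1) ⟨v, hv⟩
    rw [hid.pow_succ_eq n] at h
    have h2 : MemLocalIdeal M ((res (Subgroup.centralizer (R : Set G))
        (extElt (Subgroup.centralizer (P : Set G)) (blockElt e))).coeff ⟨v, hv⟩) := by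
      simpa using memLocalIdeal_add hM h (hN ⟨v, hv⟩)
    rw [coeff_res, coeff_extElt_coe, coeff_blockElt] at h2
    exact hu h2
  refine ⟨blockOf M (ξ : _ → ℂ), (isNormalSubpair_iff hM hR hPR hRN (isPBlock_blockOf M ξ)
    (mem_blockOf_self hM ξ)).2 ⟨hPe.2, hst, ?_⟩⟩
  exact (phi_blockElt_zero_or_one hM hR hCK ξ hPe.2 hst).resolve_left hξ

/-- Above a maximal pair nothing centralizes a unit coefficient. -/
theorem blockCoeff_mem_of_maximal (hM : IsPModular p M) {B : Set (IrrCharacter G)} {P R : Subgroup G}
    {e : Set (IrrCharacter (Subgroup.centralizer (P : Set G)))} (hmax : IsMaximalBrauerPair p M B P e)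
    (hR : IsPGroup p R) (hPR : P < R) (hRN : R ≤ Subgroup.normalizer (P : Set G))
    (hst : ∀ x ∈ R, StabilizesBlock (Subgroup.centralizer (P : Set G)) e x)
    {v : Subgroup.centralizer (P : Set G)} (hv : (v : G) ∈ Subgroup.centralizer (R : Set G)) :
    MemLocalIdeal M (blockCoeff e v) := by
  by_contra hu
  obtain ⟨g, hg⟩ := exists_normal_above hM hmax.1.1 hR hPR.le hRN hst hv hu
  exact hPR.ne (hmax.2 R g ((brauerPairOf_step hM hg hmax.1.2.1).2 hmax.1)
    (Relation.ReflTransGen.single hg)).symm

section Orbit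

variable (M)

/-- The conjugates of a block of the centralizer under the normalizer. -/
noncomputable def orbitFinset (P : Subgroup G) (e : Set (IrrCharacter (Subgroup.centralizer (P : Set G)))) :
    Finset (Set (IrrCharacter (Subgroup.centralizer (P : Set G)))) := by
  classical
  letI : Fintype (IrrCharacter (Subgroup.centralizer (P : Set G))) := @Fintype.ofFinite _ finite_irrCharacter
  exact (blockFinset M (Subgroup.centralizer (P : Set G))).filter fun f =>
    ∃ (x : G) (hx : x ∈ Subgroup.normalizer (P : Set G)),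
      pushBlock (conjK (le_normalizer_centralizer P hx)) e = f

/-- The sum of the conjugate idempotents. -/
noncomputable def orbitSum (P : Subgroup G) (e : Set (IrrCharacter (Subgroup.centralizer (P : Set G))))
    (c : Subgroup.centralizer (P : Set G)) : ℂ :=
  ∑ f ∈ orbitFinset M P e, blockCoeff f c

variable {M}

theorem mem_orbitFinset {P : Subgroup G} {e : Set (IrrCharacter (Subgroup.centralizer (P : Set G)))}
    (he : IsPBlock M e) {f : Set (IrrCharacter (Subgroup.centralizer (P : Set G)))} :
    f ∈ orbitFinset M P e ↔ ∃ (x : G) (hx : x ∈ Subgroup.normalizer (P : Set G)),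
      pushBlock (conjK (le_normalizer_centralizer P hx)) e = f := by
  classical
  letI : Fintype (IrrCharacter (Subgroup.centralizer (P : Set G))) := @Fintype.ofFinite _ finite_irrCharacter
  simp only [orbitFinset, Finset.mem_filter]
  refine ⟨fun h => h.2, fun ⟨x, hx, h⟩ => ⟨?_, x, hx, h⟩⟩
  exact mem_blockFinset.2 (h ▸ isPBlock_pushBlock _ he)

theorem self_mem_orbitFinset {P : Subgroup G} {e : Set (IrrCharacter (Subgroup.centralizer (P : Set G)))}
    (he : IsPBlock M e) : e ∈ orbitFinset M P e :=
  (mem_orbitFinset he).2 ⟨1, one_mem _, by rw [conjK_one, pushBlock_refl]⟩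

theorem push_mem_orbitFinset {P : Subgroup G} {e : Set (IrrCharacter (Subgroup.centralizer (P : Set G)))}
    (he : IsPBlock M e) {x : G} (hx : x ∈ Subgroup.normalizer (P : Set G))
    {f : Set (IrrCharacter (Subgroup.centralizer (P : Set G)))} (hf : f ∈ orbitFinset M P e) :
    pushBlock (conjK (le_normalizer_centralizer P hx)) f ∈ orbitFinset M P e := by
  obtain ⟨y, hy, rfl⟩ := (mem_orbitFinset he).1 hf
  exact (mem_orbitFinset he).2 ⟨x * y, mul_mem hx hy, by rw [← pushBlock_trans, conjK_mul]⟩

theorem orbitSum_conj {P : Subgroup G} {e : Set (IrrCharacter (Subgroup.centralizer (P : Set G)))}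
    (he : IsPBlock M e) {x : G} (hx : x ∈ Subgroup.normalizer (P : Set G)) (c : Subgroup.centralizer (P : Set G)) :
    orbitSum M P e (conjK (le_normalizer_centralizer P hx) c) = orbitSum M P e c := by
  refine (Finset.sum_bij (fun f _ => pushBlock (conjK (le_normalizer_centralizer P hx)) f)
    (fun f hf => push_mem_orbitFinset he hx hf)
    (fun f _ f' _ h => Set.image_injective.2 (pushChar_injective _) h) (fun f hf => ?_)
    (fun f _ => (blockCoeff_pushBlock _ f c).symm)).symm
  refine ⟨pushBlock (conjK (le_normalizer_centralizer P (inv_mem hx))) f, push_mem_orbitFinset he (inv_mem hx) hf, ?_⟩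
  rw [← pushBlock_trans, conjK_mul]
  have e1 : conjK ((Subgroup.normalizer ((Subgroup.centralizer (P : Set G)) : Set G)).mul_mem
      (le_normalizer_centralizer P hx) (le_normalizer_centralizer P (inv_mem hx))) = MulEquiv.refl _ :=
    MulEquiv.ext fun k => Subtype.ext (by simp [coe_conjK])
  rw [e1, pushBlock_refl]

end Orbit

section Maximal

variable (hM : IsPModular p M) {B : Set (IrrCharacter G)} {P : Subgroup G}
  {e : Set (IrrCharacter (Subgroup.centralizer (P : Set G)))}
include hM

/-- A Sylow overgroup gives a normalizing overgroup. -/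
theorem exists_gt_normalizing {w : G} (hP : IsPGroup p P) (hw : w ∈ Subgroup.centralizer (P : Set G))
    (hne : Nat.card P ≠ p ^ centExp p w) :
    ∃ R : Subgroup G, P < R ∧ IsPGroup p R ∧ R ≤ Subgroup.normalizer (P : Set G) ∧
      w ∈ Subgroup.centralizer (R : Set G) := by
  haveI := Fact.mk hM.1
  have hPW : P ≤ Subgroup.centralizer ({w} : Set G) := fun q hq =>
    Subgroup.mem_centralizer_singleton_iff.2 (Subgroup.mem_centralizer_iff.1 hw q hq)
  obtain ⟨T, hT⟩ := (hP.of_equiv (Subgroup.subgroupOfEquivOfLe hPW).symm).exists_le_sylow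
  set S := (T : Subgroup _).map (Subgroup.centralizer ({w} : Set G)).subtype with hS
  have hSp : IsPGroup p S := T.2.map _
  have hPS : P ≤ S := fun q hq => ⟨⟨q, hPW hq⟩, hT hq, rfl⟩
  have hlt : P < S := by
    refine lt_of_le_of_ne hPS fun h => hne ?_
    rw [h, hS, Subgroup.card_map_of_injective (Subgroup.centralizer ({w} : Set G)).subtype_injective,
      T.card_eq_multiplicity]
    rfl
  haveI : Group.IsNilpotent S := hSp.isNilpotent
  have hlt' : P.subgroupOf S < ⊤ := lt_top_iff_ne_top.2 fun h => hlt.not_ge (Subgroup.subgroupOf_eq_top.1 h)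
  have hn := Group.normalizerCondition_of_isNilpotent (P.subgroupOf S) hlt'
  refine ⟨S ⊓ Subgroup.normalizer (P : Set G), ?_, hSp.to_le inf_le_left, inf_le_right, ?_⟩
  · refine lt_of_le_of_ne (le_inf hPS Subgroup.le_normalizer) fun h => hn.not_ge ?_
    intro x hx
    rw [Subgroup.mem_subgroupOf]
    have hxS : (x : G) ∈ S ⊓ Subgroup.normalizer (P : Set G) := by
      refine ⟨x.2, ?_⟩
      show (x : G) ∈ Subgroup.normalizer (P : Set G)
      rw [Subgroup.mem_normalizer_iff]
      intro y
      constructor
      · intro hy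
        exact Subgroup.mem_subgroupOf.1 ((Subgroup.mem_normalizer_iff.1 hx ⟨y, hPS hy⟩).1 (Subgroup.mem_subgroupOf.2 hy))
      · intro hy
        have hyS : y ∈ S := by
          have := S.mul_mem (S.mul_mem (S.inv_mem x.2) (hPS hy)) x.2
          simpa [mul_assoc] using this
        exact Subgroup.mem_subgroupOf.1 ((Subgroup.mem_normalizer_iff.1 hx ⟨y, hyS⟩).2 (Subgroup.mem_subgroupOf.2 hy))
    rwa [← h] at hxS
  · rw [Subgroup.mem_centralizer_iff]
    rintro r ⟨hr, -⟩
    exact Subgroup.mem_centralizer_singleton_iff.1 (Subgroup.map_subtype_le _ hr)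

/-- Away from the elements with Sylow centralizing group `P` the orbit sum vanishes. -/
theorem orbitSum_mem (hmax : IsMaximalBrauerPair p M B P e) (c : Subgroup.centralizer (P : Set G))
    (hne : Nat.card P ≠ p ^ centExp p (c : G)) : MemLocalIdeal M (orbitSum M P e c) := by
  classical
  have he := hmax.1.1.2
  obtain ⟨R, hPR, hRp, hRN, hcR⟩ := exists_gt_normalizing hM hmax.1.1.1 c.2 hne
  let W := {f // f ∈ orbitFinset M P e}
  letI : MulAction R W :=
    { smul := fun r f => ⟨pushBlock (conjK (le_normalizer_centralizer P (hRN r.2))) f.1,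
        push_mem_orbitFinset he (hRN r.2) f.2⟩
      one_smul := fun f => Subtype.ext (by
        show pushBlock (conjK (le_normalizer_centralizer P (hRN (1 : R).2))) f.1 = f.1
        have e1 : conjK (le_normalizer_centralizer P (hRN (1 : R).2)) = MulEquiv.refl _ :=
          MulEquiv.ext fun k => Subtype.ext (by simp [coe_conjK])
        rw [e1, pushBlock_refl])
      mul_smul := fun x y f => Subtype.ext (by
        show pushBlock (conjK (le_normalizer_centralizer P (hRN (x * y).2))) f.1 =
          pushBlock (conjK (le_normalizer_centralizer P (hRN x.2))) (pushBlock (conjK (le_normalizer_centralizer P (hRN y.2))) f.1)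
        rw [← pushBlock_trans, conjK_mul]) }
  let F : W → ℂ := fun f => blockCoeff f.1 c
  have hfR : ∀ f : W, MemLocalRing M (F f) := fun f => by
    obtain ⟨x, hx, h⟩ := (mem_orbitFinset he).1 f.2
    exact memLocalRing_blockCoeff hM (h ▸ isPBlock_pushBlock _ he) c
  have hFinv : ∀ (r : R) (f : W), F (r • f) = F f := by
    intro r f
    show blockCoeff (pushBlock (conjK (le_normalizer_centralizer P (hRN r.2))) f.1) c = blockCoeff f.1 c
    have e1 : c = conjK (le_normalizer_centralizer P (hRN r.2)) c := Subtype.ext (by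
      rw [coe_conjK, Subgroup.mem_centralizer_iff.1 hcR r r.2, mul_inv_cancel_right])
    conv_lhs => rw [e1]
    exact blockCoeff_pushBlock _ _ _
  have h1 := sum_sub_fixed_mem hM hRp F hFinv hfR
  have h2 : MemLocalIdeal M (∑ f : W, if (∀ r : R, r • f = f) then F f else 0) := by
    refine memLocalIdeal_sum hM _ fun f _ => ?_
    split_ifs with hfix
    swap
    · exact memLocalIdeal_zero hM
    obtain ⟨f, hf⟩ := f
    obtain ⟨x, hx, rfl⟩ := (mem_orbitFinset he).1 hf
    show MemLocalIdeal M (blockCoeff (pushBlock (conjK (le_normalizer_centralizer P hx)) e) c)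
    obtain ⟨d, rfl⟩ := (conjK (le_normalizer_centralizer P hx)).surjective c
    rw [blockCoeff_pushBlock]
    set R' := R.map (MulAut.conj x⁻¹).toMonoidHom with hR'
    have hmem : ∀ y, y ∈ R' ↔ x * y * x⁻¹ ∈ R := fun y => by
      rw [symm_mem_of_map (MulAut.conj x⁻¹) hR'.symm, MulAut.conj_symm_apply, inv_inv]
    refine blockCoeff_mem_of_maximal hM hmax (hRp.map _ : IsPGroup p R') ?_ ?_ ?_ ?_
    · refine lt_of_le_of_ne ?_ fun h => ?_
      · intro q hq
        exact (hmem q).2 (hPR.le ((Subgroup.mem_normalizer_iff.1 hx q).1 hq))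
      · obtain ⟨r, hr, hrn⟩ := SetLike.exists_of_lt hPR
        refine hrn ?_
        have hr' : x⁻¹ * r * x ∈ R' := (hmem _).2 (by simpa [mul_assoc] using hr)
        rw [show R' = P from h.symm] at hr'
        have := (Subgroup.mem_normalizer_iff.1 hx _).1 hr'
        simpa [mul_assoc] using this
    · intro y hy
      have := mul_mem (mul_mem (inv_mem hx) (hRN ((hmem y).1 hy))) hx
      simpa [mul_assoc] using this
    · intro y hy
      have hyN : y ∈ Subgroup.normalizer (P : Set G) := by
        have := mul_mem (mul_mem (inv_mem hx) (hRN ((hmem y).1 hy))) hx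
        simpa [mul_assoc] using this
      refine stabilizesBlock_iff.2 ⟨le_normalizer_centralizer P hyN, ?_⟩
      have hfy := congrArg Subtype.val (hfix ⟨_, (hmem y).1 hy⟩)
      change pushBlock (conjK (le_normalizer_centralizer P (hRN ((hmem y).1 hy))))
        (pushBlock (conjK (le_normalizer_centralizer P hx)) e) =
          pushBlock (conjK (le_normalizer_centralizer P hx)) e at hfy
      apply Set.image_injective.2 (pushChar_injective (conjK (le_normalizer_centralizer P hx)))
      show pushBlock _ (pushBlock _ e) = pushBlock _ e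
      refine Eq.trans ?_ hfy
      rw [← pushBlock_trans, ← pushBlock_trans]
      congr 1
      exact MulEquiv.ext fun k => Subtype.ext (by simp [coe_conjK, mul_assoc])
    · rw [Subgroup.mem_centralizer_iff]
      intro y hy
      have h := Subgroup.mem_centralizer_iff.1 hcR _ ((hmem y).1 hy)
      rw [coe_conjK] at h
      have h' := congrArg (fun t => x⁻¹ * t * x) h
      simpa [mul_assoc] using h'
  have h3 : orbitSum M P e c = ∑ f : W, F f := (Finset.sum_coe_sort (orbitFinset M P e) fun f => blockCoeff f c).symm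
  rw [h3]
  simpa using memLocalIdeal_add hM h1 h2

/-- Elements with Sylow centralizing group `P` fuse in the normalizer. -/
theorem exists_normalizer_conj {w w' : G} (hw : w ∈ Subgroup.centralizer (P : Set G))
    (hw' : w' ∈ Subgroup.centralizer (P : Set G)) (hc : IsConj w w') (hg : Nat.card P = p ^ centExp p w) :
    ∃ x ∈ Subgroup.normalizer (P : Set G), x * w * x⁻¹ = w' := by
  haveI := Fact.mk hM.1
  obtain ⟨g, rfl⟩ := isConj_iff.1 hc
  set C := Subgroup.centralizer ({g * w * g⁻¹} : Set G) with hC
  have hcard : Nat.card P = p ^ (Nat.card C).factorization p := by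
    rw [hg, centExp, card_centralizer_eq hc]
  set P₁ := P.map (MulAut.conj g).toMonoidHom with hP₁
  have hP₁C : P₁ ≤ C := by
    rintro _ ⟨q, hq, rfl⟩
    refine Subgroup.mem_centralizer_singleton_iff.2 ?_
    show g * q * g⁻¹ * (g * w * g⁻¹) = g * w * g⁻¹ * (g * q * g⁻¹)
    have := congrArg (fun t => g * t * g⁻¹) (Subgroup.mem_centralizer_iff.1 hw q hq)
    simpa [mul_assoc] using this
  have hPC : P ≤ C := fun q hq =>
    Subgroup.mem_centralizer_singleton_iff.2 (Subgroup.mem_centralizer_iff.1 hw' q hq)
  let S : Sylow p C := Sylow.ofCard (P.subgroupOf C) (by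
    rw [Nat.card_congr (Subgroup.subgroupOfEquivOfLe hPC).toEquiv, hcard])
  let S₁ : Sylow p C := Sylow.ofCard (P₁.subgroupOf C) (by
    rw [Nat.card_congr (Subgroup.subgroupOfEquivOfLe hP₁C).toEquiv, hP₁,
      Subgroup.card_map_of_injective (MulAut.conj g).injective, hcard])
  obtain ⟨k, hk⟩ := MulAction.exists_smul_eq C S₁ S
  have hle : ∀ q ∈ P, (k : G) * g * q * ((k : G) * g)⁻¹ ∈ P := by
    intro q hq
    have hm : k * ⟨g * q * g⁻¹, hP₁C ⟨q, hq, rfl⟩⟩ * k⁻¹ ∈ (S : Subgroup C) := by
      rw [← hk]
      exact ⟨⟨g * q * g⁻¹, hP₁C ⟨q, hq, rfl⟩⟩, Subgroup.mem_subgroupOf.2 ⟨q, hq, rfl⟩, rfl⟩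
    have := Subgroup.mem_subgroupOf.1 hm
    simpa [mul_assoc] using this
  refine ⟨(k : G) * g, ?_, ?_⟩
  · rw [Subgroup.mem_normalizer_iff]
    intro y
    refine ⟨hle y, fun hy => ?_⟩
    have heq : P.map (MulAut.conj ((k : G) * g)).toMonoidHom = P := by
      refine Subgroup.eq_of_le_of_card_ge ?_ ?_
      · rintro _ ⟨q, hq, rfl⟩; exact hle q hq
      · rw [Subgroup.card_map_of_injective (MulAut.conj _).injective]
    have := (apply_mem_of_map (MulAut.conj ((k : G) * g)) heq y).1 hy
    exact this
  · have h : (k : G) * (g * w * g⁻¹) = (g * w * g⁻¹) * k := Subgroup.mem_centralizer_singleton_iff.1 k.2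
    calc (k : G) * g * w * ((k : G) * g)⁻¹ = (k : G) * (g * w * g⁻¹) * (k : G)⁻¹ := by simp [mul_assoc]
      _ = g * w * g⁻¹ := by rw [h, mul_inv_cancel_right]

/-- A class element reducing to the orbit sum. -/
theorem exists_orbit_classElt (hmax : IsMaximalBrauerPair p M B P e) :
    ∃ z : MonoidAlgebra ℂ G, IsClassElt z ∧ IsIntegralElt M z ∧
      (∀ c : Subgroup.centralizer (P : Set G), MemLocalIdeal M (z.coeff c - orbitSum M P e c)) ∧
      ∀ g, z.coeff g ≠ 0 → Nat.card P = p ^ centExp p g := by
  classical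
  have he := hmax.1.1.2
  have hP := hmax.1.1.1
  have hconst : ∀ w w' : Subgroup.centralizer (P : Set G), IsConj (w : G) w' → Nat.card P = p ^ centExp p (w : G) →
      orbitSum M P e w = orbitSum M P e w' := by
    intro w w' hc hg
    obtain ⟨x, hx, hxw⟩ := exists_normalizer_conj hM w.2 w'.2 hc hg
    have : w' = conjK (le_normalizer_centralizer P hx) w := Subtype.ext (by rw [coe_conjK, hxw])
    rw [this, orbitSum_conj he hx]
  let Q : G → Prop := fun g => Nat.card P = p ^ centExp p g ∧ ∃ w : Subgroup.centralizer (P : Set G), IsConj (w : G) g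
  let z : G → ℂ := fun g => if h : Q g then orbitSum M P e h.2.choose else 0
  have hzval : ∀ g (w : Subgroup.centralizer (P : Set G)), IsConj (w : G) g → Nat.card P = p ^ centExp p g → z g = orbitSum M P e w := by
    intro g w hw hg
    have h : Q g := ⟨hg, w, hw⟩
    simp only [z]
    rw [dif_pos h]
    refine hconst _ _ (h.2.choose_spec.trans hw.symm) ?_
    refine hg.trans ?_
    unfold centExp
    rw [card_centralizer_eq h.2.choose_spec]
  have hQconj : ∀ g k : G, IsConj g k → Q g → Q k := by
    rintro g k hgk ⟨hg, w, hw⟩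
    exact ⟨by rw [hg, centExp, centExp, card_centralizer_eq hgk], w, hw.trans hgk⟩
  refine ⟨ofFun z, ?_, ?_, ?_, ?_⟩
  · intro g k
    simp only [coeff_ofFun]
    have hc : IsConj g (k * g * k⁻¹) := isConj_iff.2 ⟨k, rfl⟩
    by_cases h : Q g
    · obtain ⟨hg, w, hw⟩ := h
      obtain ⟨hk, -⟩ := hQconj _ _ hc ⟨hg, w, hw⟩
      rw [hzval g w hw hg, hzval _ w (hw.trans hc) hk]
    · simp only [z]
      rw [dif_neg h, dif_neg fun h' => h (hQconj _ _ hc.symm h')]
  · intro g
    rw [coeff_ofFun]
    simp only [z]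
    split_ifs with h
    · exact memLocalRing_sum hM _ fun f hf => by
        obtain ⟨x, hx, hxe⟩ := (mem_orbitFinset he).1 hf
        exact memLocalRing_blockCoeff hM (hxe ▸ isPBlock_pushBlock _ he) _
    · exact memLocalRing_zero hM
  · intro c
    rw [coeff_ofFun]
    by_cases hg : Nat.card P = p ^ centExp p (c : G)
    · rw [hzval c c (IsConj.refl _) hg, sub_self]
      exact memLocalIdeal_zero hM
    · simp only [z]
      rw [dif_neg fun h => hg h.1, zero_sub]
      exact memLocalIdeal_neg (orbitSum_mem hM hmax c hg)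
  · intro g hg
    rw [coeff_ofFun] at hg
    simp only [z] at hg
    by_contra hne
    exact hg (dif_neg fun h => hne h.1)

/-- The value of the orbit sum at a character of the centralizer. -/
theorem omega_orbitSum [Fintype (Subgroup.centralizer (P : Set G))] (he : IsPBlock M e)
    {f : Set (IrrCharacter (Subgroup.centralizer (P : Set G)))} (hf : IsPBlock M f)
    {ξ : IrrCharacter (Subgroup.centralizer (P : Set G))} (hξ : ξ ∈ f) :
    omega (ξ : _ → ℂ) (∑ f' ∈ orbitFinset M P e, blockElt f') =
      if f ∈ orbitFinset M P e then 1 else 0 := by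
  classical
  rw [ZStar.omega_sum, Finset.sum_congr rfl fun f' hf' => ?_, Finset.sum_ite_eq' (orbitFinset M P e) f fun _ => (1 : ℂ)]
  rw [omega_blockElt]
  obtain ⟨x, hx, h⟩ := (mem_orbitFinset he).1 hf'
  exact if_congr ⟨fun h' => IsPBlock.eq_of_mem hM (h ▸ isPBlock_pushBlock _ he) hf h' hξ, fun h' => h' ▸ hξ⟩ rfl rfl

/-- A pair of the block has an element of the centralizer with unit idempotent coefficient. -/
theorem exists_pair_unit_coeff (h : IsBrauerPairOf p M B P e) :
    ∃ w ∈ Subgroup.centralizer (P : Set G), ¬ MemLocalIdeal M (blockCoeff B w) := by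
  classical
  haveI := Fintype.ofFinite (Subgroup.centralizer (P : Set G))
  obtain ⟨ξ, hξ⟩ := IsPBlock.nonempty hM h.1.2
  have h1 := (isBrauerPairOf_iff hM h.1.1 h.2.1 h.1.2 hξ).1 h
  by_contra hcon
  push Not at hcon
  refine not_memLocalIdeal_one hM ?_
  have h2 : MemLocalIdeal M (omega (ξ : _ → ℂ) (res (Subgroup.centralizer (P : Set G)) (blockElt B))) :=
    memLocalIdeal_omega hM ξ (isClassElt_res (isClassElt_blockElt B) _) fun c => by
      rw [coeff_res, coeff_blockElt]; exact hcon _ c.2
  simpa using memLocalIdeal_sub hM h2 h1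

/-- All pairs of the block on the group of a maximal pair are conjugate, and the class element is `1` on the block. -/
theorem maximal_key (hmax : IsMaximalBrauerPair p M B P e) :
    (∀ f, IsBrauerPairOf p M B P f → f ∈ orbitFinset M P e) ∧ IsDefectGroup p M B P := by
  classical
  haveI := Fact.mk hM.1
  haveI := Fintype.ofFinite (Subgroup.centralizer (P : Set G))
  haveI : Fintype (ConjClasses G) := Fintype.ofFinite _
  have he := hmax.1.1.2
  have hP := hmax.1.1.1
  have hB := hmax.1.2.1
  obtain ⟨z, hzc, hzi, hzE, hzs⟩ := exists_orbit_classElt hM hmax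
  obtain ⟨χ, hχ, hmin, hs⟩ := exists_min_degExp hM hB
  have hval : ∀ f, IsBrauerPairOf p M B P f →
      MemLocalIdeal M ((if f ∈ orbitFinset M P e then 1 else 0) - omega (χ : G → ℂ) z) := by
    intro f hf
    obtain ⟨ξ, hξ⟩ := IsPBlock.nonempty hM hf.1.2
    have h1 := (isBrauerPairOf_iff hM hP hB hf.1.2 hξ).1 hf
    have hind : IsInducedBlock M (Subgroup.centralizer (P : Set G)) f B :=
      isInducedBlock_of_not_small hM hP (fun g => Subgroup.mem_centralizer_iff) hf.1.2 hB hξ
        fun h => not_memLocalIdeal_one hM (by simpa using memLocalIdeal_sub hM h h1)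
    have h2 := omega_res_induced hM hind hξ hχ hzc hzi
    have hEc : IsClassElt (∑ f' ∈ orbitFinset M P e, blockElt f' : MonoidAlgebra ℂ (Subgroup.centralizer (P : Set G))) := by
      intro g k
      simp only [MonoidAlgebra.coeff_sum, Finsupp.finsetSum_apply]
      exact Finset.sum_congr rfl fun f' _ => isClassElt_blockElt f' g k
    have h3 := omega_congr hM ξ (isClassElt_res hzc _) hEc fun c => by
      have hsum : (∑ f' ∈ orbitFinset M P e, blockElt f' :
          MonoidAlgebra ℂ (Subgroup.centralizer (P : Set G))).coeff c = orbitSum M P e c := by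
        simp [orbitSum, MonoidAlgebra.coeff_sum, Finsupp.finsetSum_apply, coeff_blockElt]
      rw [coeff_res, hsum]; exact hzE c
    rw [omega_orbitSum hM he hf.1.2 hξ] at h3
    have := memLocalIdeal_sub hM h2 h3
    rwa [sub_sub_sub_cancel_left] at this
  have h0 := hval e hmax.1
  rw [if_pos (self_mem_orbitFinset he)] at h0
  refine ⟨fun f hf => ?_, ?_⟩
  · by_contra hn
    have h1 := hval f hf
    rw [if_neg hn] at h1
    exact not_memLocalIdeal_one hM (by simpa using memLocalIdeal_sub hM h0 h1)
  obtain ⟨g, hg0, hgu⟩ : ∃ g, z.coeff g ≠ 0 ∧ ¬ MemLocalIdeal M (centralChar (χ : G → ℂ) g) := by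
    by_contra hcon
    push Not at hcon
    have : MemLocalIdeal M (omega (χ : G → ℂ) z) := by
      rw [omega_eq_sum_classes χ hzc]
      refine memLocalIdeal_sum hM _ fun K _ => ?_
      by_cases hK : z.coeff K.out = 0
      · rw [hK, zero_mul]; exact memLocalIdeal_zero hM
      · exact memLocalIdeal_mul_left hM (hzi _) (hcon _ hK)
    exact not_memLocalIdeal_one hM (by simpa using memLocalIdeal_add hM h0 this)
  have hd : blockDefect p B ≤ centExp p g := (blockDefect_eq hs).le.trans (le_centExp hM χ hgu)
  obtain ⟨w, hw, hwu⟩ := exists_pair_unit_coeff hM hmax.1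
  obtain ⟨D, hD, hPD⟩ := exists_defectGroup_ge hM hB hwu hP fun q hq => Subgroup.mem_centralizer_iff.1 hw q hq
  convert hD
  refine Subgroup.eq_of_le_of_card_ge hPD ?_
  rw [card_defectGroup hM hB hD, hzs g hg0]
  exact Nat.pow_le_pow_right hM.1.pos hd

/-- Every pair lies below a maximal one. -/
theorem exists_maximal_above {Q : Subgroup G} {f : Set (IrrCharacter (Subgroup.centralizer (Q : Set G)))}
    (h : IsBrauerPairOf p M B Q f) :
    ∃ (R : Subgroup G) (g : Set (IrrCharacter (Subgroup.centralizer (R : Set G)))),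
      IsMaximalBrauerPair p M B R g ∧ SubpairLE p M Q f R g := by
  induction hn : Nat.card G - Nat.card Q using Nat.strong_induction_on generalizing Q f with
  | _ n ih =>
    by_cases hmax : IsMaximalBrauerPair p M B Q f
    · exact ⟨Q, f, hmax, Relation.ReflTransGen.refl⟩
    obtain ⟨R, g, hg, hle, hne⟩ : ∃ R g, IsBrauerPairOf p M B R g ∧ SubpairLE p M Q f R g ∧ R ≠ Q := by
      by_contra hcon
      push Not at hcon
      exact hmax ⟨h, hcon⟩
    have hlt : Q < R := lt_of_le_of_ne (subpairLE_le hM hle) (Ne.symm hne)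
    have hc : Nat.card Q < Nat.card R := Set.ncard_lt_ncard (SetLike.coe_ssubset_coe.2 hlt) (Set.toFinite _)
    have hR : Nat.card R ≤ Nat.card G := R.card_le_card_group
    obtain ⟨S, k, hk, hle'⟩ := ih (Nat.card G - Nat.card R) (by omega) hg rfl
    exact ⟨S, k, hk, hle.trans hle'⟩

/-- Every pair is below a given maximal pair after conjugation. -/
theorem exists_conj_below (hmax : IsMaximalBrauerPair p M B P e) {Q : Subgroup G}
    {f : Set (IrrCharacter (Subgroup.centralizer (Q : Set G)))} (hf : IsBrauerPairOf p M B Q f) :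
    ∃ x : G, SubpairLE p M (Q.map (MulAut.conj x).toMonoidHom) (conjBlock Q x f) P e := by
  classical
  haveI := Fact.mk hM.1
  have hB := hmax.1.2.1
  obtain ⟨R, g, hg, hle⟩ := exists_maximal_above hM hf
  obtain ⟨horb, hD⟩ := maximal_key hM hmax
  have hDR := (maximal_key hM hg).2
  obtain ⟨w, hw, hwu⟩ := exists_pair_unit_coeff hM hg.1
  obtain ⟨x, hx⟩ := exists_conj_mem_defectGroup hM hB hwu hg.1.1.1
    (fun q hq => Subgroup.mem_centralizer_iff.1 hw q hq) hD
  have hRP : R.map (MulAut.conj x).toMonoidHom = P := by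
    refine Subgroup.eq_of_le_of_card_ge ?_ ?_
    · rintro _ ⟨q, hq, rfl⟩; exact hx q hq
    · rw [Subgroup.card_map_of_injective (MulAut.conj x).injective, card_defectGroup hM hB hD,
        card_defectGroup hM hB hDR]
  have h2 : IsBrauerPairOf p M B P (pushBlock (centEquiv (MulAut.conj x) hRP) g) := by
    have := isBrauerPairOf_push (MulAut.conj x) hRP hg.1
    rwa [pushBlock_conj] at this
  obtain ⟨y, hy, hye⟩ := (mem_orbitFinset hmax.1.1.2).1 (horb _ h2)
  refine ⟨y⁻¹ * x, ?_⟩
  have hRP' : R.map (MulAut.conj (y⁻¹ * x)).toMonoidHom = P := by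
    refine Subgroup.eq_of_le_of_card_ge ?_ ?_
    · rintro _ ⟨q, hq, rfl⟩
      show y⁻¹ * x * q * (y⁻¹ * x)⁻¹ ∈ P
      have := (Subgroup.mem_normalizer_iff.1 (inv_mem hy) _).1 (hx q hq)
      simpa [mul_assoc] using this
    · rw [Subgroup.card_map_of_injective (MulAut.conj _).injective, card_defectGroup hM hB hD,
        card_defectGroup hM hB hDR]
  have h3 := subpairLE_push (MulAut.conj (y⁻¹ * x)) rfl hRP' hle
  rw [conjBlock_eq_push]
  convert h3 using 1
  have h4 : pushBlock ((centEquiv (MulAut.conj x) hRP).trans (conjK (le_normalizer_centralizer P (inv_mem hy)))) g = e := by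
    rw [pushBlock_trans, ← hye, ← pushBlock_trans, conjK_mul]
    have e1 : conjK ((Subgroup.normalizer ((Subgroup.centralizer (P : Set G)) : Set G)).mul_mem
        (le_normalizer_centralizer P (inv_mem hy)) (le_normalizer_centralizer P hy)) = MulEquiv.refl _ :=
      MulEquiv.ext fun k => Subtype.ext (by simp [coe_conjK])
    rw [e1, pushBlock_refl]
  rw [← h4]
  congr 1
  exact MulEquiv.ext fun k => Subtype.ext (by simp [coe_conjK, coe_centEquiv, mul_assoc])

end Maximal

end CfsgLib.Blocks
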