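import Cfsg.Agent.Blocks.MaxPairs
import Cfsg.Agent.Blocks.Covering
import Cfsg.Agent.Blocks.NormalPSub
import Cfsg.Agent.Blocks.DefectConj
import Cfsg.Agent.S0917
import Cfsg.Agent.S0912
import Cfsg.Agent.S0918

/-!
# Blocks of `P C(P)` and blocks of `C(P)`
-/

set_option linter.unusedSectionVars false
set_option linter.style.haveILetI false

namespace CfsgLib.Blocks

open Cfsg CfsgLib.CharBasics CfsgLib.ZStar CfsgLib.Clifford

universe u

variable {G : Type u} [Group G] [Fintype G] {p : ℕ} {M : Ideal AlgInt} {P H : Subgroup G}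

theorem normalizer_le_normalizer_sup (P : Subgroup G) :
    Subgroup.normalizer (P : Set G) ≤
      Subgroup.normalizer ((P ⊔ Subgroup.centralizer (P : Set G) : Subgroup G) : Set G) := by
  intro x hx
  have hmap : ∀ {K : Subgroup G}, x ∈ Subgroup.normalizer (K : Set G) → K.map (MulAut.conj x).toMonoidHom = K := by
    intro K hK
    ext y
    refine ⟨?_, fun hy => ⟨x⁻¹ * y * x, ?_, by simp [mul_assoc]⟩⟩
    · rintro ⟨k, hk, rfl⟩; exact (Subgroup.mem_normalizer_iff.1 hK k).1 hk
    · exact (Subgroup.mem_normalizer_iff.1 hK _).2 (by simpa [mul_assoc] using hy)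
  have h : (P ⊔ Subgroup.centralizer (P : Set G)).map (MulAut.conj x).toMonoidHom =
      P ⊔ Subgroup.centralizer (P : Set G) := by
    rw [Subgroup.map_sup, hmap hx, hmap (le_normalizer_centralizer P hx)]
  rw [Subgroup.mem_normalizer_iff]
  intro y
  refine ⟨fun hy => ?_, fun hy => ?_⟩
  · rw [← h]
    exact ⟨y, hy, rfl⟩
  · rw [← h] at hy
    obtain ⟨z, hz, hzy⟩ := hy
    have : z = y := mul_left_cancel (mul_right_cancel hzy)
    exact this ▸ hz

/-- `θ` is the constituent of `ξ` on the centralizer. -/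
def LiesOver (hCH : Subgroup.centralizer (P : Set G) ≤ H) (ξ : IrrCharacter H)
    (θ : IrrCharacter (Subgroup.centralizer (P : Set G))) : Prop :=
  ∀ c : Subgroup.centralizer (P : Set G),
    (ξ : H → ℂ) ⟨(c : G), hCH c.2⟩ * (θ : Subgroup.centralizer (P : Set G) → ℂ) 1 = (θ : Subgroup.centralizer (P : Set G) → ℂ) c * (ξ : H → ℂ) 1

variable (hH : H = P ⊔ Subgroup.centralizer (P : Set G)) (hCH : Subgroup.centralizer (P : Set G) ≤ H)
include hH

theorem exists_mul_of_sup {h : G} (hh : h ∈ H) :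
    ∃ d ∈ P, ∃ c ∈ Subgroup.centralizer (P : Set G), h = d * c := by
  rw [hH] at hh
  have hn : Subgroup.centralizer (P : Set G) ≤ Subgroup.normalizer (P : Set G) :=
    Subgroup.centralizer_le_normalizer _
  rw [← SetLike.mem_coe, Subgroup.coe_mul_of_right_le_normalizer_left P _ hn] at hh
  obtain ⟨d, hd, c, hc, rfl⟩ := hh
  exact ⟨d, hd, c, hc, rfl⟩

/-- Conjugation by `H` is inner on the centralizer. -/
theorem exists_inner (h : H) (c : Subgroup.centralizer (P : Set G)) :
    ∃ k c' : Subgroup.centralizer (P : Set G), (c' : G) = (h : G) * c * (h : G)⁻¹ ∧ c' = k * c * k⁻¹ := by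
  obtain ⟨d, hd, k, hk, hdk⟩ := exists_mul_of_sup hH h.2
  refine ⟨⟨k, hk⟩, ⟨k, hk⟩ * c * (⟨k, hk⟩ : Subgroup.centralizer (P : Set G))⁻¹, ?_, rfl⟩
  set z : Subgroup.centralizer (P : Set G) := ⟨k, hk⟩ * c * (⟨k, hk⟩ : Subgroup.centralizer (P : Set G))⁻¹ with hz
  rw [hdk]
  have hdz : d * (z : G) = (z : G) * d := Subgroup.mem_centralizer_iff.1 z.2 d hd
  calc (z : G) = (z : G) * d * d⁻¹ := by group
    _ = d * (z : G) * d⁻¹ := by rw [hdz]
    _ = d * k * (c : G) * (d * k)⁻¹ := by rw [hz]; simp only [Subgroup.coe_mul, Subgroup.coe_inv]; group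

theorem isClassFunction_conj {f : Subgroup.centralizer (P : Set G) → ℂ} (hf : IsClassFunction _ f) (h : H)
    (c c' : Subgroup.centralizer (P : Set G)) (hc : (c' : G) = (h : G) * c * (h : G)⁻¹) : f c' = f c := by
  obtain ⟨k, c'', h1, h2⟩ := exists_inner hH h c
  rw [show c' = c'' from Subtype.ext (hc.trans h1.symm), h2]
  exact hf c k

theorem normal_centralizer_subgroupOf : ((Subgroup.centralizer (P : Set G)).subgroupOf H).Normal :=
  ⟨fun c hc h => by
    obtain ⟨k, c', h1, -⟩ := exists_inner hH h ⟨(c : G), hc⟩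
    rw [Subgroup.mem_subgroupOf]
    exact (h1 ▸ c'.2 : _)⟩

include hCH

theorem exists_liesOver (ξ : IrrCharacter H) : ∃ θ, LiesOver hCH ξ θ := by
  classical
  haveI := Fintype.ofFinite H
  haveI := Fintype.ofFinite ((Subgroup.centralizer (P : Set G)).subgroupOf H)
  haveI := normal_centralizer_subgroupOf hH
  obtain ⟨θ, hθ⟩ := exists_constituent_restrict ((Subgroup.centralizer (P : Set G)).subgroupOf H) ξ
  let e := Subgroup.subgroupOfEquivOfLe hCH
  let θ' : IrrCharacter (Subgroup.centralizer (P : Set G)) := pushChar e θ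
  have hinv : ∀ g : H, conjFun g (θ : (Subgroup.centralizer (P : Set G)).subgroupOf H → ℂ) = (θ : (Subgroup.centralizer (P : Set G)).subgroupOf H → ℂ) := by
    intro g
    funext m
    have h1 := isClassFunction_conj hH (isClassFunction (isCharacter_of_irr θ'.2)) g (e m)
      (e ⟨g * m * g⁻¹, Subgroup.Normal.conj_mem inferInstance _ m.2 g⟩) rfl
    simp only [θ', pushChar_apply, MulEquiv.symm_apply_apply] at h1
    exact h1
  have h := restrict_eq_smul_of_invariant ξ.2 θ.2 hinv hθ
  refine ⟨θ', fun c => ?_⟩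
  have h1 := congrFun h (e.symm c)
  have h2 := congrFun h 1
  simp only [Pi.smul_apply, smul_eq_mul, Subgroup.coe_one] at h1 h2
  simp only [θ', pushChar_apply, map_one]
  rw [h2]
  have e1 : ((e.symm c : (Subgroup.centralizer (P : Set G)).subgroupOf H) : H) = ⟨(c : G), hCH c.2⟩ := rfl
  rw [e1] at h1
  rw [h1]
  ring

theorem omega_extElt_eq [Fintype (Subgroup.centralizer (P : Set G))] [Fintype H] {ξ : IrrCharacter H}
    {θ : IrrCharacter (Subgroup.centralizer (P : Set G))}
    (h : LiesOver hCH ξ θ) (z : MonoidAlgebra ℂ (Subgroup.centralizer (P : Set G))) :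
    omega (ξ : H → ℂ) (res H (extElt (Subgroup.centralizer (P : Set G)) z)) = omega (θ : Subgroup.centralizer (P : Set G) → ℂ) z := by
  classical
  rw [omega, omega, div_eq_div_iff (apply_one_ne_zero ξ.2) (apply_one_ne_zero θ.2), Finset.sum_mul, Finset.sum_mul]
  rw [← Finset.sum_subset (Finset.subset_univ (Finset.univ.image (Subgroup.inclusion hCH)))]
  · rw [Finset.sum_image (fun x _ y _ h => Subgroup.inclusion_injective hCH h)]
    refine Finset.sum_congr rfl fun c _ => ?_
    rw [coeff_res, show ((Subgroup.inclusion hCH c : H) : G) = (c : G) from rfl, coeff_extElt_coe, mul_assoc,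
      mul_assoc]
    exact congrArg _ (h c)
  · intro t _ ht
    rw [coeff_res, coeff_extElt_of_notMem, zero_mul, zero_mul]
    exact fun hn => ht (Finset.mem_image.2 ⟨⟨_, hn⟩, Finset.mem_univ _, Subtype.ext rfl⟩)

theorem isClassElt_res_ext [Fintype (Subgroup.centralizer (P : Set G))] [Fintype H]
    {z : MonoidAlgebra ℂ (Subgroup.centralizer (P : Set G))} (hz : IsClassElt z) :
    IsClassElt (res H (extElt (Subgroup.centralizer (P : Set G)) z)) := by
  intro x h
  simp only [coeff_res, Subgroup.coe_mul, Subgroup.coe_inv]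
  by_cases hx : (x : G) ∈ Subgroup.centralizer (P : Set G)
  · obtain ⟨k, c', h1, h2⟩ := exists_inner hH h ⟨(x : G), hx⟩
    rw [coeff_extElt_mem _ _ hx, ← h1, coeff_extElt_coe, h2]
    exact coeff_conj hz _ _
  · rw [coeff_extElt_of_notMem _ _ hx, coeff_extElt_of_notMem]
    intro hn
    obtain ⟨k, c', h1, -⟩ := exists_inner hH h⁻¹ ⟨_, hn⟩
    apply hx
    have : (c' : G) = (x : G) := by rw [h1]; simp [mul_assoc]
    exact this ▸ c'.2

theorem centralChar_eq_of_liesOver [Fintype H] {ξ : IrrCharacter H}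
    {θ : IrrCharacter (Subgroup.centralizer (P : Set G))}
    (h : LiesOver hCH ξ θ) (c : Subgroup.centralizer (P : Set G)) :
    centralChar (ξ : H → ℂ) ⟨(c : G), hCH c.2⟩ = centralChar (θ : Subgroup.centralizer (P : Set G) → ℂ) c := by
  classical
  haveI := Fintype.ofFinite (Subgroup.centralizer (P : Set G))
  rw [← omega_classElt ξ.2, ← omega_classElt θ.2, ← omega_extElt_eq hH hCH h]
  congr 1
  ext y
  rw [coeff_res, coeff_classElt]
  by_cases hy : (y : G) ∈ Subgroup.centralizer (P : Set G)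
  · rw [coeff_extElt_mem _ _ hy, coeff_classElt]
    refine if_congr ⟨fun hc => ?_, fun hc => ?_⟩ rfl rfl
    · obtain ⟨g, hg⟩ := isConj_iff.1 hc
      obtain ⟨k, c', h1, h2⟩ := exists_inner hH g c
      refine isConj_iff.2 ⟨k, ?_⟩
      rw [← h2]
      exact Subtype.ext (h1.trans (congrArg Subtype.val hg))
    · obtain ⟨k, hk⟩ := isConj_iff.1 hc
      exact isConj_iff.2 ⟨⟨(k : G), hCH k.2⟩, Subtype.ext (congrArg Subtype.val hk :)⟩
  · rw [coeff_extElt_of_notMem _ _ hy, if_neg]
    intro hc
    obtain ⟨g, hg⟩ := isConj_iff.1 hc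
    obtain ⟨k, c', h1, -⟩ := exists_inner hH g c
    exact hy ((h1.trans (congrArg Subtype.val hg)) ▸ c'.2)

theorem mem_centralizer_subgroupOf_iff (hPH : P ≤ H) (h : H) :
    h ∈ Subgroup.centralizer ((P.subgroupOf H : Subgroup H) : Set H) ↔
      (h : G) ∈ Subgroup.centralizer (P : Set G) := by
  simp only [Subgroup.mem_centralizer_iff, SetLike.mem_coe, Subgroup.mem_subgroupOf]
  exact ⟨fun k u hu => congrArg Subtype.val (k ⟨u, hPH hu⟩ hu), fun k u hu => Subtype.ext (k u hu)⟩

theorem normal_subgroupOf_left : (P.subgroupOf H).Normal := by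
  refine (Subgroup.normal_subgroupOf_iff_le_normalizer (hH ▸ le_sup_left)).2 ?_
  rw [hH]
  exact sup_le Subgroup.le_normalizer (Subgroup.centralizer_le_normalizer _)

theorem centralChar_mem_of_notMem [Fintype H] (hM : IsPModular p M) (hP : IsPGroup p P) (ξ : IrrCharacter H) {h : H}
    (hh : (h : G) ∉ Subgroup.centralizer (P : Set G)) : MemLocalIdeal M (centralChar (ξ : H → ℂ) h) := by
  have hPH : P ≤ H := hH ▸ le_sup_left
  haveI := normal_subgroupOf_left hH hCH
  haveI := Fintype.ofFinite (P.subgroupOf H)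
  exact centralChar_mem_of_notMem_centralizer hM (P.subgroupOf H)
    (hP.of_equiv (Subgroup.subgroupOfEquivOfLe hPH).symm) ξ
    fun k => hh ((mem_centralizer_subgroupOf_iff hH hCH hPH h).1 k)

theorem sameBlock_liesOver [Fintype H] (hM : IsPModular p M) (hP : IsPGroup p P) {ξ ξ' : IrrCharacter H}
    {θ θ' : IrrCharacter (Subgroup.centralizer (P : Set G))} (h : LiesOver hCH ξ θ) (h' : LiesOver hCH ξ' θ') :
    SameBlock M (ξ : H → ℂ) (ξ' : H → ℂ) ↔ SameBlock M (θ : Subgroup.centralizer (P : Set G) → ℂ) (θ' : Subgroup.centralizer (P : Set G) → ℂ) := by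
  refine ⟨fun hs c => ?_, fun hs x => ?_⟩
  · have := hs ⟨(c : G), hCH c.2⟩
    rwa [centralChar_eq_of_liesOver hH hCH h, centralChar_eq_of_liesOver hH hCH h'] at this
  · by_cases hx : (x : G) ∈ Subgroup.centralizer (P : Set G)
    · have := hs ⟨_, hx⟩
      rw [← centralChar_eq_of_liesOver hH hCH h, ← centralChar_eq_of_liesOver hH hCH h'] at this
      exact this
    · exact memLocalIdeal_sub hM (centralChar_mem_of_notMem hH hCH hM hP ξ hx)
        (centralChar_mem_of_notMem hH hCH hM hP ξ' hx)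

/-- The coefficients of a block of `H` are those of the block below it. -/
theorem blockElt_eq_ext [Fintype (Subgroup.centralizer (P : Set G))] [Fintype H] (hM : IsPModular p M)
    (hP : IsPGroup p P) {b : Set (IrrCharacter H)} (hb : IsPBlock M b)
    {ξ : IrrCharacter H} (hξ : ξ ∈ b) {θ : IrrCharacter (Subgroup.centralizer (P : Set G))} (h : LiesOver hCH ξ θ) :
    blockElt b = res H (extElt (Subgroup.centralizer (P : Set G)) (blockElt (blockOf M (θ : Subgroup.centralizer (P : Set G) → ℂ)))) := by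
  classical
  refine eq_of_omega_eq (isClassElt_blockElt b) (isClassElt_res_ext hH hCH (isClassElt_blockElt _)) fun η => ?_
  obtain ⟨φ, hφ⟩ := exists_liesOver hH hCH η
  rw [omega_blockElt, omega_extElt_eq hH hCH hφ, omega_blockElt]
  exact if_congr ((IsPBlock.mem_iff hM hb hξ).trans (sameBlock_liesOver hH hCH hM hP h hφ)) rfl rfl

theorem blockCoeff_of_liesOver [Fintype H] (hM : IsPModular p M)
    (hP : IsPGroup p P) {b : Set (IrrCharacter H)} (hb : IsPBlock M b)
    {ξ : IrrCharacter H} (hξ : ξ ∈ b) {θ : IrrCharacter (Subgroup.centralizer (P : Set G))} (h : LiesOver hCH ξ θ)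
    (c : Subgroup.centralizer (P : Set G)) :
    blockCoeff b ⟨(c : G), hCH c.2⟩ = blockCoeff (blockOf M (θ : Subgroup.centralizer (P : Set G) → ℂ)) c := by
  classical
  haveI := Fintype.ofFinite (Subgroup.centralizer (P : Set G))
  rw [← coeff_blockElt, blockElt_eq_ext hH hCH hM hP hb hξ h, coeff_res]
  show (extElt _ _).coeff (c : G) = _
  rw [coeff_extElt_coe, coeff_blockElt]

/-- A block of `H` inducing `B` gives a pair of `B`. -/
theorem isBrauerPairOf_of_induced [Fintype H] (hM : IsPModular p M) (hP : IsPGroup p P) {b : Set (IrrCharacter H)}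
    {B : Set (IrrCharacter G)} (hind : IsInducedBlock M H b B) {ξ : IrrCharacter H} (hξ : ξ ∈ b)
    {θ : IrrCharacter (Subgroup.centralizer (P : Set G))} (h : LiesOver hCH ξ θ) :
    IsBrauerPairOf p M B P (blockOf M (θ : Subgroup.centralizer (P : Set G) → ℂ)) := by
  classical
  haveI := Fintype.ofFinite (Subgroup.centralizer (P : Set G))
  haveI : Fintype (ConjClasses H) := Fintype.ofFinite _
  have hB := hind.2.1
  have hc := isClassElt_blockElt B
  have hi := isIntegralElt_blockElt hM hB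
  refine (isBrauerPairOf_iff hM hP hB (isPBlock_blockOf M θ) (mem_blockOf_self hM θ)).2 ?_
  rw [← omega_extElt_eq hH hCH h]
  obtain ⟨χ, hχ⟩ := IsPBlock.nonempty hM hB
  have h1 := omega_res_induced hM hind hξ hχ hc hi
  rw [omega_blockElt, if_pos hχ] at h1
  have hzc := isClassElt_res_ext hH hCH (isClassElt_res hc (Subgroup.centralizer (P : Set G)))
  have h2 : MemLocalIdeal M (omega (ξ : H → ℂ) (res H (blockElt B)) -
      omega (ξ : H → ℂ) (res H (extElt (Subgroup.centralizer (P : Set G))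
        (res (Subgroup.centralizer (P : Set G)) (blockElt B))))) := by
    rw [omega_eq_sum_classes ξ (isClassElt_res hc H), omega_eq_sum_classes ξ hzc, ← Finset.sum_sub_distrib]
    refine memLocalIdeal_sum hM _ fun C _ => ?_
    rw [← sub_mul]
    by_cases hC : ((C.out : H) : G) ∈ Subgroup.centralizer (P : Set G)
    · rw [coeff_res, coeff_res, coeff_extElt_mem _ _ hC, coeff_res, sub_self, zero_mul]
      exact memLocalIdeal_zero hM
    · rw [coeff_res, coeff_res, coeff_extElt_of_notMem _ _ hC, sub_zero]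
      exact memLocalIdeal_mul_left hM (hi _) (centralChar_mem_of_notMem hH hCH hM hP ξ hC)
  have h3 := memLocalIdeal_sub hM h1 h2
  rwa [sub_sub, add_sub, show ∀ a b : ℂ, a - (1 + a - b) = b - 1 from fun a b => by ring] at h3

theorem liesOver_push {x : G} (hx : x ∈ Subgroup.normalizer (P : Set G)) (hxH : x ∈ Subgroup.normalizer (H : Set G))
    {ξ : IrrCharacter H} {θ : IrrCharacter (Subgroup.centralizer (P : Set G))} (h : LiesOver hCH ξ θ) :
    LiesOver hCH (pushChar (conjK hxH) ξ) (pushChar (conjK (le_normalizer_centralizer P hx)) θ) := by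
  intro c
  simp only [pushChar_apply, map_one]
  have h1 := h ((conjK (le_normalizer_centralizer P hx)).symm c)
  exact h1

theorem stable_liesOver {b : Set (IrrCharacter H)} (hb : IsPBlock M b) [Fintype H] (hM : IsPModular p M) (hP : IsPGroup p P)
    {ξ : IrrCharacter H} (hξ : ξ ∈ b) {θ : IrrCharacter (Subgroup.centralizer (P : Set G))} (h : LiesOver hCH ξ θ)
    {x : G} (hx : x ∈ Subgroup.normalizer (P : Set G)) (hxH : x ∈ Subgroup.normalizer (H : Set G)) :
    StabilizesBlock H b x ↔ StabilizesBlock (Subgroup.centralizer (P : Set G)) (blockOf M (θ : Subgroup.centralizer (P : Set G) → ℂ)) x := by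
  rw [stabilizesBlock_iff, stabilizesBlock_iff]
  have hx' := le_normalizer_centralizer P hx
  have hl := liesOver_push hH hCH hx hxH h
  refine ⟨fun ⟨_, he⟩ => ⟨hx', ?_⟩, fun ⟨_, he⟩ => ⟨hxH, ?_⟩⟩
  · have h1 : pushChar (conjK hxH) ξ ∈ b := he ▸ Set.mem_image_of_mem _ hξ
    have h2 := (sameBlock_liesOver hH hCH hM hP h hl).1 ((IsPBlock.mem_iff hM hb hξ).1 h1)
    exact IsPBlock.eq_of_mem hM (isPBlock_pushBlock _ (isPBlock_blockOf M θ)) (isPBlock_blockOf M θ)
      (Set.mem_image_of_mem _ (mem_blockOf_self hM θ)) h2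
  · have h2 : pushChar (conjK hx') θ ∈ blockOf M (θ : Subgroup.centralizer (P : Set G) → ℂ) :=
      he ▸ Set.mem_image_of_mem _ (mem_blockOf_self hM θ)
    have h1 := (IsPBlock.mem_iff hM hb hξ).2 ((sameBlock_liesOver hH hCH hM hP h hl).2 h2)
    exact IsPBlock.eq_of_mem hM (isPBlock_pushBlock _ hb) hb (Set.mem_image_of_mem _ hξ) h1

theorem stabilizes_of_mem [Fintype H] (b : Set (IrrCharacter H)) {x : G} (hx : x ∈ H) : StabilizesBlock H b x := by
  refine stabilizesBlock_iff.2 ⟨Subgroup.le_normalizer hx, ?_⟩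
  have : conjK (K := H) (Subgroup.le_normalizer hx) = MulAut.conj (⟨x, hx⟩ : H) :=
    MulEquiv.ext fun k => Subtype.ext (by simp [coe_conjK])
  rw [this, pushBlock_conj]

/-- A `p`-group in `H` centralizing a unit coefficient has order at most that of the defect groups. -/
theorem card_le_of_unit_coeff [Fintype H] (hM : IsPModular p M) {b : Set (IrrCharacter H)} (hb : IsPBlock M b)
    {R : Subgroup G} (hR : IsPGroup p R) (hRH : R ≤ H) {v : H}
    (hv : ∀ r ∈ R, r * (v : G) = (v : G) * r) (hu : ¬ MemLocalIdeal M (blockCoeff b v)) :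
    Nat.card R ≤ p ^ blockDefect p b := by
  obtain ⟨D, hD, hle⟩ := exists_defectGroup_ge hM hb hu (hR.of_equiv (Subgroup.subgroupOfEquivOfLe hRH).symm)
    fun q hq => Subtype.ext (hv _ hq)
  rw [← card_defectGroup hM hb hD, ← Nat.card_congr (Subgroup.subgroupOfEquivOfLe hRH).toEquiv]
  exact Subgroup.card_le_of_le hle

/-- A block of `H` inducing `B` with defect group `P` has defect group `P`. -/
theorem isDefectGroup_of_induced [Fintype H] (hM : IsPModular p M) (hP : IsPGroup p P) {b : Set (IrrCharacter H)}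
    {B : Set (IrrCharacter G)} (hind : IsInducedBlock M H b B) (hBP : IsDefectGroup p M B P) :
    IsDefectGroup p M b (P.subgroupOf H) := by
  haveI := Fact.mk hM.1
  have hPH : P ≤ H := hH ▸ le_sup_left
  obtain ⟨g, hg⟩ := exists_defectClass hM hind.1
  obtain ⟨S⟩ : Nonempty (Sylow p (Subgroup.centralizer ({g} : Set H))) := inferInstance
  set D := (S : Subgroup (Subgroup.centralizer ({g} : Set H))).map (Subgroup.centralizer ({g} : Set H)).subtype
  have hD : IsDefectGroup p M b D := ⟨g, hg, S, rfl⟩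
  clear_value D
  have hle : P.subgroupOf H ≤ D :=
    le_trans (CfsgLib.PCore.le_pCore (normal_subgroupOf_left hH hCH) (hP.of_equiv (Subgroup.subgroupOfEquivOfLe hPH).symm))
      (Cfsg.Agent.S0912.result p M hM b hind.1 D hD)
  obtain ⟨E, hE, hDE⟩ := Cfsg.Agent.S0917.result p M hM H b hind.1 B hind.2.1 hind D hD
  have hcard : Nat.card D ≤ Nat.card P := by
    rw [← Subgroup.card_map_of_injective H.subtype_injective]
    refine (Subgroup.card_le_of_le hDE).trans_eq ?_
    rw [card_defectGroup hM hind.2.1 hE, card_defectGroup hM hind.2.1 hBP]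
  rw [Subgroup.eq_of_le_of_card_ge hle (by rwa [Nat.card_congr (Subgroup.subgroupOfEquivOfLe hPH).toEquiv])]
  exact hD

end CfsgLib.Blocks
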