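import Cfsg.Agent.Blocks.Pairs

/-!
# Inclusion of Brauer pairs
-/

set_option linter.unusedSectionVars false
set_option linter.style.haveILetI false

namespace CfsgLib.Blocks

open Cfsg CfsgLib.CharBasics CfsgLib.ZStar
open scoped ComplexConjugate

universe u

variable {G : Type u} [Group G] [Fintype G] {p : ℕ} {M : Ideal AlgInt}

/-- The normalizer of a subgroup normalizes its centralizer. -/
theorem le_normalizer_centralizer (Q : Subgroup G) :
    Subgroup.normalizer (Q : Set G) ≤ Subgroup.normalizer (Subgroup.centralizer (Q : Set G) : Set G) := by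
  intro x hx
  rw [Subgroup.mem_normalizer_iff]
  intro c
  simp only [SetLike.mem_coe, Subgroup.mem_centralizer_iff]
  constructor
  · intro h q hq
    have hq' : x⁻¹ * q * x ∈ Q := (Subgroup.mem_normalizer_iff.1 hx _).2 (by simpa [mul_assoc] using hq)
    have := congrArg (fun t => x * t * x⁻¹) (h _ hq')
    simpa [mul_assoc] using this
  · intro h q hq
    have := congrArg (fun t => x⁻¹ * t * x) (h _ ((Subgroup.mem_normalizer_iff.1 hx _).1 hq))
    simpa [mul_assoc] using this

section Transfer

variable {P K : Subgroup G} [Fintype (Subgroup.centralizer (P : Set G))] [Fintype K]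
variable (hM : IsPModular p M) (hP : IsPGroup p P) (hCK : Subgroup.centralizer (P : Set G) ≤ K)
include hM hP hCK

/-- The value on a stable block is constant on a block of the centralizer. -/
theorem phi_congr_block {ξ η : IrrCharacter (Subgroup.centralizer (P : Set G))}
    (h : SameBlock M (ξ : Subgroup.centralizer (P : Set G) → ℂ) (η : Subgroup.centralizer (P : Set G) → ℂ))
    {z : MonoidAlgebra ℂ K} (hz : IsClassElt z) (hzi : IsIntegralElt M z) :
    MemLocalIdeal M (phi P K ξ z - phi P K η z) :=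
  omega_sub_mem_of_sameBlock hM h (isClassElt_res_extElt hCK hz)
    (isIntegralElt_res (isIntegralElt_extElt hM K hzi) _)

/-- Below a pair, the central characters agree through the Brauer map. -/
theorem phi_transfer (ξ : IrrCharacter (Subgroup.centralizer (P : Set G))) {f : Set (IrrCharacter K)}
    (hf : IsPBlock M f) (hst : ∀ x ∈ P, StabilizesBlock K f x)
    (h1 : MemLocalIdeal M (phi P K ξ (blockElt f) - 1)) {η : IrrCharacter K} (hη : η ∈ f)
    {z : MonoidAlgebra ℂ K} (hz : IsClassElt z) (hzi : IsIntegralElt M z) (hzP : ConjInv P (extElt K z)) :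
    MemLocalIdeal M (phi P K ξ z - omega (η : K → ℂ) z) := by
  classical
  set c := omega (η : K → ℂ) z with hc
  have hcR : MemLocalRing M c := memLocalRing_omega hM η hz hzi
  have hec := isClassElt_blockElt f
  have hei := isIntegralElt_blockElt hM hf
  have heP := conjInv_extElt_blockElt (P := P) hst
  have hu : MemLocalIdeal M (phi P K ξ (z * blockElt f - c • blockElt f)) := by
    refine phi_small hM hP hCK ξ ((hz.mul hec).sub (hec.smul c))
      ((hzi.mul hM hei).sub hM (hei.smul hM hcR)) ?_ fun χ => ?_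
    · rw [extElt_sub, extElt_mul, extElt_smul]
      intro q hq g
      simp only [MonoidAlgebra.coeff_sub, Finsupp.sub_apply, MonoidAlgebra.coeff_smul, Finsupp.smul_apply,
        (hzP.mul heP) q hq g, heP q hq g]
    · rw [omega_sub, omega_mul χ.2 hz, omega_smul, omega_blockElt]
      split_ifs with hχ
      · rw [mul_one, mul_one]
        exact omega_sub_mem_of_sameBlock hM ((IsPBlock.mem_iff hM hf hχ).1 hη) hz hzi
      · rw [mul_zero, mul_zero, sub_zero]; exact memLocalIdeal_zero hM
  rw [phi_sub, phi_smul] at hu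
  have h2 := phi_mul_congr hM hP hCK ξ hz hec hzi hei hzP heP
  have hzR := memLocalRing_phi hM hP hCK ξ hz hzi
  have key : phi P K ξ z - c = (phi P K ξ (z * blockElt f) - c * phi P K ξ (blockElt f))
      - (phi P K ξ (z * blockElt f) - phi P K ξ z * phi P K ξ (blockElt f))
      - (phi P K ξ z - c) * (phi P K ξ (blockElt f) - 1) := by ring
  rw [key]
  refine memLocalIdeal_sub hM (memLocalIdeal_sub hM hu h2) (memLocalIdeal_mul_left hM ?_ h1)
  rw [sub_eq_add_neg]
  exact memLocalRing_add hM hzR (memLocalRing_neg hcR)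

end Transfer

section Order

variable (hM : IsPModular p M)
include hM

theorem isNormalSubpair_iff {Q P : Subgroup G} [Fintype (Subgroup.centralizer (Q : Set G))]
    [Fintype (Subgroup.centralizer (P : Set G))] (hP : IsPGroup p P) (hQP : Q ≤ P)
    (hPN : P ≤ Subgroup.normalizer (Q : Set G))
    {f : Set (IrrCharacter (Subgroup.centralizer (Q : Set G)))}
    {e : Set (IrrCharacter (Subgroup.centralizer (P : Set G)))} (he : IsPBlock M e)
    {ξ : IrrCharacter (Subgroup.centralizer (P : Set G))} (hξ : ξ ∈ e) :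
    IsNormalSubpair p M Q f P e ↔
      IsPBlock M f ∧ (∀ x ∈ P, StabilizesBlock (Subgroup.centralizer (Q : Set G)) f x) ∧
        MemLocalIdeal M (phi P (Subgroup.centralizer (Q : Set G)) ξ (blockElt f) - 1) := by
  constructor
  · rintro ⟨⟨-, hf⟩, -, -, -, hst, h⟩
    exact ⟨hf, hst, brauerOmega_subgroupBlockCoeff (P := P) f ξ ▸ h ξ hξ⟩
  · rintro ⟨hf, hst, h⟩
    refine ⟨⟨hP.to_le hQP, hf⟩, ⟨hP, he⟩, hQP, hPN, hst, fun η hη => ?_⟩
    rw [brauerOmega_subgroupBlockCoeff]
    have h' := phi_congr_block hM hP (Subgroup.centralizer_le (SetLike.coe_subset_coe.2 hQP))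
      ((IsPBlock.mem_iff hM he hξ).1 hη) (isClassElt_blockElt f) (isIntegralElt_blockElt hM hf)
    have := memLocalIdeal_sub hM h h'
    rwa [sub_sub_sub_cancel_left] at this

theorem existsUnique_normalSubpair {Q P : Subgroup G} (hP : IsPGroup p P) (hQP : Q ≤ P)
    (hPN : P ≤ Subgroup.normalizer (Q : Set G))
    {e : Set (IrrCharacter (Subgroup.centralizer (P : Set G)))} (he : IsPBlock M e) :
    ∃! f : Set (IrrCharacter (Subgroup.centralizer (Q : Set G))), IsNormalSubpair p M Q f P e := by
  haveI := Fintype.ofFinite (Subgroup.centralizer (Q : Set G))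
  haveI := Fintype.ofFinite (Subgroup.centralizer (P : Set G))
  have hCK : Subgroup.centralizer (P : Set G) ≤ Subgroup.centralizer (Q : Set G) :=
    Subgroup.centralizer_le (SetLike.coe_subset_coe.2 hQP)
  obtain ⟨ξ, hξ⟩ := IsPBlock.nonempty hM he
  obtain ⟨f, hf, hst, h⟩ := exists_phi_one hM hP hCK (hPN.trans (le_normalizer_centralizer Q)) ξ
  refine ⟨f, (isNormalSubpair_iff hM hP hQP hPN he hξ).2 ⟨hf, hst, h⟩, fun f' h' => ?_⟩
  obtain ⟨hf', hst', h'⟩ := (isNormalSubpair_iff hM hP hQP hPN he hξ).1 h'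
  exact eq_of_phi_one hM hP hCK ξ hf' hf hst' hst
    (fun k => not_memLocalIdeal_one hM (by simpa using memLocalIdeal_sub hM k h'))
    (fun k => not_memLocalIdeal_one hM (by simpa using memLocalIdeal_sub hM k h))

theorem eq_of_normalSubpair_self {P : Subgroup G} {f e : Set (IrrCharacter (Subgroup.centralizer (P : Set G)))}
    (h : IsNormalSubpair p M P f P e) : f = e := by
  classical
  haveI := Fintype.ofFinite (Subgroup.centralizer (P : Set G))
  obtain ⟨ξ, hξ⟩ := IsPBlock.nonempty hM h.2.1.2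
  obtain ⟨hf, -, h1⟩ := (isNormalSubpair_iff hM h.2.1.1 le_rfl h.2.2.2.1 h.2.1.2 hξ).1 h
  refine IsPBlock.eq_of_mem hM hf h.2.1.2 ?_ hξ
  by_contra hn
  have e1 : phi P (Subgroup.centralizer (P : Set G)) ξ (blockElt f) = omega (ξ : _ → ℂ) (blockElt f) := by
    rw [phi]
    congr 1
    ext c
    rw [coeff_res, coeff_extElt_coe]
  rw [e1, omega_blockElt, if_neg hn, zero_sub] at h1
  exact not_memLocalIdeal_one hM (by simpa using memLocalIdeal_neg h1)

/-- Two normal steps below the same pair give one. -/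
theorem normal_trans {Q R P : Subgroup G}
    {f : Set (IrrCharacter (Subgroup.centralizer (Q : Set G)))}
    {g : Set (IrrCharacter (Subgroup.centralizer (R : Set G)))}
    {e : Set (IrrCharacter (Subgroup.centralizer (P : Set G)))} (hQR : Q ≤ R)
    (hf : IsNormalSubpair p M Q f P e) (hg : IsNormalSubpair p M R g P e) : IsNormalSubpair p M Q f R g := by
  classical
  haveI := Fintype.ofFinite (Subgroup.centralizer (Q : Set G))
  haveI := Fintype.ofFinite (Subgroup.centralizer (R : Set G))
  haveI := Fintype.ofFinite (Subgroup.centralizer (P : Set G))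
  have hP := hf.2.1.1
  have hR := hg.1.1
  have hRP : R ≤ P := hg.2.2.1
  have hQP : Q ≤ P := hf.2.2.1
  obtain ⟨ξ, hξ⟩ := IsPBlock.nonempty hM hf.2.1.2
  obtain ⟨η, hη⟩ := IsPBlock.nonempty hM hg.1.2
  obtain ⟨hfb, hfst, hf1⟩ := (isNormalSubpair_iff hM hP hQP hf.2.2.2.1 hf.2.1.2 hξ).1 hf
  obtain ⟨hgb, hgst, hg1⟩ := (isNormalSubpair_iff hM hP hRP hg.2.2.2.1 hg.2.1.2 hξ).1 hg
  refine (isNormalSubpair_iff hM hR hQR (hRP.trans hf.2.2.2.1) hgb hη).2
    ⟨hfb, fun x hx => hfst x (hRP hx), ?_⟩
  have hRQ : (Subgroup.centralizer (R : Set G)) ≤ (Subgroup.centralizer (Q : Set G)) := Subgroup.centralizer_le (SetLike.coe_subset_coe.2 hQR)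
  have hPR : Subgroup.centralizer (P : Set G) ≤ (Subgroup.centralizer (R : Set G)) := Subgroup.centralizer_le (SetLike.coe_subset_coe.2 hRP)
  let z : MonoidAlgebra ℂ (Subgroup.centralizer (R : Set G)) := res (Subgroup.centralizer (R : Set G)) (extElt (Subgroup.centralizer (Q : Set G)) (blockElt f))
  have hzc : IsClassElt z := isClassElt_res_extElt (P := R) hRQ (isClassElt_blockElt f)
  have hzi : IsIntegralElt M z := isIntegralElt_res (isIntegralElt_extElt hM (Subgroup.centralizer (Q : Set G)) (isIntegralElt_blockElt hM hfb)) (Subgroup.centralizer (R : Set G))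
  have hval : ∀ x ∈ (Subgroup.centralizer (R : Set G)), (extElt (Subgroup.centralizer (R : Set G)) z).coeff x = (extElt (Subgroup.centralizer (Q : Set G)) (blockElt f)).coeff x := fun x hx => by
    rw [coeff_extElt_mem (Subgroup.centralizer (R : Set G)) _ hx, coeff_res]
  have hzP : ConjInv P (extElt (Subgroup.centralizer (R : Set G)) z) := by
    intro q hq x
    have hqn : q ∈ Subgroup.normalizer ((Subgroup.centralizer (R : Set G)) : Set G) := le_normalizer_centralizer R (hg.2.2.2.1 hq)
    by_cases hx : x ∈ (Subgroup.centralizer (R : Set G))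
    · rw [hval x hx, hval _ ((Subgroup.mem_normalizer_iff.1 hqn x).1 hx)]
      exact conjInv_extElt_blockElt hfst q hq x
    · rw [coeff_extElt_of_notMem (Subgroup.centralizer (R : Set G)) _ hx,
        coeff_extElt_of_notMem (Subgroup.centralizer (R : Set G)) _ fun h => hx ((Subgroup.mem_normalizer_iff.1 hqn x).2 h)]
  have h2 := phi_transfer hM hP hPR ξ hgb hgst hg1 hη hzc hzi hzP
  have e1 : phi P (Subgroup.centralizer (R : Set G)) ξ z = phi P (Subgroup.centralizer (Q : Set G)) ξ (blockElt f) := by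
    rw [phi, phi]
    congr 1
    ext c
    rw [coeff_res, coeff_res, hval _ (hPR c.2)]
  rw [e1] at h2
  have h3 : MemLocalIdeal M (omega (η : (Subgroup.centralizer (R : Set G)) → ℂ) z - 1) := by
    have := memLocalIdeal_sub hM hf1 h2
    rwa [sub_sub_sub_cancel_left] at this
  exact h3

theorem subpairLE_le {Q P : Subgroup G} {f : Set (IrrCharacter (Subgroup.centralizer (Q : Set G)))}
    {e : Set (IrrCharacter (Subgroup.centralizer (P : Set G)))} (h : SubpairLE p M Q f P e) : Q ≤ P := by
  unfold SubpairLE at h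
  suffices ∀ a b : BrauerPairIdx G, Relation.ReflTransGen (NormalSubpairRel p M) a b → a.1 ≤ b.1 from this _ _ h
  intro a b hab
  induction hab with
  | refl => exact le_rfl
  | tail _ h2 ih => exact ih.trans h2.2.2.1

/-- The last proper step of a chain. -/
theorem chain_cases (a b : BrauerPairIdx G) (h : Relation.ReflTransGen (NormalSubpairRel p M) a b) :
    a = b ∨ ∃ c : BrauerPairIdx G, Relation.ReflTransGen (NormalSubpairRel p M) a c ∧
      NormalSubpairRel p M c b ∧ c.1 < b.1 := by
  induction h with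
  | refl => exact Or.inl rfl
  | @tail b c hab hbc ih =>
    rcases lt_or_eq_of_le hbc.2.2.1 with hlt | heq
    · exact Or.inr ⟨b, hab, hbc, hlt⟩
    · obtain ⟨R, g⟩ := b
      obtain ⟨S, e⟩ := c
      change R = S at heq
      subst heq
      obtain rfl := eq_of_normalSubpair_self hM hbc
      exact ih

theorem exists_below {P : Subgroup G} (hP : IsPGroup p P)
    {e : Set (IrrCharacter (Subgroup.centralizer (P : Set G)))} (he : IsPBlock M e) {Q : Subgroup G} (hQP : Q ≤ P) :
    ∃ f, IsPBlock M f ∧ SubpairLE p M Q f P e := by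
  haveI := Fact.mk hM.1
  induction hc : Nat.card P using Nat.strong_induction_on generalizing P with
  | _ n ih =>
    by_cases hQ : Q = P
    · subst hQ; exact ⟨e, he, Relation.ReflTransGen.refl⟩
    haveI : Group.IsNilpotent P := hP.isNilpotent
    rcases IsCoatomic.eq_top_or_exists_le_coatom (Q.subgroupOf P) with htop | ⟨R', hR', hQR'⟩
    · exact absurd (le_antisymm hQP (Subgroup.subgroupOf_eq_top.1 htop)) hQ
    set R := R'.map P.subtype with hR
    have hRP : R ≤ P := Subgroup.map_subtype_le R'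
    have hRN : P ≤ Subgroup.normalizer (R : Set G) := by
      have hn : R'.Normal := Subgroup.NormalizerCondition.normal_of_coatom R' Group.normalizerCondition_of_isNilpotent hR'
      intro x hx
      rw [Subgroup.mem_normalizer_iff]
      intro y
      constructor
      · rintro ⟨r, hr, rfl⟩
        exact ⟨⟨x, hx⟩ * r * (⟨x, hx⟩ : P)⁻¹, hn.conj_mem r hr _, rfl⟩
      · rintro ⟨r, hr, he'⟩
        refine ⟨(⟨x, hx⟩ : P)⁻¹ * r * (⟨x, hx⟩ : P), by simpa using hn.conj_mem r hr (⟨x, hx⟩ : P)⁻¹, ?_⟩
        have : (r : G) = x * y * x⁻¹ := he'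
        simp [this, mul_assoc]
    have hQR : Q ≤ R := fun q hq => ⟨⟨q, hQP hq⟩, hQR' (Subgroup.mem_subgroupOf.2 hq), rfl⟩
    have hlt : R < P := by
      refine lt_of_le_of_ne hRP fun h => hR'.1 (top_le_iff.1 fun x _ => ?_)
      obtain ⟨r, hr, hre⟩ : (x : G) ∈ R := h.symm ▸ x.2
      rwa [show x = r from Subtype.ext hre.symm]
    obtain ⟨g, hg, -⟩ := existsUnique_normalSubpair hM hP hRP hRN he
    have hcard : Nat.card R < n := by
      rw [← hc]
      exact Set.ncard_lt_ncard (SetLike.coe_ssubset_coe.2 hlt) (Set.toFinite _)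
    obtain ⟨f, hf, hfle⟩ := ih _ hcard (hP.to_le hRP) hg.1.2 hQR rfl
    exact ⟨f, hf, hfle.tail hg⟩

theorem below_unique {P : Subgroup G} (hP : IsPGroup p P)
    {e : Set (IrrCharacter (Subgroup.centralizer (P : Set G)))} (he : IsPBlock M e) {Q : Subgroup G}
    {f₁ f₂ : Set (IrrCharacter (Subgroup.centralizer (Q : Set G)))}
    (h₁ : SubpairLE p M Q f₁ P e) (h₂ : SubpairLE p M Q f₂ P e) : f₁ = f₂ := by
  induction hc : Nat.card P using Nat.strong_induction_on generalizing P f₁ f₂ with
  | _ n ih =>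
    rcases chain_cases hM _ _ h₁ with h | ⟨⟨R₁, g₁⟩, hc₁, hs₁, hlt₁⟩
    · rcases chain_cases hM _ _ h₂ with h' | ⟨⟨R₂, g₂⟩, hc₂, hs₂, hlt₂⟩
      · exact eq_of_heq (Sigma.mk.inj_iff.1 (h.trans h'.symm)).2
      · have hQ : Q = P := congrArg Sigma.fst h
        exact absurd (hQ.symm.le.trans (subpairLE_le hM hc₂)) hlt₂.not_ge
    rcases chain_cases hM _ _ h₂ with h' | ⟨⟨R₂, g₂⟩, hc₂, hs₂, hlt₂⟩
    · have hQ : Q = P := congrArg Sigma.fst h'
      exact absurd (hQ.symm.le.trans (subpairLE_le hM hc₁)) hlt₁.not_ge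
    dsimp only at hlt₁ hlt₂
    have hQD : Q ≤ R₁ ⊓ R₂ := le_inf (subpairLE_le hM hc₁) (subpairLE_le hM hc₂)
    have hDN : P ≤ Subgroup.normalizer ((R₁ ⊓ R₂ : Subgroup G) : Set G) := by
      intro x hx
      rw [Subgroup.mem_normalizer_iff]
      intro y
      simp only [SetLike.mem_coe, Subgroup.mem_inf]
      exact and_congr (Subgroup.mem_normalizer_iff.1 (hs₁.2.2.2.1 hx) y) (Subgroup.mem_normalizer_iff.1 (hs₂.2.2.2.1 hx) y)
    obtain ⟨d, hd, -⟩ := existsUnique_normalSubpair hM hP (inf_le_left.trans hlt₁.le) hDN he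
    obtain ⟨h, -, hh⟩ := exists_below hM (hd.1.1) hd.1.2 hQD
    have hcard : ∀ R : Subgroup G, R < P → Nat.card R < n := fun R hR => by
      rw [← hc]
      exact Set.ncard_lt_ncard (SetLike.coe_ssubset_coe.2 hR) (Set.toFinite _)
    have e₁ : f₁ = h := ih _ (hcard R₁ hlt₁) (hP.to_le hlt₁.le) hs₁.1.2 hc₁
      (hh.tail (normal_trans hM inf_le_left hd hs₁)) rfl
    have e₂ : f₂ = h := ih _ (hcard R₂ hlt₂) (hP.to_le hlt₂.le) hs₂.1.2 hc₂
      (hh.tail (normal_trans hM inf_le_right hd hs₂)) rfl
    rw [e₁, e₂]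

end Order

section OfBlock

variable (hM : IsPModular p M)
include hM

theorem isBrauerPairOf_iff {P : Subgroup G} [Fintype (Subgroup.centralizer (P : Set G))] (hP : IsPGroup p P)
    {B : Set (IrrCharacter G)} (hB : IsPBlock M B)
    {e : Set (IrrCharacter (Subgroup.centralizer (P : Set G)))} (he : IsPBlock M e)
    {ξ : IrrCharacter (Subgroup.centralizer (P : Set G))} (hξ : ξ ∈ e) :
    IsBrauerPairOf p M B P e ↔
      MemLocalIdeal M (omega (ξ : _ → ℂ) (res (Subgroup.centralizer (P : Set G)) (blockElt B)) - 1) := by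
  constructor
  · rintro ⟨-, -, h⟩
    have := h ξ hξ
    rwa [brauerOmega_blockCoeff] at this
  · refine fun h => ⟨⟨hP, he⟩, hB, fun η hη => ?_⟩
    rw [brauerOmega_blockCoeff]
    have h' := omega_sub_mem_of_sameBlock hM ((IsPBlock.mem_iff hM he hξ).1 hη)
      (isClassElt_res (isClassElt_blockElt B) (Subgroup.centralizer (P : Set G)))
      (isIntegralElt_res (isIntegralElt_blockElt hM hB) (Subgroup.centralizer (P : Set G)))
    have := memLocalIdeal_sub hM h h'
    rwa [sub_sub_sub_cancel_left] at this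

theorem brauerPairOf_step {Q P : Subgroup G}
    {f : Set (IrrCharacter (Subgroup.centralizer (Q : Set G)))}
    {e : Set (IrrCharacter (Subgroup.centralizer (P : Set G)))} (hs : IsNormalSubpair p M Q f P e)
    {B : Set (IrrCharacter G)} (hB : IsPBlock M B) : IsBrauerPairOf p M B P e ↔ IsBrauerPairOf p M B Q f := by
  classical
  haveI := Fintype.ofFinite (Subgroup.centralizer (Q : Set G))
  haveI := Fintype.ofFinite (Subgroup.centralizer (P : Set G))
  have hP := hs.2.1.1
  obtain ⟨ξ, hξ⟩ := IsPBlock.nonempty hM hs.2.1.2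
  obtain ⟨η, hη⟩ := IsPBlock.nonempty hM hs.1.2
  obtain ⟨hfb, hfst, hf1⟩ := (isNormalSubpair_iff hM hP hs.2.2.1 hs.2.2.2.1 hs.2.1.2 hξ).1 hs
  rw [isBrauerPairOf_iff hM hP hB hs.2.1.2 hξ, isBrauerPairOf_iff hM hs.1.1 hB hs.1.2 hη]
  have hPQ : Subgroup.centralizer (P : Set G) ≤ (Subgroup.centralizer (Q : Set G)) := Subgroup.centralizer_le (SetLike.coe_subset_coe.2 hs.2.2.1)
  have hzP : ConjInv P (extElt (Subgroup.centralizer (Q : Set G)) (res (Subgroup.centralizer (Q : Set G)) (blockElt B))) := by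
    intro q hq x
    have hqn : q ∈ Subgroup.normalizer ((Subgroup.centralizer (Q : Set G)) : Set G) := le_normalizer_centralizer Q (hs.2.2.2.1 hq)
    by_cases hx : x ∈ (Subgroup.centralizer (Q : Set G))
    · rw [coeff_extElt_mem (Subgroup.centralizer (Q : Set G)) _ hx, coeff_extElt_mem (Subgroup.centralizer (Q : Set G)) _ ((Subgroup.mem_normalizer_iff.1 hqn x).1 hx),
        coeff_res, coeff_res]
      exact coeff_conj (isClassElt_blockElt B) _ _
    · rw [coeff_extElt_of_notMem (Subgroup.centralizer (Q : Set G)) _ hx,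
        coeff_extElt_of_notMem (Subgroup.centralizer (Q : Set G)) _ fun h => hx ((Subgroup.mem_normalizer_iff.1 hqn x).2 h)]
  have h2 := phi_transfer hM hP hPQ ξ hfb hfst hf1 hη (isClassElt_res (isClassElt_blockElt B) (Subgroup.centralizer (Q : Set G)))
    (isIntegralElt_res (isIntegralElt_blockElt hM hB) (Subgroup.centralizer (Q : Set G))) hzP
  have e1 : phi P (Subgroup.centralizer (Q : Set G)) ξ (res (Subgroup.centralizer (Q : Set G)) (blockElt B)) =
      omega (ξ : _ → ℂ) (res (Subgroup.centralizer (P : Set G)) (blockElt B)) := by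
    rw [phi]
    congr 1
    ext c
    rw [coeff_res, coeff_res, coeff_extElt_mem (Subgroup.centralizer (Q : Set G)) _ (hPQ c.2), coeff_res]
  rw [e1] at h2
  constructor
  · intro h
    have := memLocalIdeal_sub hM h h2
    rwa [sub_sub_sub_cancel_left] at this
  · intro h
    have := memLocalIdeal_add hM h2 h
    rwa [sub_add_sub_cancel] at this

theorem brauerPairOf_iff_of_le {Q P : Subgroup G}
    {f : Set (IrrCharacter (Subgroup.centralizer (Q : Set G)))}
    {e : Set (IrrCharacter (Subgroup.centralizer (P : Set G)))} (hle : SubpairLE p M Q f P e)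
    {B : Set (IrrCharacter G)} (hB : IsPBlock M B) : IsBrauerPairOf p M B P e ↔ IsBrauerPairOf p M B Q f := by
  unfold SubpairLE at hle
  suffices ∀ a b : BrauerPairIdx G, Relation.ReflTransGen (NormalSubpairRel p M) a b →
      (IsBrauerPairOf p M B b.1 b.2 ↔ IsBrauerPairOf p M B a.1 a.2) from this _ _ hle
  intro a b hab
  induction hab with
  | refl => exact Iff.rfl
  | tail _ h2 ih => exact (brauerPairOf_step hM h2 hB).trans ih

/-- The truncated block idempotent takes the value `0` or `1`. -/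
theorem omega_res_blockElt_zero_or_one {P : Subgroup G} [Fintype (Subgroup.centralizer (P : Set G))] (hP : IsPGroup p P)
    {B : Set (IrrCharacter G)} (hB : IsPBlock M B) (ξ : IrrCharacter (Subgroup.centralizer (P : Set G))) :
    MemLocalIdeal M (omega (ξ : _ → ℂ) (res (Subgroup.centralizer (P : Set G)) (blockElt B))) ∨
      MemLocalIdeal M (omega (ξ : _ → ℂ) (res (Subgroup.centralizer (P : Set G)) (blockElt B)) - 1) := by
  classical
  have hc := isClassElt_blockElt B
  have hi := isIntegralElt_blockElt hM hB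
  have h := omega_res_mul_congr hM hP (fun g => Subgroup.mem_centralizer_iff) ξ hc hc hi hi
  rw [(isIdempotentElem_blockElt B).eq] at h
  set w := omega (ξ : _ → ℂ) (res (Subgroup.centralizer (P : Set G)) (blockElt B))
  have hr : MemLocalRing M w := memLocalRing_omega hM ξ (isClassElt_res hc _) (isIntegralElt_res hi _)
  rw [show w - w * w = w * (-(w - 1)) by ring] at h
  rcases memLocalIdeal_of_mul hM hr (memLocalRing_neg (by
    rw [sub_eq_add_neg]; exact memLocalRing_add hM hr (memLocalRing_neg (memLocalRing_one hM)))) h with h1 | h1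
  · exact Or.inl h1
  · exact Or.inr (by simpa using memLocalIdeal_neg h1)

/-- Every Brauer pair belongs to exactly one block. -/
theorem existsUnique_brauerPairOf {P : Subgroup G}
    {e : Set (IrrCharacter (Subgroup.centralizer (P : Set G)))} (hPe : IsBrauerPair p M P e) :
    ∃! B : Set (IrrCharacter G), IsBrauerPairOf p M B P e := by
  classical
  haveI := Fintype.ofFinite (Subgroup.centralizer (P : Set G))
  haveI : Fintype (IrrCharacter G) := @Fintype.ofFinite _ finite_irrCharacter
  obtain ⟨ξ, hξ⟩ := IsPBlock.nonempty hM hPe.2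
  have hC : ∀ g, g ∈ Subgroup.centralizer (P : Set G) ↔ ∀ q ∈ P, q * g = g * q := fun g => Subgroup.mem_centralizer_iff
  obtain ⟨B, hB, hns⟩ : ∃ B : Set (IrrCharacter G), IsPBlock M B ∧
      ¬ MemLocalIdeal M (omega (ξ : _ → ℂ) (res (Subgroup.centralizer (P : Set G)) (blockElt B))) := by
    by_contra hcon
    push Not at hcon
    refine not_memLocalIdeal_one hM ?_
    rw [← omega_one ξ.2, ← ZStar.res_one (Subgroup.centralizer (P : Set G)), ← sum_blockElt_eq_one (M := M) hM,
      ZStar.res_sum, ZStar.omega_sum]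
    exact memLocalIdeal_sum hM _ fun B hB => hcon B (mem_blockFinset.1 hB)
  refine ⟨B, (isBrauerPairOf_iff hM hPe.1 hB hPe.2 hξ).2
    ((omega_res_blockElt_zero_or_one hM hPe.1 hB ξ).resolve_left hns), fun B' h' => ?_⟩
  have hB' : IsPBlock M B' := h'.2.1
  have h1 := (isBrauerPairOf_iff hM hPe.1 hB' hPe.2 hξ).1 h'
  by_contra hne
  have hprod : blockElt B * blockElt B' = (0 : MonoidAlgebra ℂ G) := by
    refine eq_of_omega_eq ((isClassElt_blockElt B).mul (isClassElt_blockElt B')) (fun _ _ => rfl) fun χ => ?_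
    rw [omega_mul χ.2 (isClassElt_blockElt B), omega_blockElt, omega_blockElt]
    have h0 : omega (χ : G → ℂ) 0 = 0 := by simp [omega]
    rw [h0]
    split_ifs with h2 h3
    · exact absurd (IsPBlock.eq_of_mem hM hB' hB h3 h2) hne
    all_goals simp
  have h3 := omega_res_mul_congr hM hPe.1 hC ξ (isClassElt_blockElt B) (isClassElt_blockElt B')
    (isIntegralElt_blockElt hM hB) (isIntegralElt_blockElt hM hB')
  rw [hprod] at h3
  have h0 : omega (ξ : _ → ℂ) (res (Subgroup.centralizer (P : Set G)) (0 : MonoidAlgebra ℂ G)) = 0 := by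
    rw [← sub_self (1 : MonoidAlgebra ℂ G), res_sub, omega_sub, sub_self]
  rw [h0, zero_sub] at h3
  have h4 := memLocalIdeal_neg h3
  rw [neg_neg] at h4
  rcases memLocalIdeal_of_mul hM (memLocalRing_omega hM ξ (isClassElt_res (isClassElt_blockElt B) _)
      (isIntegralElt_res (isIntegralElt_blockElt hM hB) _))
    (memLocalRing_omega hM ξ (isClassElt_res (isClassElt_blockElt B') _)
      (isIntegralElt_res (isIntegralElt_blockElt hM hB') _)) h4 with h5 | h5
  · exact hns h5
  · exact not_memLocalIdeal_one hM (by simpa using memLocalIdeal_sub hM h5 h1)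

end OfBlock

end CfsgLib.Blocks
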