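import Cfsg.Agent.S4492
import Cfsg.Agent.ZStar.Second
import Cfsg.Agent.ZStar.Principal
import Cfsg.Agent.Transfer.FrattiniP
import Cfsg.Agent.Clifford.ExtCriteria
import Cfsg.Agent.CharBasics.LinearOver
import Cfsg.Agent.Blocks.Idempotent

/-!
# The principal block of a `p`-solvable group, and restriction of its `p'`-degree members to a Sylow subgroup
-/

set_option autoImplicit false

namespace CfsgLib.Blocks.PrincipalSolvable

open Cfsg CfsgLib.CharBasics

variable {G : Type*} [Group G] [Finite G] {p : ℕ} [Fact p.Prime] {M : Ideal AlgInt}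

theorem mem_iff_core (hM : IsPModular p M) (hs : IsPSolvable p G) (χ : IrrCharacter G) :
    χ ∈ principalBlock M G ↔ ∀ n ∈ pPrimeCore p G, (χ : G → ℂ) n = (χ : G → ℂ) 1 := by
  classical
  haveI := Fintype.ofFinite G
  set K := pPrimeCore p G with hK
  haveI hKn : K.Normal := (CfsgLib.PCore.pPrimeCore_mem p G).1
  haveI := Fintype.ofFinite K
  obtain ⟨B, hB, hBmem, -, -⟩ := Cfsg.Agent.S4492.result (G := G) p M hM hs K hK oneChar (fun g n => rfl)
  have h1B : (oneChar : IrrCharacter G) ∈ B := by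
    rw [hBmem]
    show classInner (fun _ : K => (1 : ℂ)) (fun _ : K => (1 : ℂ)) ≠ 0
    rw [classInner_self isIrrCharacter_one]
    exact one_ne_zero
  have hBeq : principalBlock M G = B :=
    IsPBlock.eq_of_mem hM isPBlock_principal hB (oneChar_mem_principal hM) h1B
  constructor
  · intro hχ n hn
    have hv : n ∈ centralizerPPrimeCore p (1 : G) := by
      refine ⟨⟨n, Subgroup.mem_centralizer_singleton_iff.2 (by simp)⟩, ?_, rfl⟩
      refine (CfsgLib.PCore.le_pPrimeCore_of_not_dvd (N := K.subgroupOf _) inferInstance ?_) hn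
      exact fun h => CfsgLib.PCore.not_dvd_card_pPrimeCore p G (h.trans (CfsgLib.PCore.card_subgroupOf_dvd _ _))
    have h := CfsgLib.ZStar.principal_apply_mul_core hM (u := (1 : G)) ⟨0, by simp⟩ hχ hv
    rwa [one_mul] at h
  · intro h
    rw [hBeq, hBmem, classInner_eq,
      Finset.sum_congr rfl (g := fun _ : K => (χ : G → ℂ) 1) (fun n _ => by
        rw [h n n.2, oneChar_apply, map_one, mul_one]),
      Finset.sum_const, Finset.card_univ, ← Nat.card_eq_fintype_card, nsmul_eq_mul,
      inv_mul_cancel_left₀ (Nat.cast_ne_zero.2 Nat.card_pos.ne')]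
    exact apply_one_ne_zero χ.2

theorem sum_core_eq_zero [Fintype ↥(pPrimeCore p G)] (hM : IsPModular p M) (hs : IsPSolvable p G)
    {χ : IrrCharacter G} (h : χ ∉ principalBlock M G) :
    ∑ n : pPrimeCore p G, (χ : G → ℂ) n = 0 := by
  classical
  haveI := Fintype.ofFinite G
  set K := pPrimeCore p G with hK
  haveI hKn : K.Normal := (CfsgLib.PCore.pPrimeCore_mem p G).1
  obtain ⟨B, hB, hBmem, -, -⟩ := Cfsg.Agent.S4492.result (G := G) p M hM hs K hK oneChar (fun g n => rfl)
  have h1B : (oneChar : IrrCharacter G) ∈ B := by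
    rw [hBmem]
    show classInner (fun _ : K => (1 : ℂ)) (fun _ : K => (1 : ℂ)) ≠ 0
    rw [classInner_self isIrrCharacter_one]
    exact one_ne_zero
  rw [IsPBlock.eq_of_mem hM isPBlock_principal hB (oneChar_mem_principal hM) h1B, hBmem, not_not,
    classInner_eq] at h
  have h' := (mul_eq_zero.1 h).resolve_left (inv_ne_zero (Nat.cast_ne_zero.2 Nat.card_pos.ne'))
  have h'' : ∑ n : K, (χ : G → ℂ) n = 0 := by simpa [oneChar_apply] using h'
  convert h'' using 3

/-- If all members of degree prime to `p` are trivial on `N` then `N ∩ P ≤ P'`. -/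
theorem inf_sylow_le_commutator (hM : IsPModular p M) (hs : IsPSolvable p G) (N : Subgroup G)
    (hN : ∀ χ ∈ principalBlock M G, ¬ p ∣ charDegree (χ : G → ℂ) → ∀ n ∈ N, (χ : G → ℂ) n = (χ : G → ℂ) 1)
    (P : Sylow p G) : N ⊓ (P : Subgroup G) ≤ ⁅(P : Subgroup G), (P : Subgroup G)⁆ := by
  classical
  haveI := Fintype.ofFinite G
  haveI := Fintype.ofFinite (IrrCharacter G)
  haveI := Fintype.ofFinite (P : Subgroup G)
  haveI := Fintype.ofFinite (pPrimeCore p G)
  have hp : p.Prime := Fact.out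
  rintro g ⟨hgN, hgP⟩
  rw [← Subgroup.map_subtype_commutator]
  by_contra hg
  have hxc : (⟨g, hgP⟩ : (P : Subgroup G)) ∉ commutator (P : Subgroup G) := fun h => hg ⟨_, h, rfl⟩
  set x : (P : Subgroup G) := ⟨g, hgP⟩ with hx
  have hne : Abelianization.of x ≠ 1 := fun h => hxc ((QuotientGroup.eq_one_iff x).1 h)
  obtain ⟨φ, hφ⟩ := CommGroup.exists_apply_ne_one_of_hasEnoughRootsOfUnity (Abelianization (P : Subgroup G)) ℂ hne
  set μ : (P : Subgroup G) →* ℂ := (Units.coeHom ℂ).comp (φ.comp Abelianization.of) with hμ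
  have hμx : μ x ≠ 1 := fun h => hφ (Units.ext h)
  set S := Finset.univ.filter fun χ : IrrCharacter G => χ ∈ principalBlock M G with hS
  have hvan : ∀ y : (P : Subgroup G), y ≠ 1 → ∑ χ ∈ S, (charDegree (χ : G → ℂ) : ℂ) * (χ : G → ℂ) y = 0 := by
    intro y hy
    have hpx : p ∣ orderOf (y : G) := by
      obtain ⟨k, hk⟩ := IsPGroup.iff_orderOf.1 P.isPGroup' y
      rw [Subgroup.orderOf_coe, hk]
      refine dvd_pow_self p fun h0 => hy ?_
      rw [← orderOf_eq_one_iff, hk, h0, pow_zero]
    have h := weak_block_orth hM (isPBlock_principal (M := M) (G := G)) (x := (1 : G)) (by simp [hp.ne_one]) hpx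
    rw [finsum_mem_def, finsum_eq_sum_of_fintype] at h
    have h' := congrArg (starRingEnd ℂ) h
    rw [map_sum, map_zero] at h'
    rw [hS, Finset.sum_filter]
    refine (Finset.sum_congr rfl fun χ _ => ?_).trans h'
    rw [Set.indicator_apply]
    split_ifs
    · rw [map_mul, Complex.conj_conj, apply_one (isCharacter_of_irr χ.2), Complex.conj_natCast]
    · rw [map_zero]
  choose n hn using fun χ : IrrCharacter G => classInner_characters_nat (G := (P : Subgroup G))
    (CfsgLib.Clifford.isCharacter_restrict (isCharacter_of_irr χ.2) (P : Subgroup G))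
    (CfsgLib.Clifford.isCharacter_of_hom μ)
  have hzero : ∀ χ ∈ S, ¬ p ∣ charDegree (χ : G → ℂ) → n χ = 0 := by
    intro χ hχ hd
    have hk : (χ : G → ℂ) g = (χ : G → ℂ) 1 := hN χ (Finset.mem_filter.1 hχ).2 hd g hgN
    have h := hn χ
    have hshift : classInner (fun y : (P : Subgroup G) => (χ : G → ℂ) y) (fun y => μ y) =
        (starRingEnd ℂ) (μ x) * classInner (fun y : (P : Subgroup G) => (χ : G → ℂ) y) (fun y => μ y) := by
      rw [classInner_eq]
      conv_lhs => rw [← Equiv.sum_comp (Equiv.mulLeft x)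
        (fun y : (P : Subgroup G) => (χ : G → ℂ) y * (starRingEnd ℂ) (μ y))]
      rw [Finset.mul_sum, Finset.mul_sum, Finset.mul_sum]
      refine Finset.sum_congr rfl fun y _ => ?_
      rw [Equiv.coe_mulLeft, map_mul, map_mul, Subgroup.coe_mul,
        apply_mul_of_apply_eq (isCharacter_of_irr χ.2) hk]
      ring
    rw [h] at hshift
    have h0 : ((n χ : ℕ) : ℂ) * (1 - (starRingEnd ℂ) (μ x)) = 0 := by linear_combination hshift
    refine Nat.cast_eq_zero.1 ((mul_eq_zero.1 h0).resolve_right fun e => hμx ?_)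
    have := congrArg (starRingEnd ℂ) (sub_eq_zero.1 e)
    rw [map_one, Complex.conj_conj] at this
    exact this.symm
  have hsum : ((∑ χ ∈ S, charDegree (χ : G → ℂ) * n χ : ℕ) : ℂ) * (Nat.card (P : Subgroup G) : ℂ) =
      ∑ χ ∈ S, (charDegree (χ : G → ℂ) : ℂ) * (χ : G → ℂ) 1 := by
    have hP0 : (Nat.card (P : Subgroup G) : ℂ) ≠ 0 := Nat.cast_ne_zero.2 Nat.card_pos.ne'
    rw [← eq_div_iff hP0, div_eq_inv_mul]
    push_cast
    simp only [← hn, classInner_eq, Finset.mul_sum]
    rw [Finset.sum_comm, Finset.sum_eq_single (1 : (P : Subgroup G))]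
    · refine Finset.sum_congr rfl fun χ _ => ?_
      simp
      ring
    · intro y _ hy
      have h := hvan y hy
      calc _ = (Nat.card (P : Subgroup G) : ℂ)⁻¹ * (starRingEnd ℂ) (μ y) *
          ∑ χ ∈ S, (charDegree (χ : G → ℂ) : ℂ) * (χ : G → ℂ) y := by
            rw [Finset.mul_sum]; exact Finset.sum_congr rfl fun χ _ => by ring
        _ = 0 := by rw [h, mul_zero]
    · simp
  -- the degree of the block
  have hcore : (Nat.card (pPrimeCore p G) : ℂ) * ∑ χ ∈ S, (charDegree (χ : G → ℂ) : ℂ) * (χ : G → ℂ) 1 =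
      (Nat.card G : ℂ) := by
    have h1 : ∑ χ : IrrCharacter G, (charDegree (χ : G → ℂ) : ℂ) * ∑ k : pPrimeCore p G, (χ : G → ℂ) k =
        (Nat.card G : ℂ) := by
      simp only [Finset.mul_sum]
      rw [Finset.sum_comm, Finset.sum_eq_single (1 : pPrimeCore p G)]
      · rw [← sum_sq_degree (G := G), Nat.cast_sum]
        refine Finset.sum_congr rfl fun χ _ => ?_
        rw [Subgroup.coe_one, apply_one (isCharacter_of_irr χ.2), sq, Nat.cast_mul]
      · intro k _ hk
        exact sum_mul_degree fun e => hk (Subtype.ext e)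
      · simp
    rw [← h1, Finset.mul_sum, hS, Finset.sum_filter]
    refine Finset.sum_congr rfl fun χ _ => ?_
    split_ifs with hχ
    · rw [Finset.sum_congr rfl (g := fun _ : pPrimeCore p G => (χ : G → ℂ) 1)
        (fun k _ => (mem_iff_core hM hs χ).1 hχ k k.2), Finset.sum_const, Finset.card_univ,
        ← Nat.card_eq_fintype_card, nsmul_eq_mul]
      ring
    · rw [sum_core_eq_zero hM hs hχ, mul_zero]
  have hcard : Nat.card (pPrimeCore p G) * ((∑ χ ∈ S, charDegree (χ : G → ℂ) * n χ) * Nat.card (P : Subgroup G)) =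
      Nat.card G := by
    rw [← hsum] at hcore
    exact_mod_cast hcore
  have hdvd : p ∣ ∑ χ ∈ S, charDegree (χ : G → ℂ) * n χ := Finset.dvd_sum fun χ hχ => by
    by_cases hd : p ∣ charDegree (χ : G → ℂ)
    · exact dvd_mul_of_dvd_left hd _
    · rw [hzero χ hχ hd, mul_zero]; exact dvd_zero _
  apply P.not_dvd_index
  have hi : (P : Subgroup G).index = Nat.card (pPrimeCore p G) * ∑ χ ∈ S, charDegree (χ : G → ℂ) * n χ :=
    Nat.eq_of_mul_eq_mul_left Nat.card_pos ((P : Subgroup G).card_mul_index.trans (by rw [← hcard]; ring))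
  rw [hi]
  exact dvd_mul_of_dvd_right hdvd _

end CfsgLib.Blocks.PrincipalSolvable
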