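import Cfsg.Agent.ZStar.Principal
import Cfsg.Agent.Blocks.HeightZero
import Cfsg.Agent.BrauerInd.Galois
import Cfsg.Agent.CharBasics.Burnside

/-!
# The principal block through the sum over the `p`-regular elements; blocks stable under a power map
-/

set_option autoImplicit false

namespace CfsgLib.Blocks

open Cfsg CfsgLib.CharBasics
open scoped ComplexConjugate

variable {p : ℕ} {M : Ideal AlgInt} {G : Type*} [Group G] [Fintype G]

/-- The sum of `f` over the `p`-regular elements. -/
noncomputable def regTotal (p : ℕ) (f : G → ℂ) : ℂ := ∑ g, if p ∣ orderOf g then 0 else f g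

theorem omega_regSum_eq (f : G → ℂ) : omega f (ZStar.regSum p G) = regTotal p f / f 1 := by
  simp only [omega, ZStar.regSum, coeff_ofFun, ite_mul, zero_mul, one_mul, regTotal]

/-- Membership in the principal block is non-vanishing of the sum over the regular elements. -/
theorem mem_principal_iff_regTotal (hM : IsPModular p M) (χ : IrrCharacter G) :
    χ ∈ principalBlock M G ↔ regTotal p (χ : G → ℂ) ≠ 0 := by
  refine ⟨fun h h0 => ?_, fun h => ?_⟩
  · have h1 := ZStar.omega_regSum_congr hM h
    rw [omega_regSum_eq, h0, zero_div, zero_sub] at h1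
    exact ZStar.not_small_regCard hM (by simpa using memLocalIdeal_neg h1)
  · by_contra hn
    exact h (ZStar.sum_regular_eq_zero hM hn)

/-- The character composed with a power map. -/
noncomputable def powChar {k : ℕ} (hk : k.Coprime (Nat.card G)) (χ : IrrCharacter G) : IrrCharacter G :=
  ⟨fun g => (χ : G → ℂ) (g ^ k), BrauerInd.isIrr_pow hk χ.2⟩

theorem powChar_apply {k : ℕ} (hk : k.Coprime (Nat.card G)) (χ : IrrCharacter G) (g : G) :
    (powChar hk χ : G → ℂ) g = (χ : G → ℂ) (g ^ k) := rfl

theorem centralChar_powChar {k : ℕ} (hk : k.Coprime (Nat.card G)) (χ : IrrCharacter G) (g : G) :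
    centralChar (powChar hk χ : G → ℂ) g = centralChar (χ : G → ℂ) (g ^ k) := by
  simp only [centralChar, powChar_apply, one_pow, centralizer_pow_index g hk]

theorem powChar_injective {k : ℕ} (hk : k.Coprime (Nat.card G)) : Function.Injective (powChar (G := G) hk) := by
  intro χ ψ h
  refine Subtype.ext (funext fun g => ?_)
  obtain ⟨m, hm⟩ := exists_pow_eq_self_of_coprime (x := g) (hk.coprime_dvd_right (orderOf_dvd_natCard g))
  have := congrFun (congrArg Subtype.val h) (g ^ m)
  rw [powChar_apply, powChar_apply, ← pow_mul, mul_comm, pow_mul, hm] at this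
  exact this

/-- The block of a fixed character is stable. -/
theorem powChar_mem_blockOf {k : ℕ} (hk : k.Coprime (Nat.card G)) {χ ψ : IrrCharacter G}
    (hχ : ∀ g, (χ : G → ℂ) (g ^ k) = (χ : G → ℂ) g) (hψ : ψ ∈ blockOf M (χ : G → ℂ)) :
    powChar hk ψ ∈ blockOf M (χ : G → ℂ) := fun g => by
  have h : centralChar (χ : G → ℂ) g = centralChar (χ : G → ℂ) (g ^ k) := by
    simp only [centralChar, hχ, centralizer_pow_index g hk]
  rw [centralChar_powChar, h]
  exact hψ (g ^ k)

theorem powChar_mem_principal {k : ℕ} (hk : k.Coprime (Nat.card G)) {ψ : IrrCharacter G}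
    (hψ : ψ ∈ principalBlock M G) : powChar hk ψ ∈ principalBlock M G :=
  powChar_mem_blockOf (χ := oneChar) hk (fun _ => rfl) hψ

/-- The block idempotent of a stable block has stable coefficients. -/
theorem blockCoeff_pow {k : ℕ} (hk : k.Coprime (Nat.card G)) {B : Set (IrrCharacter G)}
    (hB : ∀ ψ ∈ B, powChar hk ψ ∈ B) (g : G) : blockCoeff B (g ^ k) = blockCoeff B g := by
  classical
  haveI : Fintype (IrrCharacter G) := @Fintype.ofFinite _ finite_irrCharacter
  let e : IrrCharacter G ≃ IrrCharacter G :=
    Equiv.ofBijective (powChar hk) (Finite.injective_iff_bijective.1 (powChar_injective hk))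
  have hiff : ∀ ψ, e ψ ∈ B ↔ ψ ∈ B := fun ψ => by
    refine ⟨fun h => ?_, hB ψ⟩
    have hm : Set.MapsTo e B B := hB
    obtain ⟨φ, hφ, he⟩ := ((Set.toFinite B).injOn_iff_bijOn_of_mapsTo hm).1 e.injective.injOn |>.surjOn h
    rwa [← e.injective he]
  rw [blockCoeff_eq, blockCoeff_eq]
  congr 1
  refine Fintype.sum_equiv e _ _ fun χ => ?_
  simp only [hiff]
  split_ifs
  · simp [e, powChar_apply]
  · rfl

end CfsgLib.Blocks
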