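import Cfsg.Agent.Blocks.DefectConj
import Cfsg.Agent.Blocks.Green
import Cfsg.Agent.Blocks.Covering
import Cfsg.Agent.Blocks.InducedDefect

/-!
# Blocks of a quotient contained in a block of the group
-/

set_option linter.unusedSectionVars false
set_option linter.style.haveILetI false

namespace CfsgLib.Blocks

open Cfsg CfsgLib.CharBasics

universe u

variable {G : Type u} [Group G] [Fintype G] {p : ℕ} {M : Ideal AlgInt} {N : Subgroup G} [N.Normal]

/-- The image of a group algebra element in the quotient. -/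
noncomputable def pushElt (N : Subgroup G) [N.Normal] (z : MonoidAlgebra ℂ G) : MonoidAlgebra ℂ (G ⧸ N) :=
  MonoidAlgebra.mapDomainRingHom ℂ (QuotientGroup.mk' N) z

theorem coeff_pushElt [DecidableEq (G ⧸ N)] (z : MonoidAlgebra ℂ G) (q : G ⧸ N) :
    (pushElt N z).coeff q = ∑ g : G, if (g : G ⧸ N) = q then z.coeff g else 0 := by
  classical
  conv_lhs => rw [pushElt, ← single_sum_eq z, map_sum]
  simp [MonoidAlgebra.coeff_sum, Finset.sum_apply', MonoidAlgebra.coeff_single, Finsupp.single_apply]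

theorem isClassElt_pushElt [Fintype (G ⧸ N)] {z : MonoidAlgebra ℂ G} (hz : IsClassElt z) :
    IsClassElt (pushElt N z) := by
  classical
  intro q r
  obtain ⟨y, rfl⟩ := QuotientGroup.mk_surjective r
  simp only [coeff_pushElt]
  refine Fintype.sum_equiv (MulAut.conj y⁻¹).toEquiv _ _ fun g => ?_
  have hcl : z.coeff (y⁻¹ * g * y) = z.coeff g := by simpa using coeff_conj hz g y⁻¹
  simp only [MulEquiv.toEquiv_eq_coe, EquivLike.coe_coe, MulAut.conj_apply, inv_inv]
  refine if_congr ?_ hcl.symm rfl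
  rw [QuotientGroup.mk_mul, QuotientGroup.mk_mul, QuotientGroup.mk_inv]
  constructor
  · intro h; rw [h]; group
  · intro h; rw [← h]; group

theorem omega_pushElt [Fintype (G ⧸ N)] (φ : G ⧸ N → ℂ) (z : MonoidAlgebra ℂ G) :
    omega φ (pushElt N z) = omega (φ ∘ QuotientGroup.mk) z := by
  classical
  simp only [omega, coeff_pushElt, Function.comp_apply, QuotientGroup.mk_one, Finset.sum_mul]
  rw [Finset.sum_comm]
  congr 1
  refine Finset.sum_congr rfl fun g _ => ?_
  rw [Finset.sum_eq_single (g : G ⧸ N) (fun q _ hq => by rw [if_neg (Ne.symm hq), zero_mul]) (by simp), if_pos rfl]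

theorem isIntegralElt_pushElt (hM : IsPModular p M) [Fintype (G ⧸ N)] {z : MonoidAlgebra ℂ G}
    (hz : IsIntegralElt M z) : IsIntegralElt M (pushElt N z) := fun q => by
  classical
  rw [coeff_pushElt]
  refine memLocalRing_sum hM _ fun g _ => ?_
  split_ifs
  · exact hz g
  · exact memLocalRing_zero hM

/-- An irreducible character of the quotient, inflated. -/
noncomputable def inflChar (φ : IrrCharacter (G ⧸ N)) : IrrCharacter G :=
  ⟨_, irr_comp_of_surjective φ.2 (QuotientGroup.mk' N) (QuotientGroup.mk'_surjective N)⟩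

theorem inflChar_coe (φ : IrrCharacter (G ⧸ N)) :
    (inflChar φ : G → ℂ) = (φ : G ⧸ N → ℂ) ∘ QuotientGroup.mk := rfl

/-- `B̄` lies in `B`. -/
def InflatesInto (N : Subgroup G) [N.Normal] (Bbar : Set (IrrCharacter (G ⧸ N))) (B : Set (IrrCharacter G)) : Prop :=
  ∀ φ ∈ Bbar, inflChar φ ∈ B

theorem inflatesInto_blockOf (hM : IsPModular p M) {B : Set (IrrCharacter G)} (hB : IsPBlock M B)
    {φ : IrrCharacter (G ⧸ N)} (h : inflChar φ ∈ B) : InflatesInto N (blockOf M (φ : G ⧸ N → ℂ)) B :=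
  fun _ hψ => (IsPBlock.mem_iff hM hB h).2 (sameBlock_inflate hM hψ)

/-- The idempotent of a block maps to the sum of the idempotents of the blocks it contains. -/
theorem pushElt_blockElt (hM : IsPModular p M) {B : Set (IrrCharacter G)} (hB : IsPBlock M B) [Fintype (G ⧸ N)]
    [Fintype (IrrCharacter (G ⧸ N))] [DecidablePred fun c => InflatesInto N c B] :
    pushElt N (blockElt B) = ∑ c ∈ (blockFinset M (G ⧸ N)).filter (fun c => InflatesInto N c B), blockElt c := by
  classical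
  refine eq_of_omega_eq (isClassElt_pushElt (isClassElt_blockElt B)) (fun x y => ?_) fun φ => ?_
  · simp only [MonoidAlgebra.coeff_sum, Finsupp.finsetSum_apply]
    exact Finset.sum_congr rfl fun c _ => isClassElt_blockElt c x y
  rw [omega_pushElt, ← inflChar_coe, omega_blockElt, ZStar.omega_sum]
  by_cases h : inflChar φ ∈ B
  · rw [if_pos h, Finset.sum_eq_single (blockOf M (φ : G ⧸ N → ℂ)) (fun c hc hne => ?_) (fun hn => absurd
      (Finset.mem_filter.2 ⟨mem_blockFinset.2 (isPBlock_blockOf M φ), inflatesInto_blockOf hM hB h⟩) hn),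
      omega_blockElt, if_pos (mem_blockOf_self hM φ)]
    rw [omega_blockElt, if_neg fun hmem =>
      hne (IsPBlock.eq_blockOf hM (mem_blockFinset.1 (Finset.mem_filter.1 hc).1) hmem)]
  · rw [if_neg h]
    refine (Finset.sum_eq_zero fun c hc => ?_).symm
    rw [omega_blockElt, if_neg fun hmem => h ((Finset.mem_filter.1 hc).2 φ hmem)]

/-- The central characters of inflated characters. -/
theorem exists_centralChar_inflate (g : G) :
    ∃ k : ℕ, (Subgroup.centralizer ({g} : Set G)).relIndex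
        ((Subgroup.centralizer ({(g : G ⧸ N)} : Set (G ⧸ N))).comap (QuotientGroup.mk' N)) = k ∧
      ∀ φ : G ⧸ N → ℂ, centralChar (φ ∘ QuotientGroup.mk) g = (k : ℂ) * centralChar φ (g : G ⧸ N) := by
  refine ⟨_, rfl, fun φ => ?_⟩
  have hle : Subgroup.centralizer ({g} : Set G) ≤
      (Subgroup.centralizer ({(g : G ⧸ N)} : Set (G ⧸ N))).comap (QuotientGroup.mk' N) := fun x hx => by
    rw [Subgroup.mem_comap, Subgroup.mem_centralizer_singleton_iff]
    exact congrArg (QuotientGroup.mk' N) (Subgroup.mem_centralizer_singleton_iff.1 hx)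
  have h := Subgroup.relIndex_mul_index hle
  rw [Subgroup.index_comap_of_surjective _ (QuotientGroup.mk'_surjective N)] at h
  simp only [centralChar, Function.comp_apply, QuotientGroup.mk_one, ← h, Nat.cast_mul]
  ring

/-- With a `p'` class length ratio, Sylow subgroups of centralizers map onto Sylow subgroups. -/
theorem not_dvd_relIndex_map (hp : p.Prime) {g : G}
    (hk : ¬ p ∣ (Subgroup.centralizer ({g} : Set G)).relIndex
      ((Subgroup.centralizer ({(g : G ⧸ N)} : Set (G ⧸ N))).comap (QuotientGroup.mk' N)))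
    (S : Sylow p (Subgroup.centralizer ({g} : Set G))) :
    ¬ p ∣ (((S : Subgroup (Subgroup.centralizer ({g} : Set G))).map (Subgroup.centralizer ({g} : Set G)).subtype).map
      (QuotientGroup.mk' N)).relIndex (Subgroup.centralizer ({(g : G ⧸ N)} : Set (G ⧸ N))) := by
  haveI := Fact.mk hp
  set D := (S : Subgroup (Subgroup.centralizer ({g} : Set G))).map (Subgroup.centralizer ({g} : Set G)).subtype with hD
  set T := (Subgroup.centralizer ({(g : G ⧸ N)} : Set (G ⧸ N))).comap (QuotientGroup.mk' N) with hT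
  have h1 : ¬ p ∣ D.relIndex (Subgroup.centralizer ({g} : Set G)) := by
    simpa [hD, Subgroup.relIndex, Subgroup.subgroupOf, Subgroup.comap_map_eq_self_of_injective
      (Subgroup.centralizer ({g} : Set G)).subtype_injective] using S.not_dvd_index
  have hle : Subgroup.centralizer ({g} : Set G) ≤ T := fun x hx => by
    rw [hT, Subgroup.mem_comap, Subgroup.mem_centralizer_singleton_iff]
    exact congrArg (QuotientGroup.mk' N) (Subgroup.mem_centralizer_singleton_iff.1 hx)
  have h2 : ¬ p ∣ D.relIndex T := by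
    rw [← Subgroup.relIndex_mul_relIndex D _ T (Subgroup.map_subtype_le _) hle]
    exact hp.not_dvd_mul h1 hk
  intro h
  refine h2 (h.trans ?_)
  have e : T.map (QuotientGroup.mk' N) = Subgroup.centralizer ({(g : G ⧸ N)} : Set (G ⧸ N)) :=
    Subgroup.map_comap_eq_self_of_surjective (QuotientGroup.mk'_surjective N) _
  rw [← e, Subgroup.relIndex_map_map]
  have hker : (QuotientGroup.mk' N).ker ≤ T := fun x hx => by
    rw [hT, Subgroup.mem_comap, MonoidHom.mem_ker.1 hx]
    exact one_mem _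
  rw [sup_eq_left.2 hker]
  exact Subgroup.relIndex_dvd_of_le_left _ le_sup_left

/-- A defect group of a block of the quotient lies in the image of one of the block containing it. -/
theorem exists_defectGroup_map_ge (hM : IsPModular p M) {Bbar : Set (IrrCharacter (G ⧸ N))}
    (hBbar : IsPBlock M Bbar) {B : Set (IrrCharacter G)} (hB : IsPBlock M B) (hsub : InflatesInto N Bbar B)
    {Dbar : Subgroup (G ⧸ N)} (hDbar : IsDefectGroup p M Bbar Dbar) :
    ∃ P : Subgroup G, IsDefectGroup p M B P ∧ Dbar ≤ P.map (QuotientGroup.mk' N) := by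
  classical
  haveI := Fact.mk hM.1
  haveI : Fintype (G ⧸ N) := Fintype.ofFinite _
  haveI : Fintype (ConjClasses G) := Fintype.ofFinite _
  obtain ⟨φ, hφ⟩ := IsPBlock.nonempty hM hBbar
  obtain ⟨gb, hgb, Sb, hDb⟩ := id hDbar
  have h1 := omega_blockElt B (inflChar φ)
  rw [if_pos (hsub φ hφ), omega_eq_sum_classes _ (isClassElt_blockElt B)] at h1
  obtain ⟨C, hC1, hC2⟩ : ∃ C : ConjClasses G, ¬ MemLocalIdeal M (blockCoeff B C.out) ∧
      ¬ MemLocalIdeal M (centralChar (inflChar φ : G → ℂ) C.out) := by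
    by_contra hcon
    push Not at hcon
    refine not_memLocalIdeal_one hM (h1 ▸ memLocalIdeal_sum hM _ fun C _ => ?_)
    rw [coeff_blockElt]
    by_cases h : MemLocalIdeal M (blockCoeff B C.out)
    · exact memLocalIdeal_mul_right hM h (memLocalRing_centralChar hM _ _)
    · exact memLocalIdeal_mul_left hM (memLocalRing_blockCoeff hM hB _) (hcon _ h)
  have hg : IsDefectClass M B (C.out : G) := ⟨memLocalRing_blockCoeff hM hB _, hC1, fun χ hχ h => hC2 (by
    simpa using memLocalIdeal_add hM ((IsPBlock.mem_iff hM hB (hsub φ hφ)).1 hχ C.out) h)⟩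
  obtain ⟨k, hk, hcc⟩ := exists_centralChar_inflate (N := N) (C.out : G)
  rw [inflChar_coe, hcc] at hC2
  have hkp : ¬ p ∣ k := fun h =>
    hC2 (memLocalIdeal_mul_right hM ((memLocalIdeal_natCast_iff hM k).2 h) (memLocalRing_centralChar hM φ _))
  have hωb : ¬ MemLocalIdeal M (centralChar (φ : G ⧸ N → ℂ) (C.out : G)) := fun h =>
    hC2 (memLocalIdeal_mul_left hM (memLocalRing_natCast hM k) h)
  obtain ⟨S⟩ : Nonempty (Sylow p (Subgroup.centralizer ({(C.out : G)} : Set G))) := inferInstance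
  set D := (S : Subgroup (Subgroup.centralizer ({(C.out : G)} : Set G))).map
    (Subgroup.centralizer ({(C.out : G)} : Set G)).subtype with hDdef
  have hidx := not_dvd_relIndex_map (N := N) hM.1 (hk.symm ▸ hkp) S
  have hle : D.map (QuotientGroup.mk' N) ≤ Subgroup.centralizer ({((C.out : G) : G ⧸ N)} : Set (G ⧸ N)) := by
    rintro _ ⟨x, hx, rfl⟩
    rw [Subgroup.mem_centralizer_singleton_iff]
    exact congrArg (QuotientGroup.mk' N)
      (Subgroup.mem_centralizer_singleton_iff.1 (Subgroup.map_subtype_le _ hx))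
  have hDbp := isPGroup_of_isDefectGroup hDbar
  obtain ⟨q, hq, hqc⟩ := exists_conj_centralizing hM hBbar hφ hgb.2.1 hωb hDbp fun x hx =>
    Subgroup.mem_centralizer_singleton_iff.1 (Subgroup.map_subtype_le _ (hDb ▸ hx))
  obtain ⟨c, rfl⟩ := isConj_iff.1 hq
  obtain ⟨c, rfl⟩ := QuotientGroup.mk_surjective c
  set Cb := Subgroup.centralizer ({((C.out : G) : G ⧸ N)} : Set (G ⧸ N)) with hCb
  have hsubC : Dbar.map (MulAut.conj (c : G ⧸ N)⁻¹).toMonoidHom ≤ Cb := by
    rintro _ ⟨x, hx, rfl⟩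
    rw [hCb, Subgroup.mem_centralizer_singleton_iff]
    have := hqc x hx
    show (c : G ⧸ N)⁻¹ * x * (c : G ⧸ N)⁻¹⁻¹ * _ = _ * ((c : G ⧸ N)⁻¹ * x * (c : G ⧸ N)⁻¹⁻¹)
    calc (c : G ⧸ N)⁻¹ * x * (c : G ⧸ N)⁻¹⁻¹ * ((C.out : G) : G ⧸ N)
        = (c : G ⧸ N)⁻¹ * (x * ((c : G ⧸ N) * ((C.out : G) : G ⧸ N) * (c : G ⧸ N)⁻¹)) * (c : G ⧸ N) := by group
      _ = (c : G ⧸ N)⁻¹ * ((c : G ⧸ N) * ((C.out : G) : G ⧸ N) * (c : G ⧸ N)⁻¹ * x) * (c : G ⧸ N) := by rw [this]
      _ = _ := by group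
  obtain ⟨R, hR⟩ := ((hDbp.map _).of_equiv (Subgroup.subgroupOfEquivOfLe hsubC).symm).exists_le_sylow
  set S1 : Sylow p Cb := (((S.isPGroup'.map _).map (QuotientGroup.mk' N)).of_equiv
    (Subgroup.subgroupOfEquivOfLe hle).symm).toSylow hidx with hS1
  obtain ⟨w, hw⟩ := MulAction.exists_smul_eq Cb R S1
  obtain ⟨y, hy⟩ := QuotientGroup.mk_surjective (w : G ⧸ N)
  refine ⟨D.map (MulAut.conj (c * y⁻¹)).toMonoidHom,
    isDefectGroup_map_conj hM hB ⟨_, hg, S, rfl⟩ _, fun x hx => ?_⟩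
  have hx' : (c : G ⧸ N)⁻¹ * x * (c : G ⧸ N) ∈ Dbar.map (MulAut.conj (c : G ⧸ N)⁻¹).toMonoidHom :=
    ⟨x, hx, by simp⟩
  have h3 : (⟨_, hsubC hx'⟩ : Cb) ∈ R := hR hx'
  have h4 : w * ⟨_, hsubC hx'⟩ * w⁻¹ ∈ (S1 : Subgroup Cb) := by
    rw [← hw]
    exact Subgroup.smul_mem_pointwise_smul _ (MulAut.conj w) _ h3
  obtain ⟨d, hd, hde⟩ : ((w * ⟨_, hsubC hx'⟩ * w⁻¹ : Cb) : G ⧸ N) ∈ D.map (QuotientGroup.mk' N) := Subgroup.mem_subgroupOf.1 h4
  refine ⟨c * y⁻¹ * d * (c * y⁻¹)⁻¹, ⟨d, hd, rfl⟩, ?_⟩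
  simp only [QuotientGroup.mk'_apply] at hde
  simp only [map_mul, map_inv, QuotientGroup.mk'_apply, hde, hy, Subgroup.coe_mul, Subgroup.coe_inv]
  group

/-- Over a normal `p`-subgroup some contained block has the images of the defect groups. -/
theorem exists_contained_block (hM : IsPModular p M) (hN : IsPGroup p N) {B : Set (IrrCharacter G)}
    (hB : IsPBlock M B) {D : Subgroup G} (hD : IsDefectGroup p M B D) :
    ∃ Bbar : Set (IrrCharacter (G ⧸ N)), IsPBlock M Bbar ∧ InflatesInto N Bbar B ∧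
      IsDefectGroup p M Bbar (D.map (QuotientGroup.mk' N)) := by
  classical
  haveI := Fact.mk hM.1
  haveI : Fintype (G ⧸ N) := Fintype.ofFinite _
  haveI := Fintype.ofFinite N
  haveI : Fintype (IrrCharacter (G ⧸ N)) := @Fintype.ofFinite _ finite_irrCharacter
  obtain ⟨g, hg, S, rfl⟩ := hD
  obtain ⟨χ, hχ⟩ := IsPBlock.nonempty hM hB
  have hgreg : ¬ p ∣ orderOf g := fun h =>
    hg.2.1 (by rw [blockCoeff_eq_zero hM hB h]; exact memLocalIdeal_zero hM)
  have hgC : g ∈ Subgroup.centralizer (N : Set G) := by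
    by_contra h
    exact hg.2.2 χ hχ (centralChar_mem_of_notMem_centralizer hM N hN χ h)
  have hcoef : (pushElt N (blockElt B)).coeff (g : G ⧸ N) = blockCoeff B g := by
    rw [coeff_pushElt, Finset.sum_eq_single g (fun x _ hx => ?_) (by simp), if_pos rfl, coeff_blockElt]
    split_ifs with hxg
    · rw [coeff_blockElt]
      refine blockCoeff_eq_zero hM hB ?_
      have hn : g⁻¹ * x ∈ N := QuotientGroup.eq.1 hxg.symm
      obtain ⟨j, hj⟩ : ∃ j, orderOf (g⁻¹ * x) = p ^ j := by
        obtain ⟨j, hj⟩ := (IsPGroup.iff_orderOf.1 hN) ⟨_, hn⟩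
        exact ⟨j, by rw [← hj, Subgroup.orderOf_mk]⟩
      have hcomm : Commute g (g⁻¹ * x) := (Subgroup.mem_centralizer_iff.1 hgC _ hn).symm
      have hcop : (orderOf g).Coprime (orderOf (g⁻¹ * x)) := by
        rw [hj]; exact ((hM.1.coprime_iff_not_dvd.2 hgreg).symm).pow_right j
      have ho := hcomm.orderOf_mul_eq_mul_orderOf_of_coprime hcop
      rw [mul_inv_cancel_left] at ho
      rw [ho, hj]
      rcases j with _ | j
      · exact absurd (mul_eq_one_iff_inv_eq.1 (orderOf_eq_one_iff.1 (hj.trans (pow_zero p)))) (by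
          simpa using hx.symm)
      · exact dvd_mul_of_dvd_right (dvd_pow_self p j.succ_ne_zero) _
    · rfl
  obtain ⟨c, hc, hcu⟩ : ∃ c ∈ (blockFinset M (G ⧸ N)).filter (fun c => InflatesInto N c B),
      ¬ MemLocalIdeal M (blockCoeff c (g : G ⧸ N)) := by
    by_contra hcon
    push Not at hcon
    refine hg.2.1 ?_
    rw [← hcoef, pushElt_blockElt hM hB]
    simp only [MonoidAlgebra.coeff_sum, Finsupp.finsetSum_apply, coeff_blockElt]
    exact memLocalIdeal_sum hM _ hcon
  obtain ⟨hcB, hcI⟩ := Finset.mem_filter.1 hc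
  have hcB' := mem_blockFinset.1 hcB
  obtain ⟨k, hk, hcc⟩ := exists_centralChar_inflate (N := N) g
  have hu : ∀ φ ∈ c, ¬ MemLocalIdeal M ((k : ℂ) * centralChar (φ : G ⧸ N → ℂ) (g : G ⧸ N)) := by
    intro φ hφ
    rw [← hcc, ← inflChar_coe]
    exact hg.2.2 _ (hcI φ hφ)
  obtain ⟨φ₀, hφ₀⟩ := IsPBlock.nonempty hM hcB'
  have hkp : ¬ p ∣ k := fun h => hu φ₀ hφ₀
    (memLocalIdeal_mul_right hM ((memLocalIdeal_natCast_iff hM k).2 h) (memLocalRing_centralChar hM φ₀ _))
  refine ⟨c, hcB', hcI, isDefectGroup_of_relIndex hM ⟨memLocalRing_blockCoeff hM hcB' _, hcu, fun φ hφ h =>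
    hu φ hφ (memLocalIdeal_mul_left hM (memLocalRing_natCast hM k) h)⟩ ((S.isPGroup'.map _).map _) ?_
    (not_dvd_relIndex_map hM.1 (hk.symm ▸ hkp) S)⟩
  rintro _ ⟨x, hx, rfl⟩
  rw [Subgroup.mem_centralizer_singleton_iff]
  exact congrArg (QuotientGroup.mk' N) (Subgroup.mem_centralizer_singleton_iff.1 (Subgroup.map_subtype_le _ hx))

end CfsgLib.Blocks
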