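import Cfsg.Agent.Blocks.Section
import Cfsg.Prelude.Def_BlockRank
import Mathlib.LinearAlgebra.Trace

/-!
# The rank of a block as a trace, and counting by subsections
-/

set_option linter.unusedSectionVars false
set_option linter.style.haveILetI false

namespace CfsgLib.Blocks

open Cfsg CfsgLib.CharBasics
open scoped ComplexConjugate

variable {p : ℕ} {M : Ideal AlgInt}

section Trace

variable {H : Type*} [Group H] [Fintype H]

theorem pRegularPart_apply (p : ℕ) (f : H → ℂ) (g : H) :
    pRegularPart p f g = if p ∣ orderOf g then 0 else f g := by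
  classical
  simp only [pRegularPart, IsPRegular]
  split_ifs <;> simp_all

/-- The rank of a block is the trace of the projection. -/
theorem sum_blockKernel_diag (hM : IsPModular p M) {b : Set (IrrCharacter H)} (hb : IsPBlock M b) :
    ∑ y : H, (if p ∣ orderOf y then 0 else blockKernel b y y) = (Nat.card H : ℂ) * blockRank p b := by
  classical
  haveI : Fintype (IrrCharacter H) := @Fintype.ofFinite _ finite_irrCharacter
  have hH : (Nat.card H : ℂ) ≠ 0 := Nat.cast_ne_zero.2 Nat.card_pos.ne'
  set A : Matrix H H ℂ := fun y z => if p ∣ orderOf y then 0 else (Nat.card H : ℂ)⁻¹ * blockKernel b y z with hA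
  set W := Submodule.span ℂ ((fun χ : IrrCharacter H => pRegularPart p (χ : H → ℂ)) '' b) with hW
  have hmul : ∀ (v : H → ℂ) (y : H), Matrix.toLin' A v y = ∑ z : H, A y z * v z := fun v y => by
    rw [Matrix.toLin'_apply]; rfl
  have hexp : ∀ v : H → ℂ, Matrix.toLin' A v =
      ∑ ξ ∈ Finset.univ.filter (· ∈ b), classInner v (ξ : H → ℂ) • pRegularPart p (ξ : H → ℂ) := by
    intro v
    funext y
    rw [hmul]
    simp only [hA, Finset.sum_apply, Pi.smul_apply, smul_eq_mul,
      pRegularPart_apply]
    by_cases hy : p ∣ orderOf y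
    · simp [hy]
    · simp only [hy, if_false]
      have h := blockPart_eq_kernel b v y
      rw [ZStar.blockPart_apply, ← Finset.sum_filter] at h
      rw [h, Finset.mul_sum]
      exact Finset.sum_congr rfl fun z _ => by ring
  have hproj : LinearMap.IsProj W (Matrix.toLin' A) := by
    refine ⟨fun v => ?_, fun v hv => ?_⟩
    · rw [hexp]
      exact Submodule.sum_mem _ fun ξ hξ =>
        Submodule.smul_mem _ _ (Submodule.subset_span ⟨ξ, (Finset.mem_filter.1 hξ).2, rfl⟩)
    · induction hv using Submodule.span_induction with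
      | mem v hv =>
        obtain ⟨ξ, hξ, rfl⟩ := hv
        funext y
        rw [hmul]
        simp only [hA, pRegularPart_apply]
        by_cases hy : p ∣ orderOf y
        · simp [hy]
        · simp only [hy, if_false]
          have hK : ∑ z : H, blockKernel b y z * (ξ : H → ℂ) z = (Nat.card H : ℂ) * (ξ : H → ℂ) y := by
            simp only [blockKernel_eq, Finset.sum_mul]
            rw [Finset.sum_comm, Finset.sum_eq_single ξ]
            · rw [Finset.sum_congr rfl (g := fun z => (ξ : H → ℂ) y * ((ξ : H → ℂ) z * conj ((ξ : H → ℂ) z)))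
                (fun z _ => by ring), ← Finset.mul_sum, sum_mul_conj, if_pos rfl, mul_comm]
            · intro η _ hne
              rw [Finset.sum_congr rfl (g := fun z => (η : H → ℂ) y * ((ξ : H → ℂ) z * conj ((η : H → ℂ) z)))
                (fun z _ => by ring), ← Finset.mul_sum, sum_mul_conj, if_neg (Ne.symm hne), mul_zero]
            · exact fun h => absurd (Finset.mem_filter.2 ⟨Finset.mem_univ _, hξ⟩) h
          rw [Finset.sum_congr rfl (g := fun z => (Nat.card H : ℂ)⁻¹ * (blockKernel b y z * (ξ : H → ℂ) z))
            (fun z _ => ?_), ← Finset.mul_sum, hK, inv_mul_cancel_left₀ hH]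
          split_ifs with hz
          · rw [blockKernel_eq_zero hM hb hy hz]; ring
          · ring
      | zero => exact map_zero _
      | add v w _ _ hv hw => rw [map_add, hv, hw]
      | smul c v _ hv => rw [map_smul, hv]
  have h := hproj.trace
  rw [Matrix.trace_toLin'_eq] at h
  rw [blockRank, ← hW, ← h, Matrix.trace, Finset.mul_sum]
  refine Finset.sum_congr rfl fun y _ => ?_
  rw [Matrix.diag_apply]
  simp only [hA]
  split_ifs
  · rw [mul_zero]
  · rw [mul_inv_cancel_left₀ hH]

end Trace

variable {G : Type*} [Group G] [Fintype G]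

/-- The sum over a section of a class function, by the regular elements of the centralizer. -/
theorem sum_section (hp : p.Prime) {F : G → ℂ} (hF : IsClassFunction G F) {x : G}
    (hx : ∃ k : ℕ, orderOf x = p ^ k) [Fintype (Subgroup.centralizer ({x} : Set G))] (pp : G → G)
    (hpp : ∀ g, IsPPart p g (pp g)) [∀ g, Decidable (IsConj x (pp g))] :
    (Nat.card (Subgroup.centralizer ({x} : Set G)) : ℂ) * ∑ g : G, (if IsConj x (pp g) then F g else 0) =
      (Nat.card G : ℂ) * ∑ y : Subgroup.centralizer ({x} : Set G), (if p ∣ orderOf y then 0 else F (x * y)) := by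
  classical
  have hcount : ∀ a : G, (∑ c : G, if c * x * c⁻¹ = a then (1 : ℂ) else 0) =
      if IsConj x a then (Nat.card (Subgroup.centralizer ({x} : Set G)) : ℂ) else 0 := by
    intro a
    split_ifs with h
    · obtain ⟨d, rfl⟩ := isConj_iff.1 h
      rw [Finset.sum_boole, Nat.card_eq_fintype_card, Fintype.card_subtype]
      congr 1
      refine Finset.card_bij (fun c _ => d⁻¹ * c) (fun c hc => ?_) (fun a _ b _ h => mul_left_cancel h)
        (fun e he => ⟨d * e, ?_, by group⟩)
      · simp only [Finset.mem_filter, Finset.mem_univ, true_and] at hc ⊢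
        refine Subgroup.mem_centralizer_singleton_iff.2 ?_
        calc d⁻¹ * c * x = d⁻¹ * (c * x * c⁻¹) * c := by group
          _ = _ := by rw [hc]; group
      · simp only [Finset.mem_filter, Finset.mem_univ, true_and] at he ⊢
        have he' : e * x = x * e := Subgroup.mem_centralizer_singleton_iff.1 he
        calc d * e * x * (d * e)⁻¹ = d * (e * x) * e⁻¹ * d⁻¹ := by group
          _ = _ := by rw [he']; group
    · exact Finset.sum_eq_zero fun c _ => if_neg fun hc => h (isConj_iff.2 ⟨c, hc⟩)
  have hL : (Nat.card (Subgroup.centralizer ({x} : Set G)) : ℂ) * ∑ g : G, (if IsConj x (pp g) then F g else 0) =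
      ∑ c : G, ∑ g : G, (if c * x * c⁻¹ = pp g then F g else 0) := by
    rw [Finset.sum_comm, Finset.mul_sum]
    refine Finset.sum_congr rfl fun g _ => ?_
    have e : ∑ c : G, (if c * x * c⁻¹ = pp g then F g else 0) =
        (∑ c : G, if c * x * c⁻¹ = pp g then (1 : ℂ) else 0) * F g := by
      rw [Finset.sum_mul]
      exact Finset.sum_congr rfl fun c _ => by split_ifs <;> ring
    rw [e, hcount]
    split_ifs <;> ring
  have hone : ∀ c : G, ∑ g : G, (if c * x * c⁻¹ = pp g then F g else 0) =
      ∑ g : G, (if x = pp g then F g else 0) := by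
    intro c
    refine (Fintype.sum_equiv (MulAut.conj c).toEquiv _ _ fun g => ?_).symm
    have e : pp (c * g * c⁻¹) = c * pp g * c⁻¹ :=
      isPPart_unique hp (hpp _) (isPPart_conj (hpp g) c)
    simp only [MulEquiv.toEquiv_eq_coe, EquivLike.coe_coe, MulAut.conj_apply, e, hF g c]
    exact if_congr ⟨fun h => by rw [h], fun h => mul_left_cancel (mul_right_cancel h)⟩ rfl rfl
  rw [hL, Finset.sum_congr rfl (fun c _ => hone c), Finset.sum_const, nsmul_eq_mul, Finset.card_univ,
    ← Nat.card_eq_fintype_card]
  congr 1
  rw [← Finset.sum_filter, ← Fintype.sum_subset (s := Finset.univ.filter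
    fun y : Subgroup.centralizer ({x} : Set G) => ¬ p ∣ orderOf y) (fun y hy => by
      simp only [Finset.mem_filter, Finset.mem_univ, true_and]
      exact fun h => hy (if_pos h))]
  refine (Finset.sum_bij' (fun g hg => (⟨x⁻¹ * g, ?_⟩ : Subgroup.centralizer ({x} : Set G)))
    (fun y _ => x * (y : G)) (fun g hg => ?_) (fun y hy => ?_) (fun g hg => by simp) (fun y hy => by simp)
    (fun g hg => ?_))
  · obtain ⟨y, hy, hc, -, -⟩ := hpp g
    rw [← (Finset.mem_filter.1 hg).2] at hy hc
    rw [← hy, inv_mul_cancel_left]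
    exact Subgroup.mem_centralizer_singleton_iff.2 hc.eq.symm
  · obtain ⟨y, hy, hc, -, hyreg⟩ := hpp g
    rw [← (Finset.mem_filter.1 hg).2] at hy hc
    simp only [Finset.mem_filter, Finset.mem_univ, true_and]
    intro h
    rw [← Subgroup.orderOf_coe] at h
    refine hyreg ?_
    have e : x⁻¹ * g = y := inv_mul_eq_iff_eq_mul.2 hy.symm
    simpa [e] using h
  · simp only [Finset.mem_filter, Finset.mem_univ, true_and] at hy ⊢
    exact isPPart_unique hp ⟨y, rfl, (Subgroup.mem_centralizer_singleton_iff.1 y.2).symm, hx,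
      by rwa [Subgroup.orderOf_coe]⟩ (hpp _)
  · obtain ⟨y, hy, hc, -, hyreg⟩ := hpp g
    rw [← (Finset.mem_filter.1 hg).2] at hy hc
    have e : x⁻¹ * g = y := inv_mul_eq_iff_eq_mul.2 hy.symm
    rw [if_neg (by rw [← Subgroup.orderOf_coe]; simpa [e] using hyreg), mul_inv_cancel_left]

/-- The square sum over the members of a block at one element of a section. -/
theorem sum_sq_section (hM : IsPModular p M) {x : G} (hx : ∃ k : ℕ, orderOf x = p ^ k)
    [Fintype (Subgroup.centralizer ({x} : Set G))] [Fintype (IrrCharacter G)]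
    [Fintype (IrrCharacter (Subgroup.centralizer ({x} : Set G)))] {B : Set (IrrCharacter G)} (hB : IsPBlock M B)
    [DecidablePred (· ∈ B)]
    [DecidablePred fun b : Set (IrrCharacter (Subgroup.centralizer ({x} : Set G))) =>
      IsInducedBlock M (Subgroup.centralizer ({x} : Set G)) b B]
    {y : Subgroup.centralizer ({x} : Set G)} (hy : ¬ p ∣ orderOf y) :
    ∑ χ : IrrCharacter G, (if χ ∈ B then (χ : G → ℂ) (x * y) * conj ((χ : G → ℂ) (x * y)) else 0) =
      ∑ b ∈ (blockFinset M (Subgroup.centralizer ({x} : Set G))).filter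
        (fun b => IsInducedBlock M (Subgroup.centralizer ({x} : Set G)) b B), blockKernel b y y := by
  classical
  have e : ∀ χ : IrrCharacter G, (if χ ∈ B then (χ : G → ℂ) (x * y) * conj ((χ : G → ℂ) (x * y)) else 0) =
      ∑ b ∈ (blockFinset M (Subgroup.centralizer ({x} : Set G))).filter
        (fun b => IsInducedBlock M (Subgroup.centralizer ({x} : Set G)) b B),
        secVal p x b (χ : G → ℂ) y * conj (shiftFun x (χ : G → ℂ) y) := fun χ => by
    rw [← Finset.sum_mul, apply_eq_sum_secVal hM hx hB χ hy, ite_mul, zero_mul]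
    rfl
  rw [Finset.sum_congr rfl (fun χ _ => e χ), Finset.sum_comm]
  refine Finset.sum_congr rfl fun b hb => ?_
  have hb' := (mem_blockFinset.1 (Finset.mem_filter.1 hb).1)
  simp only [secVal_eq_kernel hM hb' _ hy, mul_assoc, Finset.sum_mul, ← Finset.mul_sum]
  rw [Finset.sum_comm]
  have hcls : IsClassFunction (Subgroup.centralizer ({x} : Set G)) (fun z => blockKernel b y z) := fun w d => by
    show blockKernel b y (d * w * d⁻¹) = blockKernel b y w
    simp only [blockKernel_eq]
    exact Finset.sum_congr rfl fun ξ _ => by rw [isClassFunction (isCharacter_of_irr ξ.2) w d]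
  have hin : ∀ z : Subgroup.centralizer ({x} : Set G),
      ∑ χ : IrrCharacter G, (if p ∣ orderOf z then 0 else shiftFun x (χ : G → ℂ) z) *
        (blockKernel b y z * conj (shiftFun x (χ : G → ℂ) y)) =
      if IsConj y z then (Nat.card (Subgroup.centralizer ({y} : Set (Subgroup.centralizer ({x} : Set G)))) : ℂ) *
        blockKernel b y z else 0 := by
    intro z
    by_cases hz : p ∣ orderOf z
    · simp [hz, blockKernel_eq_zero hM hb' hy hz]
    · simp only [hz, if_false]
      rw [show ∑ χ : IrrCharacter G, shiftFun x (χ : G → ℂ) z * (blockKernel b y z * conj (shiftFun x (χ : G → ℂ) y)) =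
          blockKernel b y z * ∑ χ : IrrCharacter G, shiftFun x (χ : G → ℂ) z * conj (shiftFun x (χ : G → ℂ) y) by
        rw [Finset.mul_sum]; exact Finset.sum_congr rfl fun χ _ => by ring, sum_shift_col hx hM.1 hz hy]
      by_cases hc : IsConj y z
      · rw [if_pos hc, if_pos hc.symm, card_centralizer_eq hc, mul_comm]
      · rw [if_neg hc, if_neg (fun h => hc h.symm), mul_zero]
  rw [Finset.sum_congr rfl (fun z _ => hin z), sum_class_mul hcls y,
    inv_mul_cancel_left₀ (Nat.cast_ne_zero.2 Nat.card_pos.ne')]

end CfsgLib.Blocks
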