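import Cfsg.Agent.Blocks.PrincipalSum
import Cfsg.Agent.Blocks.DefectGroup
import Cfsg.Agent.Blocks.Residue

/-!
# A 2-block of full defect stable under inverting the odd order roots of unity is principal
-/

set_option autoImplicit false

namespace CfsgLib.Blocks

open Cfsg CfsgLib.CharBasics
open scoped ComplexConjugate

variable {M : Ideal AlgInt} {G : Type*} [Group G] [Fintype G]

theorem centralChar_of_isConj (χ : IrrCharacter G) {g h : G} (hc : IsConj g h) :
    centralChar (χ : G → ℂ) g = centralChar (χ : G → ℂ) h := by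
  classical
  have e : classElt g = classElt h := by
    ext x
    rw [coeff_classElt, coeff_classElt]
    exact if_congr ⟨fun k => hc.symm.trans k, fun k => hc.trans k⟩ rfl rfl
  rw [← omega_classElt χ.2, e, omega_classElt χ.2]

/-- A real element of odd order whose class has odd size is trivial. -/
theorem eq_one_of_real_odd_class {g : G} (hodd : Odd (orderOf g)) (hreal : IsConj g g⁻¹)
    (hfull : (Nat.card G).factorization 2 ≤ centExp 2 g) : g = 1 := by
  by_contra h1
  obtain ⟨x, hx⟩ := isConj_iff.1 hreal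
  have hne : g⁻¹ ≠ g := fun h => by
    have h2 : g ^ 2 = 1 := by
      rw [pow_two]; nth_rewrite 1 [← h]; exact inv_mul_cancel g
    have h3 : orderOf g ∣ 2 := orderOf_dvd_of_pow_eq_one h2
    rcases (Nat.dvd_prime Nat.prime_two).1 h3 with h4 | h4
    · exact h1 (orderOf_eq_one_iff.1 h4)
    · rw [h4] at hodd; exact absurd hodd (by decide)
  let E : Subgroup G :=
    { carrier := {b | b * g * b⁻¹ = g ∨ b * g * b⁻¹ = g⁻¹}
      one_mem' := Or.inl (by simp)
      mul_mem' := by
        intro a b ha hb
        have hinv : a * g⁻¹ * a⁻¹ = (a * g * a⁻¹)⁻¹ := by simp [mul_assoc]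
        simp only [Set.mem_setOf_eq] at ha hb ⊢
        have e : a * b * g * (a * b)⁻¹ = a * (b * g * b⁻¹) * a⁻¹ := by simp [mul_assoc]
        rcases ha with ha | ha <;> rcases hb with hb | hb <;> rw [e, hb] <;>
          simp [hinv, ha]
      inv_mem' := by
        intro b hb
        simp only [Set.mem_setOf_eq, inv_inv] at hb ⊢
        rcases hb with hb | hb
        · left; conv_lhs => rw [← hb]
          simp [mul_assoc]
        · right
          have h' : b * g⁻¹ * b⁻¹ = g := by
            rw [show b * g⁻¹ * b⁻¹ = (b * g * b⁻¹)⁻¹ by simp [mul_assoc], hb, inv_inv]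
          conv_lhs => rw [← h']
          simp [mul_assoc] }
  set C := Subgroup.centralizer ({g} : Set G) with hC
  have hmem : ∀ b : G, b ∈ C ↔ b * g * b⁻¹ = g := fun b => by
    rw [hC, Subgroup.mem_centralizer_singleton_iff, mul_inv_eq_iff_eq_mul]
  have hCE : C ≤ E := fun b hb => Or.inl ((hmem b).1 hb)
  have hidx : (C.subgroupOf E).index = 2 := by
    rw [Subgroup.index_eq_two_iff]
    refine ⟨⟨x, Or.inr hx⟩, fun b => ?_⟩
    have e : (b : G) * x * g * ((b : G) * x)⁻¹ = ((b : G) * g * (b : G)⁻¹)⁻¹ := by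
      rw [show (b : G) * x * g * ((b : G) * x)⁻¹ = b * (x * g * x⁻¹) * (b : G)⁻¹ by simp [mul_assoc], hx]
      simp [mul_assoc]
    simp only [Subgroup.mem_subgroupOf, Subgroup.coe_mul, hmem, e]
    rcases b.2 with hb | hb
    · exact Or.inr ⟨hb, by rw [hb]; exact hne⟩
    · exact Or.inl ⟨by rw [hb, inv_inv], by rw [hb]; exact hne⟩
  have hcard : 2 * Nat.card C ∣ Nat.card G := by
    have h := Subgroup.card_mul_index (C.subgroupOf E)
    rw [hidx, Nat.card_congr (Subgroup.subgroupOfEquivOfLe hCE).toEquiv, mul_comm] at h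
    exact h ▸ Subgroup.card_subgroup_dvd_card E
  have hle := (Nat.factorization_le_iff_dvd (mul_ne_zero two_ne_zero Nat.card_pos.ne') Nat.card_pos.ne').2 hcard 2
  rw [Nat.factorization_mul two_ne_zero Nat.card_pos.ne', Finsupp.add_apply, Nat.prime_two.factorization_self] at hle
  simp only [centExp, ← hC] at hfull
  omega

/-- In a stable full defect block the idempotent of a stable block has central character its
coefficient at the identity. -/
theorem omega_blockElt_congr_one (hM : IsPModular 2 M) {k : ℕ} (hk : k.Coprime (Nat.card G))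
    (hk₂ : ∀ g : G, Odd (orderOf g) → g ^ k = g⁻¹) {B B' : Set (IrrCharacter G)} (hB : IsPBlock M B)
    (hst : ∀ ψ ∈ B, powChar hk ψ ∈ B) (hB' : IsPBlock M B') (hst' : ∀ ψ ∈ B', powChar hk ψ ∈ B')
    {χ : IrrCharacter G} (hχ : χ ∈ B) (hdeg : degExp 2 χ = 0) :
    MemLocalIdeal M (omega (χ : G → ℂ) (blockElt B') - blockCoeff B' 1) := by
  classical
  haveI : Fintype (ConjClasses G) := Fintype.ofFinite _
  haveI := residue_charP hM
  have hodd : ∀ g : G, ¬ 2 ∣ orderOf g → Odd (orderOf g) := fun g hg => Nat.odd_iff.2 (by omega)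
  have hω : ∀ g : G, ¬ 2 ∣ orderOf g →
      MemLocalIdeal M (centralChar (χ : G → ℂ) g⁻¹ - centralChar (χ : G → ℂ) g) := fun g hg => by
    have h := (IsPBlock.mem_iff hM hB hχ).1 (hst χ hχ) g
    rw [centralChar_powChar, hk₂ g (hodd g hg)] at h
    simpa using memLocalIdeal_neg h
  have ha : ∀ g : G, ¬ 2 ∣ orderOf g → blockCoeff B' g⁻¹ = blockCoeff B' g := fun g hg => by
    rw [← hk₂ g (hodd g hg), blockCoeff_pow hk hst']
  let f : ConjClasses G → Residue hM := fun C =>
    Ideal.Quotient.mk (localIdeal hM) ⟨blockCoeff B' C.out * centralChar (χ : G → ℂ) C.out,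
      memLocalRing_mul hM (memLocalRing_blockCoeff hM hB' _) (memLocalRing_centralChar hM χ _)⟩
  have hf0 : ∀ C, f C = 0 ↔ MemLocalIdeal M (blockCoeff B' C.out * centralChar (χ : G → ℂ) C.out) :=
    fun C => Ideal.Quotient.eq_zero_iff_mem
  let σ : ConjClasses G → ConjClasses G := fun C => ConjClasses.mk C.out⁻¹
  have hout : ∀ g : G, IsConj (ConjClasses.mk g).out g := fun g =>
    ConjClasses.mk_eq_mk_iff_isConj.1 (Quotient.out_eq _)
  have hinvc : ∀ {g h : G}, IsConj g h → IsConj g⁻¹ h⁻¹ := fun {g h} hgh => by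
    obtain ⟨c, hc⟩ := isConj_iff.1 hgh
    exact isConj_iff.2 ⟨c, by rw [← hc]; simp [mul_assoc]⟩
  have hσσ : ∀ C, σ (σ C) = C := fun C => by
    refine (ConjClasses.mk_eq_mk_iff_isConj.2 (hinvc (hout C.out⁻¹))).trans ?_
    rw [inv_inv]
    exact Quotient.out_eq C
  have hcoeff : ∀ {g h : G}, IsConj g h → blockCoeff B' g = blockCoeff B' h := fun {g h} hgh => by
    obtain ⟨c, hc⟩ := isConj_iff.1 hgh
    rw [← coeff_blockElt, ← coeff_blockElt, ← hc, coeff_conj (isClassElt_blockElt B')]
  set C₁ : ConjClasses G := ConjClasses.mk (1 : G) with hC₁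
  have hC₁o : C₁.out = 1 := isConj_one_right.1 (hout 1).symm
  have hσ₁ : σ C₁ = C₁ := by
    show ConjClasses.mk C₁.out⁻¹ = C₁
    rw [hC₁o, inv_one]
  have hsum : ∑ C, (if C = C₁ then 0 else f C) = 0 := by
    refine Finset.sum_ninvolution σ (fun C => ?_) (fun C hC => ?_) (fun C => Finset.mem_univ _) hσσ
    · by_cases h : C = C₁
      · rw [if_pos h, h, hσ₁, if_pos rfl, add_zero]
      have h' : σ C ≠ C₁ := fun e => h (by rw [← hσσ C, e, hσ₁])
      rw [if_neg h, if_neg h']
      have hco : (σ C).out = (ConjClasses.mk C.out⁻¹).out := rfl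
      have hconj : IsConj (σ C).out C.out⁻¹ := hout _
      by_cases hs : 2 ∣ orderOf C.out
      · have hs' : 2 ∣ orderOf (σ C).out := by
          obtain ⟨c, hc⟩ := isConj_iff.1 hconj.symm
          rw [← hc, ← MulAut.conj_apply, MulEquiv.orderOf_eq, orderOf_inv]
          exact hs
        rw [(hf0 _).2 (by rw [blockCoeff_eq_zero hM hB' hs, zero_mul]; exact memLocalIdeal_zero hM),
          (hf0 _).2 (by rw [blockCoeff_eq_zero hM hB' hs', zero_mul]; exact memLocalIdeal_zero hM), add_zero]
      · have e : f (σ C) = f C := by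
          refine Ideal.Quotient.eq.2 ?_
          rw [mem_localIdeal]
          push_cast
          rw [hcoeff hconj, ha _ hs, centralChar_of_isConj χ hconj, ← mul_sub]
          exact memLocalIdeal_mul_left hM (memLocalRing_blockCoeff hM hB' _) (hω _ hs)
        rw [e]
        exact CharTwo.add_self_eq_zero _
    · intro hfix
      by_cases h : C = C₁
      · exact hC (if_pos h)
      rw [if_neg h, ne_eq, hf0] at hC
      by_cases hs : 2 ∣ orderOf C.out
      · exact hC (by rw [blockCoeff_eq_zero hM hB' hs, zero_mul]; exact memLocalIdeal_zero hM)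
      have hreal : IsConj C.out C.out⁻¹ := by
        have h2 := hout C.out⁻¹
        rwa [show ConjClasses.mk C.out⁻¹ = C from hfix] at h2
      have hfull : (Nat.card G).factorization 2 ≤ centExp 2 C.out := by
        have h3 := le_centExp hM χ (g := C.out) fun h4 =>
          hC (memLocalIdeal_mul_left hM (memLocalRing_blockCoeff hM hB' _) h4)
        rwa [hdeg, Nat.sub_zero] at h3
      refine h ?_
      rw [← Quotient.out_eq C, hC₁]
      exact congrArg ConjClasses.mk (eq_one_of_real_odd_class (hodd _ hs) hreal hfull)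
  have htot : ∑ C, f C = f C₁ := by
    rw [← sub_eq_zero, ← hsum, ← Finset.sum_erase_eq_sub (Finset.mem_univ C₁),
      ← Finset.sum_erase (s := Finset.univ) (f := fun C => if C = C₁ then 0 else f C) (if_pos rfl)]
    exact Finset.sum_congr rfl fun C hC => (if_neg (Finset.ne_of_mem_erase hC)).symm
  have hone : centralChar (χ : G → ℂ) 1 = 1 := by
    have h1 := omega_classElt χ.2 (1 : G)
    have e : classElt (1 : G) = 1 := by
      ext x
      rw [coeff_classElt]
      simp [MonoidAlgebra.one_def, MonoidAlgebra.coeff_single, Finsupp.single_apply, isConj_one_right, eq_comm]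
    rw [← h1, e, omega_one χ.2]
  rw [show f C₁ = Ideal.Quotient.mk (localIdeal hM) ⟨blockCoeff B' 1, memLocalRing_blockCoeff hM hB' 1⟩ from
    congrArg (Ideal.Quotient.mk _) (Subtype.ext (by simp only [hC₁o, hone, mul_one]))] at htot
  simp only [f, ← map_sum] at htot
  have h := Ideal.Quotient.eq.1 htot
  rw [mem_localIdeal] at h
  push_cast at h
  rw [omega_eq_sum_classes χ (isClassElt_blockElt B')]
  simpa only [coeff_blockElt] using h

/-- A stable block of full defect is the principal block. -/
theorem eq_principal_of_stable (hM : IsPModular 2 M) {k : ℕ} (hk : k.Coprime (Nat.card G))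
    (hk₂ : ∀ g : G, Odd (orderOf g) → g ^ k = g⁻¹) {B : Set (IrrCharacter G)} (hB : IsPBlock M B)
    (hdef : blockDefect 2 B = (Nat.card G).factorization 2)
    (hst : ∀ ψ ∈ B, powChar hk ψ ∈ B) : B = principalBlock M G := by
  classical
  obtain ⟨χ, hχ, -, hs⟩ := exists_min_degExp hM hB
  have hdeg : degExp 2 χ = 0 := by
    have h := blockDefect_eq (p := 2) hs
    have h' := degExp_le hM.1 χ
    omega
  have hP : IsPBlock M (principalBlock M G) := isPBlock_principal
  have hstP : ∀ ψ ∈ principalBlock M G, powChar hk ψ ∈ principalBlock M G := fun ψ => powChar_mem_principal hk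
  have h1 := omega_blockElt_congr_one hM hk hk₂ hB hst hP hstP hχ hdeg
  have h0 := omega_blockElt_congr_one hM hk hk₂ hP hstP hP hstP (oneChar_mem_principal hM)
    (by simp [degExp, charDegree, oneChar_apply])
  refine IsPBlock.eq_of_mem hM hB hP hχ ?_
  by_contra hn
  rw [omega_blockElt, if_neg hn] at h1
  rw [omega_blockElt, if_pos (oneChar_mem_principal hM)] at h0
  exact not_memLocalIdeal_one hM (by simpa using memLocalIdeal_sub hM h0 h1)

end CfsgLib.Blocks
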