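import Cfsg.Agent.Blocks.CommQuot
import Cfsg.Agent.Blocks.CentralSupport
import Cfsg.Agent.Blocks.QuotientDefect
import Cfsg.Agent.Clifford.Ito

/-!
# Characters of defect zero modulo a normal `p`-subgroup
-/

set_option autoImplicit false
set_option linter.style.haveILetI false
set_option linter.unusedSectionVars false

namespace CfsgLib.Blocks

open Cfsg CfsgLib.CharBasics
open scoped ComplexConjugate

universe u

variable {p : ℕ} {M : Ideal AlgInt} {G : Type u} [Group G]

/-- The degree of a constituent of a restriction to a normal subgroup, against the index. -/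
theorem degree_dvd_constituent_mul_index [Fintype G] {χ : G → ℂ} (hχ : IsIrrCharacter G χ) (N : Subgroup G)
    [N.Normal] [Fintype N] {θ : N → ℂ} (hθ : IsIrrCharacter N θ)
    (hne : classInner (fun n : N => χ n) θ ≠ 0) : charDegree χ ∣ charDegree θ * N.index := by
  classical
  obtain ⟨e, he⟩ := classInner_characters_nat
    (CfsgLib.CharBasics.isCharacter_restrict (isCharacter_of_irr hχ) N) (isCharacter_of_irr hθ)
  change classInner (fun n : N => χ n) θ = (e : ℂ) at he
  have hNT : N ≤ Clifford.inertia θ := Clifford.le_inertia (CfsgLib.CharBasics.isClassFunction (isCharacter_of_irr hθ))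
  set T := Clifford.inertia θ with hT
  haveI := Fintype.ofFinite T
  obtain ⟨ψ, hψ, -, -, hψN⟩ := Clifford.exists_inertia_correspondent hχ hθ hne T rfl hNT
  let E : N.subgroupOf T ≃* N := Subgroup.subgroupOfEquivOfLe hNT
  have hθ' : IsIrrCharacter (N.subgroupOf T) (fun m => θ (E m)) :=
    Clifford.isIrrCharacter_comp hθ E.toMonoidHom E.surjective
  have hdvd : e ∣ (N.subgroupOf T).index := by
    refine Clifford.charMult_dvd_index hψ hθ' (fun t => funext fun m => congrFun (Clifford.mem_inertia.mp t.2) (E m)) e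
      fun m => ?_
    have := congrFun hψN (E m)
    rw [he] at this
    exact this
  have h1 := Clifford.restrict_one_eq hχ hθ hne
  rw [he, apply_one (isCharacter_of_irr hχ), apply_one (isCharacter_of_irr hθ), ← hT, ← Nat.cast_mul,
    ← Nat.cast_mul, Nat.cast_inj] at h1
  rw [h1, ← Subgroup.relIndex_mul_index hNT, mul_comm _ (charDegree θ)]
  exact Nat.mul_dvd_mul_left _ (Nat.mul_dvd_mul_right hdvd T.index)

/-- A constituent of a character trivial on a normal subgroup is trivial there. -/
theorem trivial_of_constituent [Fintype G] (N : Subgroup G) [N.Normal] [Fintype N] {f : G → ℂ}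
    (hf : ∀ x : G, ∀ m : N, f (x * m) = f x) (φ : IrrCharacter G)
    (hne : classInner f (φ : G → ℂ) ≠ 0) : ∀ m ∈ N, (φ : G → ℂ) m = (φ : G → ℂ) 1 := by
  classical
  rcases sum_normal_irr N φ with ⟨h, -⟩ | ⟨-, h⟩
  · exact h
  refine absurd ?_ hne
  have h1 : ∀ m : N, ∑ x : G, f x * conj ((φ : G → ℂ) (x * m)) = ∑ x : G, f x * conj ((φ : G → ℂ) x) := fun m =>
    Fintype.sum_equiv (Equiv.mulRight (m : G)) _ _ fun x => by
      show _ = f (x * m) * _
      rw [hf]
      rfl
  have h2 : (Nat.card N : ℂ) * ∑ x : G, f x * conj ((φ : G → ℂ) x) = 0 := by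
    rw [Nat.card_eq_fintype_card, ← Finset.card_univ, ← nsmul_eq_mul, ← Finset.sum_const,
      ← Finset.sum_congr rfl (fun m _ => h1 m), Finset.sum_comm]
    refine Finset.sum_eq_zero fun x _ => ?_
    rw [← Finset.mul_sum, ← map_sum, h, map_zero, mul_zero]
  rw [classInner_eq, (mul_eq_zero.1 h2).resolve_left (Nat.cast_ne_zero.2 Nat.card_pos.ne'), mul_zero]

/-- A character trivial on `N` of defect zero in the quotient vanishes off the preimages of `p`-regular elements. -/
theorem apply_eq_zero_of_full_quot [Fintype G] (hM : IsPModular p M) (N : Subgroup G) [N.Normal]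
    {χ : IrrCharacter G} (hker : ∀ m ∈ N, (χ : G → ℂ) m = (χ : G → ℂ) 1)
    (h : (Nat.card G).factorization p ≤ degExp p χ + (Nat.card N).factorization p) {g : G}
    (hg : p ∣ orderOf (g : G ⧸ N)) : (χ : G → ℂ) g = 0 := by
  classical
  haveI := Fintype.ofFinite (G ⧸ N)
  obtain ⟨φ, hφ⟩ := exists_quotient_irr χ N hker
  have hd : degExp p φ = degExp p χ := by
    simp only [degExp, charDegree, ← hφ 1, QuotientGroup.mk_one]
  rw [← hφ g]
  refine apply_eq_zero_of_full hM ?_ hg
  have hcard : Nat.card G = Nat.card (G ⧸ N) * Nat.card N := by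
    rw [Subgroup.card_eq_card_quotient_mul_card_subgroup N]
  rw [hcard, Nat.factorization_mul Nat.card_pos.ne' Nat.card_pos.ne', Finsupp.add_apply] at h
  omega

/-- Under such a character every normal `p`-subgroup lies in `N`. -/
theorem le_of_full_quot [Fintype G] (hM : IsPModular p M) (N : Subgroup G) [N.Normal]
    {χ : IrrCharacter G} (hker : ∀ m ∈ N, (χ : G → ℂ) m = (χ : G → ℂ) 1)
    (h : (Nat.card G).factorization p ≤ degExp p χ + (Nat.card N).factorization p)
    (R : Subgroup G) [R.Normal] (hR : IsPGroup p R) : R ≤ N := by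
  classical
  haveI := Fact.mk hM.1
  haveI := Fintype.ofFinite R
  have hvan : ∀ r : R, (r : G) ∉ N → (χ : G → ℂ) r = 0 := fun r hr => by
    refine apply_eq_zero_of_full_quot hM N hker h ?_
    obtain ⟨k, hk⟩ := hR r
    have hk' : ((r : G) : G ⧸ N) ^ p ^ k = 1 := by
      rw [← QuotientGroup.mk_pow, show (r : G) ^ p ^ k = 1 from congrArg Subtype.val hk, QuotientGroup.mk_one]
    obtain ⟨i, -, hi⟩ := (Nat.dvd_prime_pow hM.1).1 (orderOf_dvd_of_pow_eq_one hk')
    rcases i with _ | i
    · exact absurd ((QuotientGroup.eq_one_iff _).1 (orderOf_eq_one_iff.1 (by rw [hi, pow_zero]))) hr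
    · rw [hi]; exact dvd_pow_self p i.succ_ne_zero
  have hS : ∑ r : R, (χ : G → ℂ) r = ((Finset.univ.filter fun r : R => (r : G) ∈ N).card : ℂ) * (χ : G → ℂ) 1 := by
    rw [← Finset.sum_filter_add_sum_filter_not Finset.univ (fun r : R => (r : G) ∈ N),
      Finset.sum_eq_zero (s := Finset.univ.filter fun r : R => ¬ (r : G) ∈ N)
        (fun r hr => hvan r (Finset.mem_filter.1 hr).2), add_zero,
      Finset.sum_congr rfl (fun (r : R) hr => hker r (Finset.mem_filter.1 hr).2), Finset.sum_const, nsmul_eq_mul]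
  have hpos : 0 < (Finset.univ.filter fun r : R => (r : G) ∈ N).card :=
    Finset.card_pos.2 ⟨1, Finset.mem_filter.2 ⟨Finset.mem_univ _, by simp⟩⟩
  rcases sum_normal_irr R χ with ⟨htriv, -⟩ | ⟨-, h0⟩
  · intro r hr
    by_contra hrn
    have := hvan ⟨r, hr⟩ hrn
    rw [htriv r hr] at this
    exact apply_one_ne_zero χ.2 this
  · have := h0 1
    simp only [one_mul, hS] at this
    exact absurd this (mul_ne_zero (Nat.cast_ne_zero.2 hpos.ne') (apply_one_ne_zero χ.2))

/-- A block with a member trivial on a central `p`-subgroup `Z` and of defect zero modulo `Z` has defect group `Z`. -/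
theorem isDefectGroup_of_central_full [Fintype G] (hM : IsPModular p M) (Z : Subgroup G) (hZ : IsPGroup p Z)
    (hZc : Z ≤ Subgroup.center G) {B : Set (IrrCharacter G)} (hB : IsPBlock M B) {θ : IrrCharacter G} (hθ : θ ∈ B)
    (hker : ∀ z ∈ Z, (θ : G → ℂ) z = (θ : G → ℂ) 1)
    (h : (Nat.card G).factorization p ≤ degExp p θ + (Nat.card Z).factorization p) : IsDefectGroup p M B Z := by
  classical
  haveI := Fact.mk hM.1
  haveI : Z.Normal := ⟨fun z hz g => by rwa [Subgroup.mem_center_iff.1 (hZc hz) g, mul_inv_cancel_right]⟩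
  haveI := Fintype.ofFinite (G ⧸ Z)
  obtain ⟨φ, hφ⟩ := exists_quotient_irr θ Z hker
  have hinfl : inflChar φ = θ := Subtype.ext (funext fun g => hφ g)
  obtain ⟨g, hg⟩ := exists_defectClass hM hB
  obtain ⟨S⟩ : Nonempty (Sylow p (Subgroup.centralizer ({g} : Set G))) := inferInstance
  have hZC : Z ≤ Subgroup.centralizer ({g} : Set G) := fun z hz =>
    Subgroup.mem_centralizer_singleton_iff.2 (Subgroup.mem_center_iff.1 (hZc hz) g).symm
  have hZS : Z.subgroupOf (Subgroup.centralizer ({g} : Set G)) ≤ (S : Subgroup (Subgroup.centralizer ({g} : Set G))) :=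
    IsPGroup.le_sylow_of_normal (hZ.of_equiv (Subgroup.subgroupOfEquivOfLe hZC).symm) S
  set D := (S : Subgroup (Subgroup.centralizer ({g} : Set G))).map (Subgroup.centralizer ({g} : Set G)).subtype with hDdef
  have hD : IsDefectGroup p M B D := ⟨g, hg, S, rfl⟩
  have hZD : Z ≤ D := fun z hz => ⟨⟨z, hZC hz⟩, hZS hz, rfl⟩
  suffices hDZ : D ≤ Z by rwa [le_antisymm hZD hDZ]
  obtain ⟨b, hb, hbB, hbD⟩ := exists_contained_block hM hZ hB hD
  obtain ⟨ψ, hψ⟩ := IsPBlock.nonempty hM hb
  have hreg : SameBlock M (φ : G ⧸ Z → ℂ) (ψ : G ⧸ Z → ℂ) := by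
    refine sameBlock_of_regular hM fun q hq => ?_
    obtain ⟨x, hx, rfl⟩ := exists_regular_lift hM.1 hq
    have hidx : (Subgroup.centralizer ({(x : G ⧸ Z)} : Set (G ⧸ Z))).index =
        (Subgroup.centralizer ({x} : Set G)).index := by
      rw [← Subgroup.index_comap_of_surjective _ (QuotientGroup.mk'_surjective Z)]
      congr 1
      ext y
      rw [Subgroup.mem_comap, Subgroup.mem_centralizer_singleton_iff, Subgroup.mem_centralizer_singleton_iff]
      refine ⟨fun hy => ?_, fun hy => congrArg (QuotientGroup.mk' Z) hy⟩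
      have hy' : ((y * x * y⁻¹ * x⁻¹ : G) : G ⧸ Z) = 1 := by
        have e : (y : G ⧸ Z) * x = x * y := hy
        rw [QuotientGroup.mk_mul, QuotientGroup.mk_mul, QuotientGroup.mk_mul, QuotientGroup.mk_inv,
          QuotientGroup.mk_inv, e, mul_inv_cancel_right, mul_inv_cancel]
      set d := y * x * y⁻¹ * x⁻¹ with hd
      have hdZ : d ∈ Z := (QuotientGroup.eq_one_iff d).1 hy'
      have hcomm : Commute d x := (Subgroup.mem_center_iff.1 (hZc hdZ) x).symm
      have hdx : d * x = y * x * y⁻¹ := by rw [hd, inv_mul_cancel_right]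
      have hord : d ^ orderOf x = 1 := by
        have h1 : (d * x) ^ orderOf x = 1 := by
          rw [hdx, conj_pow, pow_orderOf_eq_one, mul_one, mul_inv_cancel]
        rwa [hcomm.mul_pow, pow_orderOf_eq_one, mul_one] at h1
      obtain ⟨k, hk⟩ := IsPGroup.iff_orderOf.1 hZ ⟨d, hdZ⟩
      rw [← Subgroup.orderOf_coe] at hk
      have hd1 : d = 1 := orderOf_eq_one_iff.1 (Nat.eq_one_of_dvd_coprimes
        (((Nat.Prime.coprime_iff_not_dvd hM.1).2 hx).symm.pow_right k) (orderOf_dvd_of_pow_eq_one hord) (hk ▸ dvd_rfl))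
      rw [hd1, one_mul] at hdx
      conv_rhs => rw [hdx, inv_mul_cancel_right]
    have e : ∀ η : G ⧸ Z → ℂ, centralChar (η ∘ QuotientGroup.mk) x = centralChar η (x : G ⧸ Z) := by
      intro η
      simp only [centralChar, Function.comp_apply, hidx, QuotientGroup.mk_one]
    rw [← e, ← e, ← inflChar_coe, ← inflChar_coe]
    exact (IsPBlock.mem_iff hM hB (hinfl.symm ▸ hθ)).1 (hbB ψ hψ) x
  have hφb : blockOf M (φ : G ⧸ Z → ℂ) = b :=
    (IsPBlock.eq_blockOf hM hb hψ).trans
      (IsPBlock.eq_blockOf hM (isPBlock_blockOf M φ) (show ψ ∈ blockOf M (φ : G ⧸ Z → ℂ) from hreg)).symm |>.symm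
  have hd0 : blockDefect p b = 0 := by
    have hd : degExp p φ = degExp p θ := by
      simp only [degExp, charDegree, ← hφ 1, QuotientGroup.mk_one]
    have hfull : (Nat.card (G ⧸ Z)).factorization p ≤ degExp p φ := by
      rw [Subgroup.card_eq_card_quotient_mul_card_subgroup Z,
        Nat.factorization_mul Nat.card_pos.ne' Nat.card_pos.ne', Finsupp.add_apply] at h
      omega
    have hnd : ¬ p ∣ Nat.card (G ⧸ Z) / charDegree (φ : G ⧸ Z → ℂ) := by
      intro hdv
      have hq0 : Nat.card (G ⧸ Z) / charDegree (φ : G ⧸ Z → ℂ) ≠ 0 :=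
        (Nat.div_pos (Nat.le_of_dvd Nat.card_pos (degree_dvd φ)) (charDegree_pos φ.2)).ne'
      have h1 := hM.1.factorization_pos_of_dvd hq0 hdv
      rw [degExp] at hfull
      rw [← Nat.mul_div_cancel' (degree_dvd φ), Nat.factorization_mul (charDegree_pos φ.2).ne' hq0,
        Finsupp.add_apply] at hfull
      omega
    rw [← hφb, blockDefect, (Cfsg.Agent.S0914.result p M hM φ).1 hnd, Set.image_singleton, csInf_singleton,
      Nat.sub_eq_zero_iff_le]
    exact hfull
  have hcard := card_defectGroup hM hb hbD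
  rw [hd0, pow_zero, Subgroup.card_eq_one] at hcard
  intro x hx
  have : (x : G ⧸ Z) ∈ D.map (QuotientGroup.mk' Z) := ⟨x, hx, rfl⟩
  rw [hcard, Subgroup.mem_bot] at this
  exact (QuotientGroup.eq_one_iff x).1 this

end CfsgLib.Blocks
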